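import Cfsg.Agent.OreOrth.Step

/-!
# Reflections and Eichler maps under `emb`

The factorisations into reflections are pushed along `emb`; the images of Eichler maps are Eichler.
-/

set_option autoImplicit false
set_option linter.unusedSectionVars false

namespace CfsgLib.OreOrth

open Matrix Module CfsgLib.Spinor CfsgLib.Forms

variable {F : Type*} [Field F] {ι : Type} [Fintype ι] [DecidableEq ι] {Q : QuadraticForm F (ι → F)}

theorem fromBlocks_one_mulVec (A : Matrix ι ι F) (a b : F) (w : ι → F) :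
    fromBlocks (1 : Matrix (Unit ⊕ Unit) (Unit ⊕ Unit) F) 0 0 A *ᵥ mk a b w = mk a b (A *ᵥ w) := by
  rw [fromBlocks_mulVec]
  funext i; rcases i with (i | i) | i <;> simp [mk, Function.comp_def]

theorem fromBlocks_reflectionMatrix (v : ι → F) :
    fromBlocks (1 : Matrix (Unit ⊕ Unit) (Unit ⊕ Unit) F) 0 0 (Cfsg.reflectionMatrix (⇑Q) v) =
      Cfsg.reflectionMatrix (⇑(extQ Q)) (mk 0 0 v) := by
  refine Matrix.ext_iff_mulVec.2 fun x => ?_
  obtain ⟨a, b, w, rfl⟩ := exists_mk x
  rw [fromBlocks_one_mulVec, reflectionMatrix_mulVec, reflectionMatrix_mulVec, refl_apply, refl_apply,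
    extQ_mk, polar_mk]
  simp [mk_inj]

/-- Reflection factorisations are pushed along `emb`. -/
theorem isReflProd_emb {g : ↥(Cfsg.isometryGroup F ⇑Q)} {vs : List (ι → F)} (h : IsReflProd Q g vs) :
    IsReflProd (extQ Q) (emb Q g) (vs.map (mk 0 0)) := by
  refine ⟨fun v hv => ?_, ?_⟩
  · obtain ⟨u, hu, rfl⟩ := List.mem_map.1 hv
    rw [extQ_mk, zero_mul, zero_add]
    exact h.1 u hu
  · rw [mat_emb, h.2, List.map_map]
    clear h
    induction vs with
    | nil => simp
    | cons v vs ih =>
      rw [List.map_cons, List.prod_cons, List.map_cons, List.prod_cons, ← ih, Function.comp_apply,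
        ← fromBlocks_reflectionMatrix, fromBlocks_multiply]
      simp

theorem extQ_map_prod (vs : List (ι → F)) :
    ((vs.map (mk 0 0)).map fun v => extQ Q v).prod = (vs.map fun v => Q v).prod := by
  rw [List.map_map]
  congr 1
  refine List.map_congr_left fun v _ => ?_
  simp

theorem emb_eichIso {u w : ι → F} (hu : Q u = 0) (huw : QuadraticMap.polar (⇑Q) u w = 0) :
    emb Q (eichIso Q u w hu huw) =
      eichIso (extQ Q) (mk 0 0 u) (mk 0 0 w) (by simpa using hu) (by simpa using huw) :=
  iso_ext Q fun a b x => by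
    rw [emb_mulVec, mat_eichIso, eich_mulVec, mat_eichIso, eich_mulVec]
    simp [mk_inj]

theorem card_ext : Fintype.card (Ext ι) = Fintype.card ι + 2 := by
  simp [Fintype.card_sum, add_comm]

theorem emb_lo_mem [Fintype F] (hQ : (QuadraticMap.polarBilin Q).Nondegenerate)
    (hc : 1 ≤ Fintype.card ι) (x : ι → F) :
    emb (extQ Q) (lo Q x) ∈ Cfsg.Omega F ⇑(extQ (extQ Q)) := by
  rw [lo, emb_eichIso]
  exact OrthMax.eich_mem_omega (extQ_nondegenerate _ (extQ_nondegenerate Q hQ))
    (by rw [card_ext, card_ext]; omega) _ _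

theorem emb_up_mem [Fintype F] (hQ : (QuadraticMap.polarBilin Q).Nondegenerate)
    (hc : 1 ≤ Fintype.card ι) (x : ι → F) :
    emb (extQ Q) (up Q x) ∈ Cfsg.Omega F ⇑(extQ (extQ Q)) := by
  rw [up, emb_eichIso]
  exact OrthMax.eich_mem_omega (extQ_nondegenerate _ (extQ_nondegenerate Q hQ))
    (by rw [card_ext, card_ext]; omega) _ _

end CfsgLib.OreOrth
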