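import Cfsg.Agent.OreOrth.Criterion
import Cfsg.Agent.OreGL.Good

/-!
# Matrices without invariant alternating forms from their characteristic polynomials
-/

set_option autoImplicit false
set_option linter.unusedSectionVars false

namespace CfsgLib.OreOrth

open Matrix Polynomial
open CfsgLib.LevCover (Sim)

variable {K : Type*} [Field K] {m : ℕ}

/-- No two roots are inverse to each other, except possibly a simple root `ε` with `ε ^ 2 = 1`. -/
def AltPoly (p : K[X]) : Prop :=
  p.eval 0 ≠ 0 ∧ ∃ (ε : K) (p₂ : K[X]), ε * ε = 1 ∧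
    (p = p₂ ∨ (p = (X - C ε) * p₂ ∧ p₂.eval ε ≠ 0)) ∧ IsCoprime p p₂.reverse

theorem alt_eq_neg {P : Matrix (Fin m) (Fin m) K} (hP : ∀ x, x ⬝ᵥ P *ᵥ x = 0) :
    (∀ i, P i i = 0) ∧ Pᵀ = -P := by
  have hd : ∀ i, P i i = 0 := fun i => by
    have := hP (Pi.single i 1)
    simpa [mulVec_single_one] using this
  refine ⟨hd, ?_⟩
  ext i j
  have := hP (Pi.single i 1 + Pi.single j 1)
  simp [mulVec_add, mulVec_single_one, hd] at this
  rw [Matrix.transpose_apply, Matrix.neg_apply]
  linear_combination this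

theorem altPoly_fixed {R : Matrix (Fin m) (Fin m) K} {p : K[X]} (hR : R.charpoly = p) (hp : AltPoly p)
    {S : Matrix (Fin m) (Fin m) K} (hS : ∀ x, x ⬝ᵥ S *ᵥ x = 0) (h : R * S * Rᵀ = S) : S = 0 := by
  obtain ⟨hd, hneg⟩ := alt_eq_neg hS
  obtain ⟨hp0, ε, p₂, hε, hcase, hco⟩ := hp
  have hdet : R.det ≠ 0 := by
    intro h0
    apply hp0
    rw [← hR, Matrix.eval_charpoly]
    simp [Matrix.det_neg, h0]
  have u : IsUnit Rᵀ.det := by rw [det_transpose]; exact isUnit_iff_ne_zero.2 hdet
  set N := (Rᵀ)⁻¹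
  have hNA : N * Rᵀ = 1 := Matrix.nonsing_inv_mul _ u
  have hAN : Rᵀ * N = 1 := Matrix.mul_nonsing_inv _ u
  have hRS : R * S = S * N := by
    conv_rhs => rw [← h]
    rw [Matrix.mul_assoc _ Rᵀ, hAN, Matrix.mul_one]
  have hu : IsUnit (aeval N p₂) := by
    obtain ⟨a, b, hab⟩ := hco
    have h1 : aeval Rᵀ b * aeval Rᵀ p₂.reverse = 1 := by
      have := congrArg (aeval Rᵀ) hab
      rw [map_add, map_mul, map_mul, map_one, ← hR, ← Matrix.charpoly_transpose R,
        Matrix.aeval_self_charpoly, mul_zero, zero_add] at this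
      exact this
    rw [← OreGL.aeval_inv_mul_pow hNA, ← Matrix.mul_assoc] at h1
    have h2' : IsUnit ((aeval Rᵀ b * aeval N p₂).det) := by
      have := congrArg det h1
      rw [det_mul, det_one] at this
      exact IsUnit.of_mul_eq_one _ this
    rw [det_mul] at h2'
    exact (Matrix.isUnit_iff_isUnit_det _).2 (isUnit_of_mul_isUnit_right h2')
  have hz : S * aeval N p = 0 := by
    rw [← OreGL.aeval_intertwine p R N S hRS, ← hR, Matrix.aeval_self_charpoly, Matrix.zero_mul]
  rcases hcase with hcase | ⟨hcase, hm⟩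
  · rw [hcase] at hz
    exact hu.mul_left_eq_zero.1 hz
  · rw [hcase, map_mul, ← Matrix.mul_assoc] at hz
    have hz1 := hu.mul_left_eq_zero.1 hz
    rw [map_sub, aeval_X, aeval_C, Algebra.algebraMap_eq_smul_one, Matrix.mul_sub, Matrix.mul_smul,
      Matrix.mul_one, ← hRS, sub_eq_zero] at hz1
    have hle : LinearMap.range (Matrix.toLin' S) ≤ Module.End.eigenspace (Matrix.toLin' R) ε := by
      rintro _ ⟨x, rfl⟩
      rw [Module.End.mem_eigenspace_iff, Matrix.toLin'_apply, Matrix.toLin'_apply, mulVec_mulVec, hz1,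
        smul_mulVec]
    have hmult : (Matrix.toLin' R).charpoly.rootMultiplicity ε ≤ 1 := by
      rw [Matrix.charpoly_toLin', hR, hcase]
      have hne : (X - C ε) * p₂ ≠ 0 := by rw [← hcase, ← hR]; exact (charpoly_monic R).ne_zero
      rw [rootMultiplicity_mul hne, rootMultiplicity_eq_zero (p := p₂) hm, rootMultiplicity_X_sub_C_self]
    have hrk : Module.finrank K (LinearMap.range (Matrix.toLin' S)) ≤ 1 :=
      (Submodule.finrank_mono hle).trans ((LinearMap.finrank_eigenspace_le _ _).trans hmult)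
    obtain ⟨w, hw⟩ := (Submodule.finrank_le_one_iff_isPrincipal _).1 hrk
    have hcol : ∀ j, ∃ a : K, a • w = S *ᵥ Pi.single j 1 := fun j =>
      Submodule.mem_span_singleton.1 (hw ▸ ⟨Pi.single j 1, Matrix.toLin'_apply S _⟩)
    choose a ha using hcol
    have hSe : ∀ i j, S i j = a j * w i := fun i j => by
      have := congrFun (ha j) i
      rw [mulVec_single_one] at this
      simpa using this.symm
    ext i j
    have := congrFun (congrFun hneg i) j
    simp only [transpose_apply, Matrix.neg_apply] at this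
    have h3 : S i j * S i j = 0 := by
      have e : S i j * S j i = S i i * S j j := by rw [hSe i j, hSe j i, hSe i i, hSe j j]; ring
      rw [hd, zero_mul, this] at e
      linear_combination -e
    simpa using h3

theorem goodAlt_of_charpoly {R : Matrix (Fin m) (Fin m) K} {p : K[X]} (hR : R.charpoly = p)
    (hp : AltPoly p) : GoodAlt R := by
  intro P hP h
  rcases h with h | h
  · exact altPoly_fixed (R := Rᵀ) (by rw [Matrix.charpoly_transpose, hR]) hp hP (by rwa [transpose_transpose])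
  · exact altPoly_fixed hR hp hP h

/-- `Sim R (M * R)` in units. -/
theorem exists_units {M : (Matrix (Fin m) (Fin m) K)ˣ} {R : Matrix (Fin m) (Fin m) K} (hR : R.det ≠ 0)
    (h : Sim R ((M : Matrix (Fin m) (Fin m) K) * R)) :
    ∃ R' S : (Matrix (Fin m) (Fin m) K)ˣ, (R' : Matrix (Fin m) (Fin m) K) = R ∧ M * R' = S * R' * S⁻¹ := by
  obtain ⟨P, P', h1, h2, h3⟩ := h
  obtain ⟨R', hR'⟩ : IsUnit R := (Matrix.isUnit_iff_isUnit_det R).2 (isUnit_iff_ne_zero.2 hR)
  refine ⟨R', ⟨P, P', h1, h2⟩, hR', Units.ext ?_⟩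
  simp only [Units.val_mul, hR']
  exact h3

end CfsgLib.OreOrth
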