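import Cfsg.Agent.OreOrth.EmbRefl

/-!
# The step over a plane

Over a binary space the middle part of the factorisation can be removed altogether, for elements
whose image in six dimensions lies in `Ω`.
-/

set_option autoImplicit false
set_option linter.unusedSectionVars false

namespace CfsgLib.OreOrth

open Matrix Module CfsgLib.Spinor CfsgLib.Forms

variable {F : Type*} [Field F] {ι : Type} [Fintype ι] [DecidableEq ι] {Q : QuadraticForm F (ι → F)}

theorem exists_coords_pair (h2 : Fintype.card ι = 2) {a b : ι → F}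
    (hab : LinearIndependent F ![a, b]) (x : ι → F) : ∃ p r : F, p • a + r • b = x := by
  have h := hab.span_eq_top_of_card_eq_finrank (by rw [Module.finrank_pi, h2, Fintype.card_fin])
  have hx : x ∈ Submodule.span F (Set.range ![a, b]) := by rw [h]; exact Submodule.mem_top
  obtain ⟨c, hc⟩ := (Submodule.mem_span_range_iff_exists_fun F).1 hx
  exact ⟨c 0, c 1, by rw [← hc, Fin.sum_univ_two]; rfl⟩

theorem refl_mul_refl {a : ι → F} (ha : Q a ≠ 0) :
    reflIso Q a ha * reflIso Q a ha = 1 :=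
  mat_ext Q (by rw [mat_mul, mat_one, mat_reflIso, reflectionMatrix_mul_self Q ha])

theorem reflIso_smul {a : ι → F} {k : F} (hk : k ≠ 0) (ha : Q a ≠ 0) (hka : Q (k • a) ≠ 0) :
    reflIso Q (k • a) hka = reflIso Q a ha := by
  refine mat_ext Q (Matrix.ext_iff_mulVec.2 fun x => ?_)
  rw [mat_reflIso, mat_reflIso, reflectionMatrix_mulVec, reflectionMatrix_mulVec, refl_apply,
    refl_apply, QuadraticMap.map_smul, QuadraticMap.polar_smul_left, smul_smul]
  congr 2
  simp only [smul_eq_mul]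
  field_simp

/-- Three reflections of a plane make one. -/
theorem three_refl (h2 : Fintype.card ι = 2) {a b c : ι → F} (ha : Q a ≠ 0) (hb : Q b ≠ 0)
    (hc : Q c ≠ 0) : ∃ d, ∃ hd : Q d ≠ 0,
      reflIso Q a ha * reflIso Q b hb * reflIso Q c hc = reflIso Q d hd ∧
      ∃ s : F, Q a * Q b * Q c = s * s * Q d := by
  by_cases hab : LinearIndependent F ![a, b]
  · obtain ⟨p, r, rfl⟩ := exists_coords_pair h2 hab c
    set A := Q a with hA
    set B := Q b with hB
    set t := QuadraticMap.polar (⇑Q) a b with ht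
    have qc : Q (p • a + r • b) = p * p * A + r * r * B + p * r * t := by
      rw [QuadraticMap.map_add (⇑Q), QuadraticMap.map_smul, QuadraticMap.map_smul,
        QuadraticMap.polar_smul_left, QuadraticMap.polar_smul_right]
      simp only [smul_eq_mul, ← hA, ← hB, ← ht]; ring
    set d := (p * t + r * B) • a + (-(p * A)) • b with hd
    have qd : Q d = A * B * Q (p • a + r • b) := by
      rw [hd, QuadraticMap.map_add (⇑Q), QuadraticMap.map_smul, QuadraticMap.map_smul,
        QuadraticMap.polar_smul_left, QuadraticMap.polar_smul_right, qc]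
      simp only [smul_eq_mul, ← hA, ← hB, ← ht]; ring
    have hd0 : Q d ≠ 0 := by rw [qd]; exact mul_ne_zero (mul_ne_zero ha hb) hc
    refine ⟨d, hd0, ?_, 1, by rw [qd]; ring⟩
    refine mat_ext Q (Matrix.ext_iff_mulVec.2 fun x => ?_)
    obtain ⟨u, v, rfl⟩ := exists_coords_pair h2 hab x
    simp only [mat_mul, ← mulVec_mulVec, mat_reflIso, reflectionMatrix_mulVec, refl_apply]
    simp only [QuadraticMap.polar_add_left, QuadraticMap.polar_add_right, QuadraticMap.polar_sub_right,
      QuadraticMap.polar_smul_left, QuadraticMap.polar_smul_right, hd, polar_self', smul_eq_mul,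
      QuadraticMap.polar_comm (⇑Q) b a, ← hA, ← hB, ← ht]
    rw [← hd, qd]
    generalize hC : Q (p • a + r • b) = C at *
    match_scalars <;> field_simp <;> rw [qc] <;> ring
  · obtain ⟨k, rfl⟩ : ∃ k : F, k • a = b := by
      rw [LinearIndependent.pair_iff' (fun h => ha (by rw [h, QuadraticMap.map_zero]))] at hab
      push Not at hab
      exact hab
    have hk : k ≠ 0 := fun h => hb (by rw [h, zero_smul, QuadraticMap.map_zero])
    refine ⟨c, hc, by rw [reflIso_smul hk ha hb, refl_mul_refl ha, one_mul], k * Q a, ?_⟩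
    rw [QuadraticMap.map_smul, smul_eq_mul]; ring

/-- An element of the plane with the `Ω` condition is a product of two reflections, or trivial. -/
theorem exists_pair_of_emb [Fintype F] (hQ : (QuadraticMap.polarBilin Q).Nondegenerate)
    (h2 : Fintype.card ι = 2) (c : ↥(Cfsg.isometryGroup F ⇑Q))
    (hc : emb (extQ Q) (emb Q c) ∈ Cfsg.Omega F ⇑(extQ (extQ Q))) :
    c = 1 ∨ ∃ a b, ∃ ha : Q a ≠ 0, ∃ hb : Q b ≠ 0,
      c = reflIso Q a ha * reflIso Q b hb ∧ IsSquare (Q a * Q b) := by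
  obtain ⟨vs, hvs⟩ := exists_isReflProd_finite hQ (Or.inr (by omega)) c
  obtain ⟨ws, hws, hlen⟩ : ∃ ws, IsReflProd Q c ws ∧ ws.length ≤ 2 := by
    obtain ⟨n, hn⟩ : ∃ n, vs.length = n := ⟨_, rfl⟩
    induction n using Nat.strong_induction_on generalizing vs with
    | _ n ih =>
      match vs, hvs, hn with
      | [], h, _ => exact ⟨[], h, by simp⟩
      | [a], h, _ => exact ⟨[a], h, by simp⟩
      | [a, b], h, _ => exact ⟨[a, b], h, by simp⟩
      | a :: b :: e :: r, h, hn => 
        obtain ⟨d, hd, he, -⟩ := three_refl h2 (h.1 a (by simp)) (h.1 b (by simp)) (h.1 e (by simp))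
        have hm := congrArg (mat Q) he
        rw [mat_mul, mat_mul, mat_reflIso, mat_reflIso, mat_reflIso, mat_reflIso] at hm
        refine ih (d :: r).length ?_ (d :: r) ⟨?_, ?_⟩ rfl
        · rw [← hn]; simp
        · intro v hv
          rcases List.mem_cons.1 hv with rfl | hv
          · exact hd
          · exact h.1 v (by simp [hv])
        · rw [h.2]
          simp only [List.map_cons, List.prod_cons, ← hm, mul_assoc]
  have key := (OmegaOrbits.mem_omega_iff_even (extQ_nondegenerate _ (extQ_nondegenerate Q hQ))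
    (Or.inr (by rw [card_ext, card_ext]; omega)) (isReflProd_emb (isReflProd_emb hws))).1 hc
  rw [List.length_map, List.length_map, extQ_map_prod, extQ_map_prod] at key
  match ws, hws, hlen, key with
  | [], h, _, _ => exact Or.inl (mat_ext Q (by rw [h.2, mat_one]; simp))
  | [a], _, _, key => exact absurd key.1 (by simp)
  | [a, b], h, _, key =>
    refine Or.inr ⟨a, b, h.1 a (by simp), h.1 b (by simp), mat_ext Q (h.2.trans ?_), by simpa using key.2⟩
    rw [mat_mul, mat_reflIso, mat_reflIso]; simp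
  | _ :: _ :: _ :: r, _, hl, _ => simp at hl

/-- Moving `lo x` across `up d`. -/
theorem lo_conj_up {x x' : ι → F} (hx : Q x ≠ 0) (hx' : Q x' ≠ 0) (h : Q x' = Q x) :
    ∃ y', (up Q ((Q x)⁻¹ • (x' - x)))⁻¹ * lo Q x =
      lo Q x' * emb Q (reflIso Q x' hx' * reflIso Q x hx) * up Q y' := by
  set d := (Q x)⁻¹ • (x' - x) with hd
  have hBd : ∀ z, QuadraticMap.polar (⇑Q) d z =
      (Q x)⁻¹ * (QuadraticMap.polar (⇑Q) x' z - QuadraticMap.polar (⇑Q) x z) := fun z => by
    rw [hd, QuadraticMap.polar_smul_left, QuadraticMap.polar_sub_left, smul_eq_mul]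
  have hQd : Q d = (Q x)⁻¹ * (Q x)⁻¹ * (Q x + Q x - QuadraticMap.polar (⇑Q) x' x) := by
    rw [hd, QuadraticMap.map_smul, smul_eq_mul, sub_eq_add_neg x', QuadraticMap.map_add (⇑Q),
      QuadraticMap.map_neg, QuadraticMap.polar_neg_right, h]
    ring
  obtain ⟨-, m, y', hm⟩ := exists_decomp Q (g := (up Q d)⁻¹ * lo Q x) (s := -Q x) (x := x') (by
    rw [mat_mul, ← mulVec_mulVec, lo_mulVec, up_inv, up_mulVec, mk_inj]
    simp only [QuadraticMap.polar_zero_right, zero_add, one_smul, sub_zero, zero_sub, mul_one,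
      QuadraticMap.polar_neg_left, QuadraticMap.map_neg, hBd, hQd, polar_self', neg_mul, neg_neg]
    refine ⟨by field_simp; ring, trivial, ?_⟩
    rw [hd, smul_neg, neg_smul, smul_smul, neg_neg, mul_inv_cancel₀ hx, one_smul,
      add_sub_cancel])
  refine ⟨y', ?_⟩
  rw [hm]
  congr 3
  refine mat_ext Q (Matrix.ext_iff_mulVec.2 fun z => ?_)
  have e : mat Q m *ᵥ z = ((mat (extQ Q) ((lo Q x')⁻¹ * ((up Q d)⁻¹ * lo Q x))) *ᵥ mk 0 0 z) ∘
      Sum.inr := by
    rw [hm, ← mul_assoc, inv_mul_cancel_left, mat_mul, ← mulVec_mulVec, up_mulVec, emb_mulVec]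
    funext i
    simp [mk]
  rw [e]
  funext i
  simp only [Function.comp_apply, mat_mul, lo_inv, up_inv, ← mulVec_mulVec, lo_mulVec, up_mulVec,
    mat_reflIso, reflectionMatrix_mulVec, refl_apply, zero_smul, add_zero, mul_zero, sub_zero,
    QuadraticMap.polar_neg_left, QuadraticMap.map_neg, neg_mul, mul_neg, neg_neg,
    QuadraticMap.polar_sub_right, QuadraticMap.polar_smul_right, hBd, hQd, h]
  simp only [hd, mk, Sum.elim_inr, QuadraticMap.polar_neg_left,
    QuadraticMap.map_neg, QuadraticMap.polar_sub_right, QuadraticMap.polar_smul_right,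
    Pi.add_apply, Pi.sub_apply, Pi.smul_apply, Pi.neg_apply, smul_eq_mul, hBd, hQd, h,
    QuadraticMap.polar_comm (⇑Q) x' x, mul_zero, zero_mul, add_zero, sub_zero, zero_add, zero_sub,
    neg_mul, mul_neg, neg_neg]
  field_simp
  ring

/-- The base of the recursion. -/
theorem exists_base [Fintype F] (hQ : (QuadraticMap.polarBilin Q).Nondegenerate)
    (h2 : Fintype.card ι = 2) {g : ↥(Cfsg.isometryGroup F ⇑(extQ Q))}
    (hg : ∀ c : F, mat (extQ Q) g ≠ c • 1)
    (hΩ : emb (extQ Q) g ∈ Cfsg.Omega F ⇑(extQ (extQ Q))) :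
    ∃ P x y, P⁻¹ * g * P = lo Q x * up Q y := by
  have hB := extQ_nondegenerate Q hQ
  have hval : ∀ k : F, k ≠ 0 → ∃ t, Q t = k := by
    intro k hk
    obtain ⟨t, -, ht⟩ := OmegaOrbits.exists_value_mem (Q := Q) (X := ⊤)
      (by
        rw [top_inf_eq, Submodule.eq_bot_iff]
        exact fun x hx => hQ.1 x fun y => by
          have : QuadraticMap.polar (⇑Q) y x = 0 := hx y Submodule.mem_top
          show QuadraticMap.polar (⇑Q) x y = 0
          rwa [QuadraticMap.polar_comm])
      (by rw [finrank_top, Module.finrank_pi, h2]) k hk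
    exact ⟨t, ht⟩
  obtain ⟨z, hz⟩ := hval 1 one_ne_zero
  have hz' : ∃ t, Q t ≠ 0 := ⟨z, by rw [hz]; exact one_ne_zero⟩
  have omega_conj : ∀ P : ↥(Cfsg.isometryGroup F ⇑(extQ Q)),
      emb (extQ Q) (P⁻¹ * g * P) ∈ Cfsg.Omega F ⇑(extQ (extQ Q)) := by
    intro P
    rw [map_mul, map_mul, map_inv]
    have hn : (Cfsg.Omega F ⇑(extQ (extQ Q))).Normal := Subgroup.commutator_normal _ _
    simpa using hn.conj_mem _ hΩ (emb (extQ Q) P)⁻¹
  have middle : ∀ P x y c, P⁻¹ * g * P = lo Q x * emb Q c * up Q y →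
      emb (extQ Q) (emb Q c) ∈ Cfsg.Omega F ⇑(extQ (extQ Q)) := by
    intro P x y c h
    have h3 := omega_conj P
    rw [h, map_mul, map_mul] at h3
    exact (Subgroup.mul_mem_cancel_left _ (emb_lo_mem hQ (by omega) x)).1
      ((Subgroup.mul_mem_cancel_right _ (emb_up_mem hQ (by omega) y)).1 h3)
  by_cases hcase : ∃ v, extQ Q v = 0 ∧
      QuadraticMap.polar (⇑(extQ Q)) v (mat (extQ Q) g *ᵥ v) ≠ 0
  · obtain ⟨v, hvs, hv⟩ := hcase
    have hv0 : v ≠ 0 := fun h => hv (by rw [h, QuadraticMap.polar_zero_left])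
    obtain ⟨P₀, hP₀⟩ := exists_iso_map hB (x := mk 1 0 0) (y := v)
      (fun h => one_ne_zero (congrFun h (.inl (.inl ())))) hv0 (by rw [q_e0, hvs])
    obtain ⟨α, β, x₀, hg1⟩ := exists_mk (mat (extQ Q) (P₀⁻¹ * g * P₀) *ᵥ mk 1 0 0)
    have hgv : mat (extQ Q) g *ᵥ v = mat (extQ Q) P₀ *ᵥ mk α β x₀ := by
      rw [← hg1, mulVec_mulVec, ← mat_mul, ← mul_assoc, ← mul_assoc, mul_inv_cancel, one_mul,
        mat_mul, ← mulVec_mulVec, hP₀]
    have hβ : β ≠ 0 := by
      rw [hgv, ← hP₀, polar_mulVec] at hv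
      simpa using hv
    have hsing : α * β + Q x₀ = 0 := by
      have h := quad_mulVec (extQ Q) (P₀⁻¹ * g * P₀) (mk 1 0 0)
      rw [hg1] at h
      simpa using h
    obtain ⟨t, ht⟩ := hval (-β⁻¹) (neg_ne_zero.2 (inv_ne_zero hβ))
    set w := β⁻¹ • x₀ + t with hw
    have hw1 : α + QuadraticMap.polar (⇑Q) w x₀ - Q w * β = 1 := by
      rw [hw, QuadraticMap.polar_add_left, QuadraticMap.polar_smul_left, polar_self', smul_eq_mul,
        QuadraticMap.map_add (⇑Q), QuadraticMap.map_smul, QuadraticMap.polar_smul_left, ht,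
        QuadraticMap.polar_comm (⇑Q) t, smul_eq_mul, smul_eq_mul]
      field_simp
      linear_combination hsing
    obtain ⟨c, y, h⟩ := exists_decomp_conj hg1 hw1
    set x := x₀ - β • w with hxdef
    have hx : Q x ≠ 0 := by
      rw [hxdef, hw, smul_add, smul_smul, mul_inv_cancel₀ hβ, one_smul, sub_add_cancel_left,
        QuadraticMap.map_neg, QuadraticMap.map_smul, ht, smul_eq_mul]
      exact mul_ne_zero (mul_ne_zero hβ hβ) (neg_ne_zero.2 (inv_ne_zero hβ))
    have h' : (P₀ * up Q w)⁻¹ * g * (P₀ * up Q w) = lo Q x * emb Q c * up Q y := by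
      rw [← h]; group
    rcases exists_pair_of_emb hQ h2 c (middle _ _ _ _ h') with hc | ⟨a, b, ha, hb, hc, r, hr⟩
    · exact ⟨_, x, y, by rw [h', hc, map_one, mul_one]⟩
    · obtain ⟨d, hd, hde, s, hs⟩ := three_refl h2 hb ha hx
      have hr0 : r ≠ 0 := fun h0 => mul_ne_zero ha hb (by rw [hr, h0, mul_zero])
      have hs0 : s ≠ 0 := fun h0 => mul_ne_zero (mul_ne_zero hb ha) hx (by rw [hs, h0]; ring)
      have hk : s / r ≠ 0 := div_ne_zero hs0 hr0
      have hqx' : Q ((s / r) • d) = Q x := by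
        rw [QuadraticMap.map_smul, smul_eq_mul]
        field_simp
        linear_combination -hs + Q x * hr
      have hx' : Q ((s / r) • d) ≠ 0 := by rw [hqx']; exact hx
      obtain ⟨y', hy'⟩ := lo_conj_up hx hx' hqx'
      set e := (Q x)⁻¹ • ((s / r) • d - x)
      refine ⟨P₀ * up Q w * up Q e, (s / r) • d, mat Q c⁻¹ *ᵥ y' + y + e, ?_⟩
      have hone : emb Q (reflIso Q ((s / r) • d) hx' * reflIso Q x hx) * emb Q c = 1 := by
        rw [← map_mul, reflIso_smul hk hd hx', ← hde, hc]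
        simp only [mul_assoc]
        rw [← mul_assoc (reflIso Q x hx), refl_mul_refl hx, one_mul,
          ← mul_assoc (reflIso Q a ha), refl_mul_refl ha, one_mul, refl_mul_refl hb, map_one]
      calc (P₀ * up Q w * up Q e)⁻¹ * g * (P₀ * up Q w * up Q e)
          = (up Q e)⁻¹ * ((P₀ * up Q w)⁻¹ * g * (P₀ * up Q w)) * up Q e := by group
        _ = ((up Q e)⁻¹ * lo Q x) * emb Q c * (up Q y * up Q e) := by rw [h']; group
        _ = lo Q ((s / r) • d) * emb Q (reflIso Q _ hx' * reflIso Q x hx) * (up Q y' * emb Q c) *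
            (up Q y * up Q e) := by rw [hy']; group
        _ = lo Q ((s / r) • d) * (emb Q (reflIso Q _ hx' * reflIso Q x hx) * emb Q c) *
            (up Q (mat Q c⁻¹ *ᵥ y') * (up Q y * up Q e)) := by rw [up_emb]; group
        _ = _ := by rw [hone, mul_one, up_mul, up_mul, ← add_assoc]
  · simp only [not_exists, not_and, not_not] at hcase
    obtain ⟨v, hv0, hvs, hvm⟩ := exists_moved hz' hg
    obtain ⟨P₀, hP₀⟩ := exists_iso_map hB (x := mk 1 0 0) (y := v)
      (fun h => one_ne_zero (congrFun h (.inl (.inl ())))) hv0 (by rw [q_e0, hvs])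
    obtain ⟨α, β, x₀, hg1⟩ := exists_mk (mat (extQ Q) (P₀⁻¹ * g * P₀) *ᵥ mk 1 0 0)
    have hgv : mat (extQ Q) g *ᵥ v = mat (extQ Q) P₀ *ᵥ mk α β x₀ := by
      rw [← hg1, mulVec_mulVec, ← mat_mul, ← mul_assoc, ← mul_assoc, mul_inv_cancel, one_mul,
        mat_mul, ← mulVec_mulVec, hP₀]
    have hβ : β = 0 := by
      have h := hcase v hvs
      rw [hgv, ← hP₀, polar_mulVec] at h
      simpa using h
    subst hβ
    have hx0 : x₀ ≠ 0 := by
      rintro rfl
      refine hvm α ?_
      rw [hgv, ← hP₀, ← mulVec_smul]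
      simp
    have hq0 : Q x₀ = 0 := by
      have h := quad_mulVec (extQ Q) (P₀⁻¹ * g * P₀) (mk 1 0 0)
      rw [hg1] at h
      simpa using h
    obtain ⟨x₁, -, hq1, h01⟩ := OrthMax.exists_partner_in (K := ⊤) Submodule.mem_top hq0 (by
      by_contra! h
      exact hx0 (hQ.1 x₀ fun y => h y Submodule.mem_top))
    obtain ⟨c, y, h⟩ := exists_decomp_conj (w := (1 - α) • x₁) hg1 (by
      rw [QuadraticMap.polar_smul_left, QuadraticMap.polar_comm (⇑Q) x₁, h01, smul_eq_mul]; ring)
    simp only [zero_smul, sub_zero] at h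
    set P := P₀ * up Q ((1 - α) • x₁) with hP
    have h' : P⁻¹ * g * P = lo Q x₀ * emb Q c * up Q y := by rw [← h, hP]; group
    clear_value P
    refine ⟨P, x₀, y, ?_⟩
    suffices hc : c = 1 by rw [h', hc, map_one, mul_one]
    have test : ∀ u, extQ Q u = 0 → QuadraticMap.polar (⇑(extQ Q)) u
        (mat (extQ Q) (lo Q x₀ * emb Q c * up Q y) *ᵥ u) = 0 := by
      intro u hu
      rw [← h', ← polar_mulVec (extQ Q) P u (mat (extQ Q) (P⁻¹ * g * P) *ᵥ u), mulVec_mulVec, ← mat_mul,
        show P * (P⁻¹ * g * P) = g * P by group, mat_mul (extQ Q) g P, ← mulVec_mulVec]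
      exact hcase _ ((quad_mulVec (extQ Q) P u).trans hu)
    have e1 := test (mk 0 0 x₁) (by simp [hq1])
    have e2 := test (mk 1 0 x₁) (by simp [hq1])
    simp [mat_mul, ← mulVec_mulVec, QuadraticMap.polar_add_right, QuadraticMap.polar_smul_right,
      hq0, h01, QuadraticMap.polar_comm (⇑Q) x₁ x₀] at e1 e2
    have h1 : QuadraticMap.polar (⇑Q) x₀ (mat Q c *ᵥ x₁) = 1 := by linear_combination e1 - e2
    have hli : LinearIndependent F ![x₀, x₁] := by
      rw [LinearIndependent.pair_iff' hx0]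
      intro k hk
      rw [← hk, QuadraticMap.polar_smul_right, polar_self', hq0, smul_eq_mul] at h01
      simp at h01
    have hcx1 : mat Q c *ᵥ x₁ = x₁ := by
      obtain ⟨p, r, hpr⟩ := exists_coords_pair h2 hli (mat Q c *ᵥ x₁)
      have hq := quad_mulVec Q c x₁
      rw [← hpr] at h1 hq ⊢
      simp [QuadraticMap.polar_smul_right, polar_self', hq0, h01] at h1
      rw [QuadraticMap.map_add (⇑Q), QuadraticMap.map_smul, QuadraticMap.map_smul,
        QuadraticMap.polar_smul_left, QuadraticMap.polar_smul_right, h01, hq0, hq1, h1] at hq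
      simp at hq
      rw [hq, h1]; simp
    have hcx0 : mat Q c *ᵥ x₀ = x₀ := by
      obtain ⟨p, r, hpr⟩ := exists_coords_pair h2 hli (mat Q c *ᵥ x₀)
      have hq := quad_mulVec Q c x₀
      have hb := polar_mulVec Q c x₀ x₁
      rw [hcx1, ← hpr, h01] at hb
      rw [← hpr] at hq ⊢
      simp [QuadraticMap.polar_smul_left, polar_self', hq1, h01] at hb
      rw [QuadraticMap.map_add (⇑Q), QuadraticMap.map_smul, QuadraticMap.map_smul,
        QuadraticMap.polar_smul_left, QuadraticMap.polar_smul_right, h01, hq0, hq1, hb] at hq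
      simp at hq
      rw [hq, hb]; simp
    refine mat_ext Q (Matrix.ext_iff_mulVec.2 fun x => ?_)
    obtain ⟨p, r, rfl⟩ := exists_coords_pair h2 hli x
    rw [mat_one, one_mulVec, mulVec_add, mulVec_smul, mulVec_smul, hcx0, hcx1]

end CfsgLib.OreOrth
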