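import Cfsg.Agent.OreOrth.Frame
import Cfsg.Agent.Linear.Perfect

/-!
# Levi elements in `Ω`

`dg R c` lies in `Ω` when `c` is a product of an even number of reflections whose spinor class is
that of `det R`.
-/

set_option autoImplicit false
set_option linter.unusedSectionVars false

namespace CfsgLib.OreOrth

open Matrix CfsgLib.Spinor CfsgLib.Forms
open scoped MatrixGroups

variable {F : Type*} [Field F] [Fintype F] {m : ℕ} {β : Type} [Fintype β] [DecidableEq β]
variable (Q₀ : QuadraticForm F (β → F))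

theorem dg_mem_of_det (hm : 3 ≤ m) (M : (Matrix (Fin m) (Fin m) F)ˣ)
    (hM : (M : Matrix (Fin m) (Fin m) F).det = 1) : dg Q₀ M 1 ∈ Cfsg.Omega F ⇑(frQ m Q₀) := by
  let f : SpecialLinearGroup (Fin m) F →* ↥(Cfsg.isometryGroup F ⇑(frQ m Q₀)) :=
    (dgHom Q₀).comp (MonoidHom.prod Matrix.SpecialLinearGroup.toGL 1)
  let A : SpecialLinearGroup (Fin m) F := ⟨(M : Matrix (Fin m) (Fin m) F), hM⟩
  have hA : A ∈ commutator (SpecialLinearGroup (Fin m) F) := by
    rw [Linear.commutator_SL_eq_top (by rwa [Fintype.card_fin])]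
    exact Subgroup.mem_top _
  have h : (commutator (SpecialLinearGroup (Fin m) F)).map f ≤ Cfsg.Omega F ⇑(frQ m Q₀) := by
    rw [Cfsg.Omega, commutator_def, Subgroup.map_commutator]
    exact Subgroup.commutator_mono le_top le_top
  have e : f A = dg Q₀ M 1 := by
    show dgHom Q₀ (_, 1) = dgHom Q₀ (M, 1)
    congr 2
    exact Units.ext rfl
  exact e ▸ h ⟨A, hA, rfl⟩

theorem dgMat_reflectionMatrix (v : β → F) :
    dgMat (1 : (Matrix (Fin m) (Fin m) F)ˣ) (Cfsg.reflectionMatrix (⇑Q₀) v) =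
      Cfsg.reflectionMatrix (⇑(frQ m Q₀)) (fv 0 0 v) := by
  refine Matrix.ext_iff_mulVec.2 fun x => ?_
  obtain ⟨p, q, w, rfl⟩ := exists_fv x
  rw [dgMat_mulVec, reflectionMatrix_mulVec, reflectionMatrix_mulVec, refl_apply, refl_apply,
    frQ_fv, polar_fv]
  simp [fv_sub]

theorem isReflProd_dg {c : ↥(Cfsg.isometryGroup F ⇑Q₀)} {vs : List (β → F)} (h : IsReflProd Q₀ c vs) :
    IsReflProd (frQ m Q₀) (dg Q₀ 1 c) (vs.map (fv 0 0)) := by
  refine ⟨fun v hv => ?_, ?_⟩
  · obtain ⟨u, hu, rfl⟩ := List.mem_map.1 hv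
    rw [frQ_fv, zero_dotProduct, zero_add]
    exact h.1 u hu
  · rw [mat_dg, h.2, List.map_map]
    clear h
    induction vs with
    | nil => simp [dgMat_one]
    | cons v vs ih =>
      rw [List.map_cons, List.prod_cons, List.map_cons, List.prod_cons, ← ih, Function.comp_apply,
        ← dgMat_reflectionMatrix, ← dgMat_mul, one_mul]

/-- `diag (d, 1, …, 1)`. -/
def dunit {k : ℕ} (d : F) (hd : d ≠ 0) : (Matrix (Fin (k + 1)) (Fin (k + 1)) F)ˣ where
  val := diagonal (Function.update 1 0 d)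
  inv := diagonal (Function.update 1 0 d⁻¹)
  val_inv := by
    rw [diagonal_mul_diagonal, ← diagonal_one]
    congr 1; funext i
    refine Fin.cases ?_ (fun j => ?_) i <;> simp [hd]
  inv_val := by
    rw [diagonal_mul_diagonal, ← diagonal_one]
    congr 1; funext i
    refine Fin.cases ?_ (fun j => ?_) i <;> simp [hd]

theorem isReflProd_dunit {k : ℕ} (d : F) (hd : d ≠ 0) :
    IsReflProd (frQ (k + 1) Q₀) (dg Q₀ (dunit d hd) 1)
      [fv (Pi.single 0 1) (Pi.single 0 d⁻¹) 0, fv (Pi.single 0 1) (Pi.single 0 1) 0] := by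
  refine ⟨fun v hv => ?_, Matrix.ext_iff_mulVec.2 fun x => ?_⟩
  · simp only [List.mem_cons, List.not_mem_nil, or_false] at hv
    rcases hv with rfl | rfl <;> simp [hd]
  · obtain ⟨p, q, w, rfl⟩ := exists_fv x
    simp only [List.map_cons, List.map_nil, List.prod_cons, List.prod_nil, mul_one, ← mulVec_mulVec,
      reflectionMatrix_mulVec, refl_apply, dg_mulVec, mat_one, one_mulVec]
    simp only [frQ_fv, polar_fv, fv_smul, fv_sub, smul_zero, sub_zero]
    refine fv_inj.2 ⟨?_, ?_, rfl⟩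
    · funext i
      show (diagonal (Function.update 1 0 d) *ᵥ p) i = _
      rw [mulVec_diagonal]
      refine Fin.cases ?_ (fun j => ?_) i <;> simp <;> field_simp <;> ring
    · funext i
      show ((diagonal (Function.update 1 0 d⁻¹))ᵀ *ᵥ q) i = _
      rw [diagonal_transpose, mulVec_diagonal]
      refine Fin.cases ?_ (fun j => ?_) i <;> simp <;> field_simp <;> ring

/-- Membership of Levi elements. -/
theorem dg_mem_omega (hQ : (QuadraticMap.polarBilin Q₀).Nondegenerate) (hm : 3 ≤ m)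
    (R : (Matrix (Fin m) (Fin m) F)ˣ) {c : ↥(Cfsg.isometryGroup F ⇑Q₀)} {vs : List (β → F)}
    (h : IsReflProd Q₀ c vs) (he : Even vs.length)
    (hs : IsSquare ((R : Matrix (Fin m) (Fin m) F).det * (vs.map fun v => Q₀ v).prod)) :
    dg Q₀ R c ∈ Cfsg.Omega F ⇑(frQ m Q₀) := by
  obtain ⟨k, rfl⟩ : ∃ k, m = k + 1 := ⟨m - 1, by omega⟩
  set d := (R : Matrix (Fin (k + 1)) (Fin (k + 1)) F).det with hd
  have hd0 : d ≠ 0 := fun h0 => by
    have := congrArg Matrix.det R.mul_inv
    rw [det_mul, ← hd, h0, zero_mul, det_one] at this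
    exact zero_ne_one this
  have e : dg Q₀ R c = dg Q₀ (R * (dunit d hd0)⁻¹) 1 * (dg Q₀ (dunit d hd0) 1 * dg Q₀ 1 c) := by
    rw [dg_mul, dg_mul, mul_one, one_mul, one_mul, inv_mul_cancel_right]
  rw [e]
  refine mul_mem (dg_mem_of_det Q₀ hm _ ?_) ?_
  · rw [Units.val_mul, det_mul, ← hd]
    show d * (diagonal (Function.update 1 0 d⁻¹)).det = 1
    rw [det_diagonal, Fin.prod_univ_succ]
    simp [hd0]
  · refine (OmegaOrbits.mem_omega_iff_even (frQ_nondegenerate Q₀ hQ)
      (Or.inr (by rw [card_fr]; omega)) ((isReflProd_dunit Q₀ d hd0).mul (isReflProd_dg Q₀ h))).2 ⟨?_, ?_⟩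
    · simp only [List.length_append, List.length_map, List.length_cons, List.length_nil]
      exact Even.add ⟨1, rfl⟩ he
    · obtain ⟨r, hr⟩ := hs
      refine ⟨r / d, ?_⟩
      simp only [List.map_append, List.map_cons, List.map_nil, List.prod_append, List.prod_cons,
        List.prod_nil, frQ_fv, List.map_map, Function.comp_def, zero_dotProduct, zero_add]
      simp only [single_dotProduct, Pi.single_eq_same, mul_one, one_mul, QuadraticMap.map_zero,
        add_zero]
      field_simp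
      linear_combination hr

end CfsgLib.OreOrth
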