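import Cfsg.Agent.OreOrth.Frame
import Cfsg.Agent.OreOrth.Levi

/-!
# Siegel elements and the big cell of a frame

Every admissible pair `(a, L)` gives an element of `Lo`; an element of the frame whose first diagonal block is
invertible is `l * dg M 1 * u` when its middle Schur complement is the identity.
-/

set_option autoImplicit false
set_option linter.unusedSectionVars false

namespace CfsgLib.OreOrth

open Matrix CfsgLib.Spinor CfsgLib.Forms

variable {F : Type*} [Field F] {m : ℕ} {β : Type} [Fintype β] [DecidableEq β] (Q₀ : QuadraticForm F (β → F))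

/-- The adjoint of `a` up to sign. -/
noncomputable def adjA (a : Matrix β (Fin m) F) : Matrix (Fin m) β F :=
  Matrix.of fun i b => -QuadraticMap.polar (⇑Q₀) (Pi.single b 1) fun x => a x i

theorem adjA_mulVec (a : Matrix β (Fin m) F) (w : β → F) (i : Fin m) :
    (adjA Q₀ a *ᵥ w) i = -QuadraticMap.polar (⇑Q₀) w fun x => a x i := by
  conv_rhs => rw [pi_eq_sum_univ' w]
  simp only [mulVec, dotProduct, adjA, Matrix.of_apply, neg_mul]
  rw [Finset.sum_neg_distrib]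
  congr 1
  rw [← QuadraticMap.polarBilin_apply_apply, map_sum, LinearMap.sum_apply]
  exact Finset.sum_congr rfl fun b _ => by
    simp [mul_comm]

theorem dot_adjA (a : Matrix β (Fin m) F) (p : Fin m → F) (w : β → F) :
    p ⬝ᵥ adjA Q₀ a *ᵥ w = -QuadraticMap.polar (⇑Q₀) w (a *ᵥ p) := by
  have h : a *ᵥ p = ∑ i, p i • fun x => a x i := by
    funext x; simp [mulVec, dotProduct, mul_comm]
  rw [h, ← QuadraticMap.polarBilin_apply_apply, map_sum]
  simp [dotProduct, adjA_mulVec, Finset.sum_neg_distrib]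

theorem exists_lo (a : Matrix β (Fin m) F) (L : Matrix (Fin m) (Fin m) F)
    (h : ∀ p, p ⬝ᵥ L *ᵥ p + Q₀ (a *ᵥ p) = 0) :
    ∃ l ∈ Lo Q₀, ∀ p q w, mat (frQ m Q₀) l *ᵥ fv p q w =
      fv p (q + L *ᵥ p + adjA Q₀ a *ᵥ w) (w + a *ᵥ p) := by
  set T : Matrix (Fr m β) (Fr m β) F := fromBlocks (fromBlocks 1 0 L 1)
    (Matrix.fromRows 0 (adjA Q₀ a)) (Matrix.fromCols a 0) 1 with hT
  have hTv : ∀ p q w, T *ᵥ fv p q w = fv p (q + L *ᵥ p + adjA Q₀ a *ᵥ w) (w + a *ᵥ p) := fun p q w => by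
    rw [hT, fromBlocks_mulVec, fromBlocks_mulVec]
    funext i
    rcases i with (i | i) | i <;> simp [fv, Function.comp_def, fromRows_mulVec, fromCols_mulVec, add_comm, add_left_comm, add_assoc]
  have hiso : ∀ v, frQ m Q₀ (T *ᵥ v) = frQ m Q₀ v := fun v => by
    obtain ⟨p, q, w, rfl⟩ := exists_fv v
    rw [hTv, frQ_fv, frQ_fv, dotProduct_add, dotProduct_add, QuadraticMap.map_add (⇑Q₀), dot_adjA]
    linear_combination h p
  obtain ⟨U, hU⟩ : IsUnit T := Matrix.mulVec_injective_iff_isUnit.1 fun v v' hvv => by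
    obtain ⟨p, q, w, rfl⟩ := exists_fv v
    obtain ⟨p', q', w', rfl⟩ := exists_fv v'
    simp only [hTv, fv_inj] at hvv
    obtain ⟨rfl, hq, hw⟩ := hvv
    obtain rfl := add_right_cancel hw
    exact fv_inj.2 ⟨rfl, add_right_cancel (add_right_cancel hq), rfl⟩
  refine ⟨⟨U, fun v _ => by
    show frQ m Q₀ ((U : Matrix (Fr m β) (Fr m β) F) *ᵥ v) = frQ m Q₀ v
    rw [hU]; exact hiso v⟩, ⟨fun q => ?_, fun w => ⟨adjA Q₀ a *ᵥ w, ?_⟩⟩,
    fun p q w => ?_⟩
  all_goals show (U : Matrix (Fr m β) (Fr m β) F) *ᵥ _ = _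
  · rw [hU, hTv]; simp
  · rw [hU, hTv]; simp
  · rw [hU, hTv]

/-- The block from the first halves to the first halves. -/
def bpp (A : Matrix (Fr m β) (Fr m β) F) : Matrix (Fin m) (Fin m) F :=
  Matrix.of fun i j => A (.inl (.inl i)) (.inl (.inl j))

/-- The block from the first halves to the second halves. -/
def bqp (A : Matrix (Fr m β) (Fr m β) F) : Matrix (Fin m) (Fin m) F :=
  Matrix.of fun i j => A (.inl (.inr i)) (.inl (.inl j))

/-- The block from the first halves to the middle. -/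
def bwp (A : Matrix (Fr m β) (Fr m β) F) : Matrix β (Fin m) F :=
  Matrix.of fun i j => A (.inr i) (.inl (.inl j))

/-- The block from the middle to the first halves. -/
def bpw (A : Matrix (Fr m β) (Fr m β) F) : Matrix (Fin m) β F :=
  Matrix.of fun i j => A (.inl (.inl i)) (.inr j)

/-- The block from the middle to itself. -/
def bww (A : Matrix (Fr m β) (Fr m β) F) : Matrix β β F :=
  Matrix.of fun i j => A (.inr i) (.inr j)

theorem mulVec_first (A : Matrix (Fr m β) (Fr m β) F) (p : Fin m → F) :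
    A *ᵥ fv p 0 0 = fv (bpp A *ᵥ p) (bqp A *ᵥ p) (bwp A *ᵥ p) := by
  funext i
  rcases i with (i | i) | i <;> simp [fv, bpp, bqp, bwp, mulVec, dotProduct, Fintype.sum_sum_type]

theorem mulVec_middle (A : Matrix (Fr m β) (Fr m β) F) (w : β → F) :
    ∃ q, A *ᵥ fv 0 0 w = fv (bpw A *ᵥ w) q (bww A *ᵥ w) := by
  refine ⟨fun i => (A *ᵥ fv 0 0 w) (.inl (.inr i)), ?_⟩
  funext i
  rcases i with (i | i) | i <;> simp [fv, bpw, bww, mulVec, dotProduct, Fintype.sum_sum_type]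

/-- The big cell. -/
theorem exists_big_cell (hQ : (QuadraticMap.polarBilin Q₀).Nondegenerate)
    (x : ↥(Cfsg.isometryGroup F ⇑(frQ m Q₀))) (M : (Matrix (Fin m) (Fin m) F)ˣ)
    (hM : (M : Matrix (Fin m) (Fin m) F) = bpp (mat (frQ m Q₀) x))
    (hC : bww (mat (frQ m Q₀) x) -
      bwp (mat (frQ m Q₀) x) * (↑M⁻¹ : Matrix (Fin m) (Fin m) F) * bpw (mat (frQ m Q₀) x) = 1) :
    ∃ l ∈ Lo Q₀, ∃ u ∈ Up Q₀, x = l * dg Q₀ M 1 * u := by
  set X := mat (frQ m Q₀) x with hX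
  obtain ⟨l, hl, hlv⟩ := exists_lo Q₀ (bwp X * (↑M⁻¹ : Matrix (Fin m) (Fin m) F))
    (bqp X * (↑M⁻¹ : Matrix (Fin m) (Fin m) F)) fun p => by
      have h := quad_mulVec (frQ m Q₀) x (fv ((↑M⁻¹ : Matrix (Fin m) (Fin m) F) *ᵥ p) 0 0)
      rw [← hX, mulVec_first, frQ_fv, frQ_fv, ← hM, mulVec_mulVec _ (M : Matrix (Fin m) (Fin m) F), Units.mul_inv, one_mulVec] at h
      rw [← mulVec_mulVec, ← mulVec_mulVec]
      simpa using h
  set y := (dg Q₀ M 1)⁻¹ * (l⁻¹ * x) with hy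
  have hxy : x = l * dg Q₀ M 1 * y := by rw [hy]; group
  have hlinv : ∀ p q w, mat (frQ m Q₀) l⁻¹ *ᵥ fv p q w = fv p
      (q - (bqp X * (↑M⁻¹ : Matrix (Fin m) (Fin m) F)) *ᵥ p -
        adjA Q₀ (bwp X * (↑M⁻¹ : Matrix (Fin m) (Fin m) F)) *ᵥ
          (w - (bwp X * (↑M⁻¹ : Matrix (Fin m) (Fin m) F)) *ᵥ p))
      (w - (bwp X * (↑M⁻¹ : Matrix (Fin m) (Fin m) F)) *ᵥ p) := fun p q w => by
    conv_lhs => rw [show fv p q w = mat (frQ m Q₀) l *ᵥ fv p
      (q - (bqp X * (↑M⁻¹ : Matrix (Fin m) (Fin m) F)) *ᵥ p -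
        adjA Q₀ (bwp X * (↑M⁻¹ : Matrix (Fin m) (Fin m) F)) *ᵥ
          (w - (bwp X * (↑M⁻¹ : Matrix (Fin m) (Fin m) F)) *ᵥ p))
      (w - (bwp X * (↑M⁻¹ : Matrix (Fin m) (Fin m) F)) *ᵥ p) by
        rw [hlv, fv_inj]; exact ⟨rfl, by abel, by abel⟩]
    rw [inv_mulVec_mulVec]
  have hyp : ∀ p, mat (frQ m Q₀) y *ᵥ fv p 0 0 = fv p 0 0 := fun p => by
    rw [hy, mat_mul, mat_mul, ← mulVec_mulVec, ← mulVec_mulVec, ← hX, mulVec_first, ← hM, hlinv, dg_inv,
      dg_mulVec, inv_one, mat_one, one_mulVec]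
    have e : (↑M⁻¹ : Matrix (Fin m) (Fin m) F) *ᵥ ((M : Matrix (Fin m) (Fin m) F) *ᵥ p) = p := by
      rw [mulVec_mulVec, Units.inv_mul, one_mulVec]
    simp only [← mulVec_mulVec, e, zero_sub, sub_self, mulVec_zero, sub_zero, neg_zero]
  refine ⟨l, hl, y, mem_Up_of Q₀ hyp fun w => ?_, hxy⟩
  obtain ⟨q, hq⟩ := mulVec_middle X w
  have hC' := congrArg (· *ᵥ w) hC
  simp only [sub_mulVec, one_mulVec, ← mulVec_mulVec] at hC'
  obtain ⟨p', q', w', hy'⟩ := exists_fv (mat (frQ m Q₀) y *ᵥ fv 0 0 w)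
  have hw' : w' = w := by
    have h := hy'
    rw [hy, mat_mul, mat_mul, ← mulVec_mulVec, ← mulVec_mulVec, ← hX, hq, hlinv, dg_inv, dg_mulVec, inv_one,
      mat_one, one_mulVec, fv_inj, ← mulVec_mulVec, ← mulVec_mulVec] at h
    exact h.2.2.symm.trans hC'
  rw [hw'] at hy'
  refine ⟨p', ?_⟩
  have hq0 : q' = 0 := funext fun i => by
    have := polar_mulVec (frQ m Q₀) y (fv 0 0 w) (fv (Pi.single i 1) 0 0)
    rw [hy', hyp] at this
    simpa using this
  rw [hy', hq0]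

end CfsgLib.OreOrth
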