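import Cfsg.Agent.LevCover.Shapes
import Cfsg.Agent.LevCover.Blocks

/-!
# Principal corners of similar matrices
-/

set_option autoImplicit false
set_option linter.unusedSectionVars false

namespace CfsgLib.OreOrth

open Matrix
open CfsgLib.LevCover (Sim)

variable {K : Type*} [Field K]

/-- Some matrix similar to `M` has `D` as a principal submatrix. -/
def HasCorner {ι : Type} [Fintype ι] [DecidableEq ι] {m : ℕ} (D : Matrix ι ι K)
    (M : Matrix (Fin m) (Fin m) K) : Prop :=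
  ∃ (M' : Matrix (Fin m) (Fin m) K) (f : ι ↪ Fin m), Sim M' M ∧ M'.submatrix f f = D

variable {ι ι' μ : Type} [Fintype ι] [DecidableEq ι] [Fintype ι'] [DecidableEq ι'] [Fintype μ] [DecidableEq μ]
  {m : ℕ} {D : Matrix ι ι K} {M : Matrix (Fin m) (Fin m) K}

theorem HasCorner.sub (h : HasCorner D M) (g : ι' ↪ ι) {D' : Matrix ι' ι' K} (e : D.submatrix g g = D') :
    HasCorner D' M := by
  obtain ⟨M', f, hs, hf⟩ := h
  exact ⟨M', g.trans f, hs, by rw [← e, ← hf]; rfl⟩

theorem HasCorner.of_sim {A : Matrix μ μ K} (h : Sim A M) (σ : μ ≃ Fin m) (g : ι ↪ μ)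
    (e : A.submatrix g g = D) : HasCorner D M :=
  ⟨Matrix.reindex σ σ A, g.trans σ.toEmbedding, (LevCover.sim_reindex σ A).symm.trans h, by
    rw [← e]; ext i j; simp⟩

theorem HasCorner.blocks (h : HasCorner D M) :
    ∃ (v : ℕ) (_σ : ι ⊕ Fin v ≃ Fin m) (X : Matrix ι (Fin v) K) (Y : Matrix (Fin v) ι K)
      (Z : Matrix (Fin v) (Fin v) K), Sim (fromBlocks D X Y Z) M := by
  classical
  obtain ⟨M', f, hs, hf⟩ := h
  set σ : ι ⊕ Fin (Fintype.card {x : Fin m // x ∉ Set.range f}) ≃ Fin m :=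
    ((Equiv.ofInjective f f.injective).sumCongr (Fintype.equivFin _).symm).trans
      (Equiv.sumCompl fun x => x ∈ Set.range f) with hσ
  refine ⟨_, σ, (M'.submatrix σ σ).toBlocks₁₂, (M'.submatrix σ σ).toBlocks₂₁, (M'.submatrix σ σ).toBlocks₂₂,
    (LevCover.Sim.of_reindex σ ?_).trans hs⟩
  have h11 : (M'.submatrix σ σ).toBlocks₁₁ = D := by
    rw [← hf]; ext i j; simp [Matrix.toBlocks₁₁, hσ]
  rw [← h11, fromBlocks_toBlocks]
  ext i j; simp

/-- A corner may be replaced by a similar one. -/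
theorem HasCorner.conj (h : HasCorner D M) {D' : Matrix ι' ι' K} (τ : ι ≃ ι') (hs : Sim D D') :
    HasCorner D' M := by
  obtain ⟨v, σ, X, Y, Z, hsim⟩ := h.blocks
  obtain ⟨P, P', h1, h2, rfl⟩ := hs
  have hconj : Sim (fromBlocks D X Y Z) (fromBlocks (P * D * P') (P * X) (Y * P') Z) :=
    ⟨fromBlocks P 0 0 1, fromBlocks P' 0 0 1, by simp [fromBlocks_multiply, h1, fromBlocks_one],
      by simp [fromBlocks_multiply, h2, fromBlocks_one],
      by simp [fromBlocks_multiply, Matrix.mul_assoc]⟩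
  refine HasCorner.of_sim (hconj.symm.trans hsim) ((τ.symm.sumCongr (Equiv.refl _)).trans σ)
    ⟨Sum.inl, Sum.inl_injective⟩ ?_
  ext i j
  simp

end CfsgLib.OreOrth
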