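import Cfsg.Agent.OreOrth.Base

/-!
# Rotations of a plane

A product of two reflections of a plane satisfies `c² - τ c + 1 = 0`, rotations commute, and in an
anisotropic plane the only possible eigenvalues are `±1`.
-/

set_option autoImplicit false
set_option linter.unusedSectionVars false

namespace CfsgLib.OreOrth

open Matrix Module CfsgLib.Spinor CfsgLib.Forms

variable {F : Type*} [Field F] {ι : Type} [Fintype ι] [DecidableEq ι] {Q : QuadraticForm F (ι → F)}

/-- The trace of the product of the reflections in `a` and `b`. -/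
noncomputable def rotTrace (Q : QuadraticForm F (ι → F)) (a b : ι → F) : F :=
  QuadraticMap.polar (⇑Q) a b ^ 2 / (Q a * Q b) - 2

theorem rot_quadratic (h2 : Fintype.card ι = 2) {a b : ι → F} (ha : Q a ≠ 0) (hb : Q b ≠ 0)
    (x : ι → F) :
    mat Q (reflIso Q a ha * reflIso Q b hb) *ᵥ (mat Q (reflIso Q a ha * reflIso Q b hb) *ᵥ x) =
      rotTrace Q a b • (mat Q (reflIso Q a ha * reflIso Q b hb) *ᵥ x) - x := by
  by_cases hab : LinearIndependent F ![a, b]
  · obtain ⟨p, r, rfl⟩ := exists_coords_pair h2 hab x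
    simp only [mat_mul, ← mulVec_mulVec, mat_reflIso, reflectionMatrix_mulVec, refl_apply, rotTrace]
    simp only [QuadraticMap.polar_add_left, QuadraticMap.polar_add_right, QuadraticMap.polar_sub_right,
      QuadraticMap.polar_smul_left, QuadraticMap.polar_smul_right, polar_self', smul_eq_mul,
      QuadraticMap.polar_comm (⇑Q) b a]
    match_scalars <;> field_simp <;> ring
  · obtain ⟨k, rfl⟩ : ∃ k : F, k • a = b := by
      rw [LinearIndependent.pair_iff' (fun h => ha (by rw [h, QuadraticMap.map_zero]))] at hab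
      push Not at hab
      exact hab
    have hk : k ≠ 0 := fun h => hb (by rw [h, zero_smul, QuadraticMap.map_zero])
    rw [reflIso_smul hk ha hb, refl_mul_refl ha, mat_one, one_mulVec, one_mulVec]
    have : rotTrace Q a (k • a) = 2 := by
      rw [rotTrace, QuadraticMap.polar_smul_right, polar_self', QuadraticMap.map_smul]
      simp only [smul_eq_mul]
      field_simp
      ring
    rw [this, two_smul, add_sub_cancel_right]

theorem rot_comm (h2 : Fintype.card ι = 2) {a b e f : ι → F} (ha : Q a ≠ 0) (hb : Q b ≠ 0)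
    (he : Q e ≠ 0) (hf : Q f ≠ 0) :
    reflIso Q a ha * reflIso Q b hb * (reflIso Q e he * reflIso Q f hf) =
      reflIso Q e he * reflIso Q f hf * (reflIso Q a ha * reflIso Q b hb) := by
  have key : ∀ {x y z : ι → F} (hx : Q x ≠ 0) (hy : Q y ≠ 0) (hz : Q z ≠ 0),
      reflIso Q x hx * reflIso Q y hy * reflIso Q z hz =
        reflIso Q z hz * reflIso Q y hy * reflIso Q x hx := by
    intro x y z hx hy hz
    obtain ⟨d, hd, hde, -⟩ := three_refl h2 hx hy hz
    have hinv : ∀ {v : ι → F} (hv : Q v ≠ 0), (reflIso Q v hv)⁻¹ = reflIso Q v hv := fun hv =>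
      inv_eq_of_mul_eq_one_right (refl_mul_refl hv)
    have := congrArg (·⁻¹) hde
    simp only [_root_.mul_inv_rev, hinv, ← mul_assoc] at this
    rw [this, hde]
  calc reflIso Q a ha * reflIso Q b hb * (reflIso Q e he * reflIso Q f hf)
      = reflIso Q a ha * reflIso Q b hb * reflIso Q e he * reflIso Q f hf := by group
    _ = reflIso Q e he * reflIso Q b hb * reflIso Q a ha * reflIso Q f hf := by rw [key ha hb he]
    _ = reflIso Q e he * (reflIso Q b hb * reflIso Q a ha * reflIso Q f hf) := by group
    _ = reflIso Q e he * (reflIso Q f hf * reflIso Q a ha * reflIso Q b hb) := by rw [key hb ha hf]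
    _ = _ := by group

theorem rot_root_anisotropic (h2 : Fintype.card ι = 2) (han : ∀ v, Q v = 0 → v = 0) {a b : ι → F}
    (ha : Q a ≠ 0) (hb : Q b ≠ 0) {lam : F} (hlam : lam * lam - rotTrace Q a b * lam + 1 = 0) :
    lam = 1 ∨ lam = -1 := by
  haveI : Nonempty ι := Fintype.card_pos_iff.1 (by omega)
  obtain ⟨v, hv⟩ := exists_ne (0 : ι → F)
  set c := reflIso Q a ha * reflIso Q b hb
  have hl0 : lam ≠ 0 := fun h => by simp [h] at hlam
  have hτ : rotTrace Q a b = lam + lam⁻¹ := by field_simp; linear_combination -hlam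
  have hsq : ∀ {x : ι → F} {k : F}, x ≠ 0 → mat Q c *ᵥ x = k • x → k = 1 ∨ k = -1 := by
    intro x k hx hk
    have h := quad_mulVec Q c x
    rw [hk, QuadraticMap.map_smul, smul_eq_mul] at h
    exact mul_self_eq_one_iff.1 (mul_right_cancel₀ (fun h0 => hx (han x h0)) (h.trans (one_mul _).symm))
  set u := mat Q c *ᵥ v - lam⁻¹ • v with hu
  by_cases h : u = 0
  · rcases hsq hv (sub_eq_zero.1 h) with h1 | h1
    · exact Or.inl (inv_eq_one.1 h1)
    · exact Or.inr (by rw [← inv_inv lam, h1, inv_neg, inv_one])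
  · refine hsq h ?_
    rw [hu, mulVec_sub, mulVec_smul, rot_quadratic h2 ha hb, hτ, smul_sub, smul_smul,
      mul_inv_cancel₀ hl0]
    module

end CfsgLib.OreOrth
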