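import Cfsg.Agent.OreOrth.Levi
import Cfsg.Agent.OreOrth.Plane

/-!
# Commutators from triangular elements

If `M * R ~ R` for a matrix `R` without invariant alternating forms, and the rotation part is chosen
in the right spinor class, then `l * dg M 1 * u` is a commutator in `Ω`.
-/

set_option autoImplicit false
set_option linter.unusedSectionVars false

namespace CfsgLib.OreOrth

open Matrix CfsgLib.Spinor CfsgLib.Forms

variable {F : Type*} [Field F] {m : ℕ}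

/-- No nonzero alternating form is invariant under `R` or its transpose. -/
def GoodAlt (R : Matrix (Fin m) (Fin m) F) : Prop :=
  ∀ P : Matrix (Fin m) (Fin m) F, (∀ x, x ⬝ᵥ P *ᵥ x = 0) → (Rᵀ * P * R = P ∨ R * P * Rᵀ = P) → P = 0

/-- No vector generates a plane on which `A` acts by `x² - τ x + 1`. -/
theorem no_quad_vector {A : Matrix (Fin m) (Fin m) F}
    (hP : ∀ P : Matrix (Fin m) (Fin m) F, (∀ x, x ⬝ᵥ P *ᵥ x = 0) → A * P * Aᵀ = P → P = 0) {τ : F}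
    (hroot : ∀ lam : F, lam * lam - τ * lam + 1 = 0 → (A - lam • 1).det ≠ 0) {a : Fin m → F}
    (ha : A *ᵥ (A *ᵥ a) = τ • (A *ᵥ a) - a) : a = 0 := by
  by_contra ha0
  set b := A *ᵥ a with hb
  have hzero : vecMulVec a b - vecMulVec b a = 0 := by
    refine hP _ (fun x => ?_) ?_
    · rw [sub_mulVec, vecMulVec_mulVec, vecMulVec_mulVec, dotProduct_sub]
      simp [dotProduct_comm x, mul_comm]
    · rw [Matrix.mul_sub, Matrix.sub_mul, mul_vecMulVec, mul_vecMulVec, vecMulVec_mul, vecMulVec_mul,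
        vecMul_transpose, vecMul_transpose, ← hb, ha]
      ext i j
      simp [vecMulVec_apply]
      ring
  obtain ⟨i, hi⟩ := Function.ne_iff.1 ha0
  set lam := b i / a i
  have hbl : b = lam • a := funext fun j => by
    have h := congrFun (congrFun hzero i) j
    simp only [Matrix.sub_apply, vecMulVec_apply, Matrix.zero_apply] at h
    rw [Pi.smul_apply, smul_eq_mul, div_mul_eq_mul_div, eq_div_iff hi]
    linear_combination h
  have hlam : lam * lam - τ * lam + 1 = 0 := by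
    have h := congrFun ha i
    rw [hbl, mulVec_smul, ← hb, hbl] at h
    simp only [Pi.sub_apply, Pi.smul_apply, smul_eq_mul] at h
    refine mul_right_cancel₀ hi ?_
    linear_combination h
  refine hroot lam hlam (exists_mulVec_eq_zero_iff.1 ⟨a, ha0, ?_⟩)
  rw [sub_mulVec, smul_mulVec, one_mulVec, ← hb, hbl, sub_self]

variable {β : Type} [Fintype β] [DecidableEq β] (Q₀ : QuadraticForm F (β → F))

theorem lo_centralizer (hQ : (QuadraticMap.polarBilin Q₀).Nondegenerate)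
    (R : (Matrix (Fin m) (Fin m) F)ˣ)
    (hP : ∀ P : Matrix (Fin m) (Fin m) F, (∀ x, x ⬝ᵥ P *ᵥ x = 0) →
      (R : Matrix (Fin m) (Fin m) F)ᵀ * P * R = P → P = 0)
    (c : ↥(Cfsg.isometryGroup F ⇑Q₀)) {τ : F}
    (hc : ∀ x, mat Q₀ c *ᵥ (mat Q₀ c *ᵥ x) = τ • (mat Q₀ c *ᵥ x) - x)
    (hroot : ∀ lam : F, lam * lam - τ * lam + 1 = 0 → ((R : Matrix (Fin m) (Fin m) F) - lam • 1).det ≠ 0)
    {l : ↥(Cfsg.isometryGroup F ⇑(frQ m Q₀))} (hl : l ∈ Lo Q₀)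
    (hcomm : l * dg Q₀ R c = dg Q₀ R c * l) : l = 1 := by
  set Ri := (↑R⁻¹ : Matrix (Fin m) (Fin m) F)ᵀ with hRi
  set Rt := (R : Matrix (Fin m) (Fin m) F)ᵀ with hRt
  have hRR : Rt * Ri = 1 := by rw [hRt, hRi, ← transpose_mul, Units.inv_mul, transpose_one]
  have hcomm' : ∀ v, mat (frQ m Q₀) l *ᵥ (mat (frQ m Q₀) (dg Q₀ R c) *ᵥ v) =
      mat (frQ m Q₀) (dg Q₀ R c) *ᵥ (mat (frQ m Q₀) l *ᵥ v) := fun v => by
    rw [mulVec_mulVec, mulVec_mulVec, ← mat_mul, ← mat_mul, hcomm]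
  -- the middle part
  have hw : ∀ w, mat (frQ m Q₀) l *ᵥ fv 0 0 w = fv 0 0 w := by
    intro w
    obtain ⟨a, ha⟩ := hl.2 w
    obtain ⟨a1, ha1⟩ := hl.2 (mat Q₀ c *ᵥ w)
    obtain ⟨a2, ha2⟩ := hl.2 (mat Q₀ c *ᵥ (mat Q₀ c *ᵥ w))
    have e1 := hcomm' (fv 0 0 w)
    rw [dg_mulVec, mulVec_zero, mulVec_zero, ha, ha1, dg_mulVec, mulVec_zero, ← hRi, fv_inj] at e1
    have e2 := hcomm' (fv 0 0 (mat Q₀ c *ᵥ w))
    rw [dg_mulVec, mulVec_zero, mulVec_zero, ha1, ha2, dg_mulVec, mulVec_zero, ← hRi, fv_inj] at e2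
    have e3 : a2 = τ • a1 - a := by
      have e : fv (0 : Fin m → F) 0 (mat Q₀ c *ᵥ (mat Q₀ c *ᵥ w)) =
          τ • fv 0 0 (mat Q₀ c *ᵥ w) - fv 0 0 w := by
        rw [hc, fv_smul, smul_zero, fv_sub, sub_self]
      have h := congrArg (fun v => mat (frQ m Q₀) l *ᵥ v) e
      beta_reduce at h
      rw [mulVec_sub, mulVec_smul, ha, ha1, ha2, fv_smul, fv_sub, fv_inj] at h
      exact h.2.1
    have ha0 : a = 0 := by
      refine no_quad_vector (A := Rt) (τ := τ) (fun P h1 h2 => hP P h1 ?_) (fun lam h => ?_) ?_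
      · rwa [hRt, transpose_transpose] at h2
      · rw [hRt, show (R : Matrix (Fin m) (Fin m) F)ᵀ - lam • 1 = ((R : Matrix (Fin m) (Fin m) F) - lam • 1)ᵀ by
          rw [transpose_sub, transpose_smul, transpose_one], det_transpose]
        exact hroot lam h
      · have h := congrArg (fun v => Rt *ᵥ (Rt *ᵥ v)) (e2.2.1.symm.trans e3)
        simp only [e1.2.1, mulVec_sub, mulVec_smul, mulVec_mulVec, ← Matrix.mul_assoc] at h
        rw [Matrix.mul_assoc Rt Rt Ri, hRR, Matrix.mul_one, hRR, one_mulVec] at h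
        rw [mulVec_mulVec]
        linear_combination (norm := module) h
    rw [ha, ha0]
  -- the alternating part
  set A : Matrix (Fin m) (Fin m) F :=
    Matrix.of fun i j => mat (frQ m Q₀) l (.inl (.inr i)) (.inl (.inl j)) with hA
  have hp : ∀ p, mat (frQ m Q₀) l *ᵥ fv p 0 0 = fv p (A *ᵥ p) 0 := by
    intro p
    obtain ⟨p', q', w', h⟩ := exists_fv (mat (frQ m Q₀) l *ᵥ fv p 0 0)
    have hp' : p' = p := funext fun i => by
      have := polar_mulVec (frQ m Q₀) l (fv p 0 0) (fv 0 (Pi.single i 1) 0)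
      rw [h, hl.1] at this
      simpa using this
    have hw' : w' = 0 := hQ.1 w' fun y => by
      have := polar_mulVec (frQ m Q₀) l (fv p 0 0) (fv 0 0 y)
      rw [h, hw] at this
      simpa using this
    subst hp' hw'
    have hq : q' = A *ᵥ p' := funext fun i => by
      have := congrFun h (.inl (.inr i))
      simp only [fv, Sum.elim_inl, Sum.elim_inr] at this
      rw [← this]
      simp [hA, mulVec, dotProduct, Fintype.sum_sum_type, fv]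
    rw [h, hq]
  have hA0 : A = 0 := by
    refine hP A (fun x => ?_) ?_
    · have h := quad_mulVec (frQ m Q₀) l (fv x 0 0)
      rw [hp] at h
      simpa using h
    · have e : A * R = Ri * A := Matrix.ext_iff_mulVec.2 fun p => by
        have h := hcomm' (fv p 0 0)
        rw [dg_mulVec, mulVec_zero, mulVec_zero, hp, hp, dg_mulVec, mulVec_zero, ← hRi, fv_inj] at h
        rw [← mulVec_mulVec, ← mulVec_mulVec]
        exact h.2.1
      rw [Matrix.mul_assoc, e, ← Matrix.mul_assoc, hRR, Matrix.one_mul]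
  refine fr_ext Q₀ fun p q w => ?_
  have e : fv p q w = fv p 0 0 + fv 0 q 0 + fv 0 0 w := by simp
  rw [mat_one, one_mulVec, e, mulVec_add, mulVec_add, hp, hl.1, hw, hA0, zero_mulVec]

theorem up_centralizer (hQ : (QuadraticMap.polarBilin Q₀).Nondegenerate)
    (R : (Matrix (Fin m) (Fin m) F)ˣ)
    (hP : ∀ P : Matrix (Fin m) (Fin m) F, (∀ x, x ⬝ᵥ P *ᵥ x = 0) →
      (R : Matrix (Fin m) (Fin m) F) * P * (R : Matrix (Fin m) (Fin m) F)ᵀ = P → P = 0)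
    (c : ↥(Cfsg.isometryGroup F ⇑Q₀)) {τ : F}
    (hc : ∀ x, mat Q₀ c *ᵥ (mat Q₀ c *ᵥ x) = τ • (mat Q₀ c *ᵥ x) - x)
    (hroot : ∀ lam : F, lam * lam - τ * lam + 1 = 0 → ((R : Matrix (Fin m) (Fin m) F) - lam • 1).det ≠ 0)
    {u : ↥(Cfsg.isometryGroup F ⇑(frQ m Q₀))} (hu : u ∈ Up Q₀)
    (hcomm : u * dg Q₀ R c = dg Q₀ R c * u) : u = 1 := by
  have h := lo_centralizer Q₀ hQ (invT R) (fun P h1 h2 => hP P h1 ?_) c hc (fun lam hl => ?_)
    (mem_Up Q₀ |>.1 hu) (by rw [← swap_dg, ← map_mul, hcomm, map_mul])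
  · exact (swap Q₀).injective (h.trans (map_one _).symm)
  · change (↑R⁻¹ : Matrix (Fin m) (Fin m) F)ᵀᵀ * P * (↑R⁻¹ : Matrix (Fin m) (Fin m) F)ᵀ = P at h2
    rw [transpose_transpose] at h2
    conv_lhs => rw [← h2]
    simp only [Matrix.mul_assoc, ← transpose_mul, Units.mul_inv, transpose_one, Matrix.mul_one,
      Units.mul_inv_cancel_left]
  · have hl0 : lam ≠ 0 := fun h => by simp [h] at hl
    have hinv := hroot lam⁻¹ (by field_simp; linear_combination hl)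
    change ((↑R⁻¹ : Matrix (Fin m) (Fin m) F)ᵀ - lam • 1).det ≠ 0
    have e : (↑R⁻¹ : Matrix (Fin m) (Fin m) F)ᵀ - lam • 1 =
        ((↑R⁻¹ : Matrix (Fin m) (Fin m) F) * ((-lam) • ((R : Matrix (Fin m) (Fin m) F) - lam⁻¹ • 1)))ᵀ := by
      rw [Matrix.mul_smul, Matrix.mul_sub, Units.inv_mul, Matrix.mul_smul, Matrix.mul_one, smul_sub,
        smul_smul, neg_mul, mul_inv_cancel₀ hl0, neg_one_smul, transpose_sub, transpose_smul,
        transpose_one, transpose_neg]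
      module
    rw [e, det_transpose, det_mul, det_smul]
    refine mul_ne_zero (fun h => ?_) (mul_ne_zero (pow_ne_zero _ (neg_ne_zero.2 hl0)) hinv)
    have := congrArg Matrix.det R.inv_mul
    rw [det_mul, h, zero_mul, det_one] at this
    exact zero_ne_one this

/-- The commutator criterion for a middle part satisfying a quadratic equation. -/
theorem isComm_of_quadratic [Fintype F] (hQ : (QuadraticMap.polarBilin Q₀).Nondegenerate)
    {l u : ↥(Cfsg.isometryGroup F ⇑(frQ m Q₀))} (hl : l ∈ Lo Q₀)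
    (hu : u ∈ Up Q₀) {M R S : (Matrix (Fin m) (Fin m) F)ˣ} (hMR : M * R = S * R * S⁻¹)
    (hR : GoodAlt (R : Matrix (Fin m) (Fin m) F)) {c z : ↥(Cfsg.isometryGroup F ⇑Q₀)}
    (hCmem : dg Q₀ R c ∈ Cfsg.Omega F ⇑(frQ m Q₀)) (hZmem : dg Q₀ S z ∈ Cfsg.Omega F ⇑(frQ m Q₀))
    (hzc : z * c = c * z) {τ : F}
    (hcq : ∀ x, mat Q₀ c *ᵥ (mat Q₀ c *ᵥ x) = τ • (mat Q₀ c *ᵥ x) - x)
    (hroot : ∀ lam : F, lam * lam - τ * lam + 1 = 0 →
      ((R : Matrix (Fin m) (Fin m) F) - lam • 1).det ≠ 0) :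
    ∃ X ∈ Cfsg.Omega F ⇑(frQ m Q₀), ∃ Y ∈ Cfsg.Omega F ⇑(frQ m Q₀),
      l * dg Q₀ M 1 * u = X * Y * X⁻¹ * Y⁻¹ := by
  set C := dg Q₀ R c with hC
  set Z := dg Q₀ S z with hZ
  have hZC : Z * C * Z⁻¹ = dg Q₀ M 1 * C := by
    rw [hZ, hC, dg_inv, dg_mul, dg_mul, dg_mul, one_mul, ← hMR, hzc, mul_inv_cancel_right]
  have hcentL : ∀ p ∈ Lo Q₀, p * C = C * p → p = 1 := fun p hp h =>
    lo_centralizer Q₀ hQ R (fun P h1 h2 => hR P h1 (Or.inl h2)) c hcq hroot hp h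
  have hcentU : ∀ p ∈ Up Q₀, p * C = C * p → p = 1 := fun p hp h =>
    up_centralizer Q₀ hQ R (fun P h1 h2 => hR P h1 (Or.inr h2)) c hcq hroot hp h
  set C₁ := Z * C * Z⁻¹ with hC₁
  let f₁ : ↥(Lo Q₀) → ↥(Lo Q₀) := fun p => ⟨p.1 * (C₁ * p.1⁻¹ * C₁⁻¹), mul_mem p.2 (by
    rw [hZC, hC, dg_mul]; exact dg_conj_Lo Q₀ _ _ (inv_mem p.2))⟩
  let f₂ : ↥(Up Q₀) → ↥(Up Q₀) := fun p =>
    ⟨C * p.1 * C⁻¹ * p.1⁻¹, mul_mem (dg_conj_Up Q₀ _ _ p.2) (inv_mem p.2)⟩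
  have hf₁ : Function.Surjective f₁ := Finite.surjective_of_injective fun p p' h => by
    have h' : p.1 * C₁ * p.1⁻¹ = p'.1 * C₁ * p'.1⁻¹ := by
      have := congrArg (fun x : ↥(Lo Q₀) => x.1 * C₁) h
      simpa [f₁, mul_assoc] using this
    have hk : Z⁻¹ * (p'.1⁻¹ * p.1) * Z = 1 := by
      refine hcentL _ ?_ ?_
      · have := dg_conj_Lo Q₀ S⁻¹ z⁻¹ (mul_mem (inv_mem p'.2) p.2)
        rwa [← dg_inv, inv_inv] at this
      · calc Z⁻¹ * (p'.1⁻¹ * p.1) * Z * C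
            = Z⁻¹ * (p'.1⁻¹ * (p.1 * C₁ * p.1⁻¹) * p.1) * Z := by rw [hC₁]; group
          _ = C * (Z⁻¹ * (p'.1⁻¹ * p.1) * Z) := by rw [h', hC₁]; group
    refine Subtype.ext (eq_comm.1 (inv_mul_eq_one.1 ?_))
    calc p'.1⁻¹ * p.1 = Z * (Z⁻¹ * (p'.1⁻¹ * p.1) * Z) * Z⁻¹ := by group
      _ = 1 := by rw [hk]; group
  have hf₂ : Function.Surjective f₂ := Finite.surjective_of_injective fun p p' h => by
    have h' : p.1 * C⁻¹ * p.1⁻¹ = p'.1 * C⁻¹ * p'.1⁻¹ := by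
      have := congrArg (fun x : ↥(Up Q₀) => C⁻¹ * x.1) h
      simpa [f₂, mul_assoc] using this
    refine Subtype.ext (eq_comm.1 (inv_mul_eq_one.1 (hcentU _ (mul_mem (inv_mem p'.2) p.2) ?_)))
    calc p'.1⁻¹ * p.1 * C
        = C * (p'.1⁻¹ * (p'.1 * C⁻¹ * p'.1⁻¹) * p.1 * C) := by group
      _ = C * (p'.1⁻¹ * p.1) := by rw [← h']; group
  have hcommutator : ∀ x y : ↥(Cfsg.isometryGroup F ⇑(frQ m Q₀)),
      x * y * x⁻¹ * y⁻¹ ∈ Cfsg.Omega F ⇑(frQ m Q₀) := fun x y =>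
    Subgroup.commutator_mem_commutator (Subgroup.mem_top x) (Subgroup.mem_top y)
  obtain ⟨p, hp⟩ := hf₁ ⟨l, hl⟩
  obtain ⟨q, hq⟩ := hf₂ ⟨u, hu⟩
  have hp' : p.1 * (C₁ * p.1⁻¹ * C₁⁻¹) = l := congrArg Subtype.val hp
  have hq' : C * q.1 * C⁻¹ * q.1⁻¹ = u := congrArg Subtype.val hq
  obtain ⟨p₂, hp₂⟩ := hf₁ p
  obtain ⟨q₂, hq₂⟩ := hf₂ q
  have hpmem : p.1 ∈ Cfsg.Omega F ⇑(frQ m Q₀) := by
    have := hcommutator p₂.1 C₁
    rw [← congrArg Subtype.val hp₂]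
    simpa [f₁, mul_assoc] using this
  have hqmem : q.1 ∈ Cfsg.Omega F ⇑(frQ m Q₀) := by
    have := hcommutator C q₂.1
    rw [← congrArg Subtype.val hq₂]
    simpa [f₂, mul_assoc] using this
  refine ⟨p.1 * Z * q.1⁻¹, mul_mem (mul_mem hpmem hZmem) (inv_mem hqmem), q.1 * C * q.1⁻¹,
    mul_mem (mul_mem hqmem hCmem) (inv_mem hqmem), ?_⟩
  have hD : dg Q₀ M 1 = C₁ * C⁻¹ := by rw [hZC, mul_inv_cancel_right]
  rw [← hp', ← hq', hD, hC₁]
  group

/-- The commutator criterion. -/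
theorem isComm_of_triangular [Fintype F] (hQ : (QuadraticMap.polarBilin Q₀).Nondegenerate) (hm : 3 ≤ m)
    (hβ : Fintype.card β = 2) {l u : ↥(Cfsg.isometryGroup F ⇑(frQ m Q₀))} (hl : l ∈ Lo Q₀)
    (hu : u ∈ Up Q₀) {M R S : (Matrix (Fin m) (Fin m) F)ˣ} (hMR : M * R = S * R * S⁻¹)
    (hR : GoodAlt (R : Matrix (Fin m) (Fin m) F)) {a b e f : β → F} (ha : Q₀ a ≠ 0) (hb : Q₀ b ≠ 0)
    (he : Q₀ e ≠ 0) (hf : Q₀ f ≠ 0)
    (hsR : IsSquare ((R : Matrix (Fin m) (Fin m) F).det * (Q₀ a * Q₀ b)))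
    (hsS : IsSquare ((S : Matrix (Fin m) (Fin m) F).det * (Q₀ e * Q₀ f)))
    (hroot : ∀ lam : F, lam * lam - rotTrace Q₀ a b * lam + 1 = 0 →
      ((R : Matrix (Fin m) (Fin m) F) - lam • 1).det ≠ 0) :
    ∃ X ∈ Cfsg.Omega F ⇑(frQ m Q₀), ∃ Y ∈ Cfsg.Omega F ⇑(frQ m Q₀),
      l * dg Q₀ M 1 * u = X * Y * X⁻¹ * Y⁻¹ :=
  isComm_of_quadratic Q₀ hQ hl hu hMR hR
    (dg_mem_omega Q₀ hQ hm R ((IsReflProd.reflIso a ha).mul (IsReflProd.reflIso b hb)) ⟨1, rfl⟩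
      (by simpa using hsR))
    (dg_mem_omega Q₀ hQ hm S ((IsReflProd.reflIso e he).mul (IsReflProd.reflIso f hf)) ⟨1, rfl⟩
      (by simpa using hsS))
    (rot_comm hβ he hf ha hb) (rot_quadratic hβ ha hb) hroot

end CfsgLib.OreOrth
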