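import Cfsg.Agent.OrthMax.Basic
import Cfsg.Agent.Forms.OrthDet
import Cfsg.Agent.Spinor.StdForms

/-!
# One hyperbolic plane on top of a quadratic space

`Ext ι` adds a pair `e0, f0` to the coordinates of `ι`. `emb` embeds the isometry group of the
subspace, `lo x`, `up y` are the Eichler maps at `f0` and `e0`; `exists_decomp` is the factorisation
`lo x * emb g' * up y` of an isometry whose `(e0, e0)` coefficient is one.
-/

set_option autoImplicit false
set_option linter.unusedSectionVars false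

namespace CfsgLib.OreOrth

open Matrix CfsgLib.Spinor CfsgLib.Forms

variable {F : Type*} [Field F] {ι : Type} [Fintype ι] [DecidableEq ι]

/-- Two more coordinates. -/
abbrev Ext (ι : Type) : Type := (Unit ⊕ Unit) ⊕ ι

/-- The orthogonal sum of a hyperbolic plane and `Q`. -/
noncomputable def extQ (Q : QuadraticForm F (ι → F)) : QuadraticForm F (Ext ι → F) :=
  QuadraticMap.linMulLin (LinearMap.proj (Sum.inl (Sum.inl ()))) (LinearMap.proj (Sum.inl (Sum.inr ()))) +
    Q.comp (LinearMap.funLeft F F Sum.inr)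

/-- Coordinates. -/
def mk (a b : F) (w : ι → F) : Ext ι → F := Sum.elim (Sum.elim (fun _ => a) (fun _ => b)) w

theorem mk_eta (v : Ext ι → F) :
    mk (v (.inl (.inl ()))) (v (.inl (.inr ()))) (v ∘ Sum.inr) = v := by
  funext i; rcases i with (i | i) | i <;> rfl

theorem exists_mk (v : Ext ι → F) : ∃ a b w, v = mk a b w := ⟨_, _, _, (mk_eta v).symm⟩

theorem mk_inj {a a' b b' : F} {w w' : ι → F} :
    mk a b w = mk a' b' w' ↔ a = a' ∧ b = b' ∧ w = w' := by
  constructor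
  · intro h
    exact ⟨congrFun h (.inl (.inl ())), congrFun h (.inl (.inr ())), funext fun i => congrFun h (.inr i)⟩
  · rintro ⟨rfl, rfl, rfl⟩; rfl

@[simp] theorem mk_add (a a' b b' : F) (w w' : ι → F) :
    mk a b w + mk a' b' w' = mk (a + a') (b + b') (w + w') := by
  funext i; rcases i with (i | i) | i <;> rfl

@[simp] theorem mk_sub (a a' b b' : F) (w w' : ι → F) :
    mk a b w - mk a' b' w' = mk (a - a') (b - b') (w - w') := by
  funext i; rcases i with (i | i) | i <;> rfl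

@[simp] theorem mk_smul (t a b : F) (w : ι → F) : t • mk a b w = mk (t * a) (t * b) (t • w) := by
  funext i; rcases i with (i | i) | i <;> rfl

@[simp] theorem mk_neg (a b : F) (w : ι → F) : -mk a b w = mk (-a) (-b) (-w) := by
  funext i; rcases i with (i | i) | i <;> rfl

theorem mk_zero : mk (0 : F) 0 (0 : ι → F) = 0 := by
  funext i; rcases i with (i | i) | i <;> rfl

variable (Q : QuadraticForm F (ι → F))

@[simp] theorem extQ_mk (a b : F) (w : ι → F) : extQ Q (mk a b w) = a * b + Q w := by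
  rfl

@[simp] theorem polar_mk (a a' b b' : F) (w w' : ι → F) :
    QuadraticMap.polar (⇑(extQ Q)) (mk a b w) (mk a' b' w') =
      a * b' + b * a' + QuadraticMap.polar (⇑Q) w w' := by
  simp only [QuadraticMap.polar, mk_add, extQ_mk]
  ring

theorem extQ_nondegenerate (hQ : (QuadraticMap.polarBilin Q).Nondegenerate) :
    (QuadraticMap.polarBilin (extQ Q)).Nondegenerate := by
  refine CfsgLib.StdForms.nondegenerate_of_sep _ fun x hx => ?_
  obtain ⟨a, b, w, rfl⟩ := exists_mk x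
  have h1 := hx (mk 1 0 0)
  have h2 := hx (mk 0 1 0)
  simp at h1 h2
  subst h1 h2
  have hw : w = 0 := hQ.1 w fun y => by
    have := hx (mk 0 0 y)
    simpa using this
  subst hw
  exact mk_zero

/-- The embedding of the isometry group of `Q`. -/
noncomputable def emb : ↥(Cfsg.isometryGroup F ⇑Q) →* ↥(Cfsg.isometryGroup F ⇑(extQ Q)) where
  toFun g := ⟨⟨fromBlocks 1 0 0 (mat Q g), fromBlocks 1 0 0 (mat Q g⁻¹),
      by rw [fromBlocks_multiply, Matrix.one_mul, Matrix.mul_zero, Matrix.zero_mul, add_zero,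
            Matrix.one_mul, Matrix.mul_zero, add_zero, Matrix.zero_mul, Matrix.zero_mul,
            ← mat_mul, mul_inv_cancel, mat_one, add_zero, zero_add, fromBlocks_one],
      by rw [fromBlocks_multiply, Matrix.one_mul, Matrix.mul_zero, Matrix.zero_mul, add_zero,
            Matrix.one_mul, Matrix.mul_zero, add_zero, Matrix.zero_mul, Matrix.zero_mul,
            ← mat_mul, inv_mul_cancel, mat_one, add_zero, zero_add, fromBlocks_one]⟩, fun v _ => by
    obtain ⟨a, b, w, rfl⟩ := exists_mk v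
    have : (fromBlocks (1 : Matrix (Unit ⊕ Unit) (Unit ⊕ Unit) F) 0 0 (mat Q g)) *ᵥ mk a b w =
        mk a b (mat Q g *ᵥ w) := by
      rw [fromBlocks_mulVec]
      funext i; rcases i with (i | i) | i <;>
        simp [mk, Function.comp_def]
    show extQ Q (_ *ᵥ mk a b w) = extQ Q (mk a b w)
    rw [show (Units.coeHom (Matrix (Ext ι) (Ext ι) F)) _ =
      fromBlocks (1 : Matrix (Unit ⊕ Unit) (Unit ⊕ Unit) F) 0 0 (mat Q g) from rfl, this,
      extQ_mk, extQ_mk, quad_mulVec]⟩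
  map_one' := mat_ext _ (by
    show fromBlocks 1 0 0 (mat Q 1) = (1 : Matrix (Ext ι) (Ext ι) F)
    rw [mat_one, fromBlocks_one])
  map_mul' g h := mat_ext _ (by
    show fromBlocks 1 0 0 (mat Q (g * h)) =
      fromBlocks (1 : Matrix (Unit ⊕ Unit) (Unit ⊕ Unit) F) 0 0 (mat Q g) * fromBlocks 1 0 0 (mat Q h)
    rw [fromBlocks_multiply, mat_mul]
    simp)

theorem mat_emb (g : ↥(Cfsg.isometryGroup F ⇑Q)) :
    mat (extQ Q) (emb Q g) = fromBlocks 1 0 0 (mat Q g) := rfl

@[simp] theorem emb_mulVec (g : ↥(Cfsg.isometryGroup F ⇑Q)) (a b : F) (w : ι → F) :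
    mat (extQ Q) (emb Q g) *ᵥ mk a b w = mk a b (mat Q g *ᵥ w) := by
  rw [mat_emb, fromBlocks_mulVec]
  funext i; rcases i with (i | i) | i <;> simp [mk, Function.comp_def]

/-- Extensionality on coordinates. -/
theorem iso_ext {g h : ↥(Cfsg.isometryGroup F ⇑(extQ Q))}
    (e : ∀ a b w, mat (extQ Q) g *ᵥ mk a b w = mat (extQ Q) h *ᵥ mk a b w) : g = h :=
  mat_ext _ (Matrix.ext_iff_mulVec.2 fun v => by
    obtain ⟨a, b, w, rfl⟩ := exists_mk v; exact e a b w)

theorem q_f0 : extQ Q (mk 0 1 0) = 0 := by simp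
theorem q_e0 : extQ Q (mk 1 0 0) = 0 := by simp

/-- Eichler map at `f0`. -/
noncomputable def lo (x : ι → F) : ↥(Cfsg.isometryGroup F ⇑(extQ Q)) :=
  eichIso (extQ Q) (mk 0 1 0) (mk 0 0 x) (q_f0 Q) (by simp)

/-- Eichler map at `e0`. -/
noncomputable def up (y : ι → F) : ↥(Cfsg.isometryGroup F ⇑(extQ Q)) :=
  eichIso (extQ Q) (mk 1 0 0) (mk 0 0 y) (q_e0 Q) (by simp)

@[simp] theorem lo_mulVec (x : ι → F) (a b : F) (w : ι → F) :
    mat (extQ Q) (lo Q x) *ᵥ mk a b w =
      mk a (b - QuadraticMap.polar (⇑Q) x w - Q x * a) (w + a • x) := by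
  rw [lo, mat_eichIso, eich_mulVec]
  simp [mk_inj]
  ring

@[simp] theorem up_mulVec (y : ι → F) (a b : F) (w : ι → F) :
    mat (extQ Q) (up Q y) *ᵥ mk a b w =
      mk (a - QuadraticMap.polar (⇑Q) y w - Q y * b) b (w + b • y) := by
  rw [up, mat_eichIso, eich_mulVec]
  simp [mk_inj]
  ring

theorem lo_mul (x x' : ι → F) : lo Q x * lo Q x' = lo Q (x + x') :=
  mat_ext _ (by
    rw [lo, lo, lo, mat_mul, mat_eichIso, mat_eichIso, mat_eichIso, eich_mul (q_f0 Q) (by simp) (by simp)]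
    simp)

theorem up_mul (y y' : ι → F) : up Q y * up Q y' = up Q (y + y') :=
  mat_ext _ (by
    rw [up, up, up, mat_mul, mat_eichIso, mat_eichIso, mat_eichIso, eich_mul (q_e0 Q) (by simp) (by simp)]
    simp)

theorem lo_zero : lo Q 0 = 1 := iso_ext Q fun a b w => by simp [mat_one]

theorem up_zero : up Q 0 = 1 := iso_ext Q fun a b w => by simp [mat_one]

theorem lo_inv (x : ι → F) : (lo Q x)⁻¹ = lo Q (-x) := by
  refine inv_eq_of_mul_eq_one_right ?_
  rw [lo_mul, add_neg_cancel, lo_zero]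

theorem up_inv (y : ι → F) : (up Q y)⁻¹ = up Q (-y) := by
  refine inv_eq_of_mul_eq_one_right ?_
  rw [up_mul, add_neg_cancel, up_zero]

theorem emb_conj_lo (g : ↥(Cfsg.isometryGroup F ⇑Q)) (x : ι → F) :
    emb Q g * lo Q x = lo Q (mat Q g *ᵥ x) * emb Q g :=
  iso_ext Q fun a b w => by
    simp [mat_mul, ← mulVec_mulVec, polar_mulVec, quad_mulVec, mulVec_add, mulVec_smul]

theorem emb_conj_up (g : ↥(Cfsg.isometryGroup F ⇑Q)) (y : ι → F) :
    emb Q g * up Q y = up Q (mat Q g *ᵥ y) * emb Q g :=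
  iso_ext Q fun a b w => by
    simp [mat_mul, ← mulVec_mulVec, polar_mulVec, quad_mulVec, mulVec_add, mulVec_smul]

theorem up_emb (g : ↥(Cfsg.isometryGroup F ⇑Q)) (y : ι → F) :
    up Q y * emb Q g = emb Q g * up Q (mat Q g⁻¹ *ᵥ y) := by
  rw [emb_conj_up, mulVec_mulVec, ← mat_mul, mul_inv_cancel, mat_one, one_mulVec]

theorem emb_injective : Function.Injective (emb Q) := by
  intro g h e
  refine mat_ext Q (Matrix.ext_iff_mulVec.2 fun w => ?_)
  have h2 := congrArg (fun k => mat (extQ Q) k *ᵥ mk 0 0 w) e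
  simpa [mk_inj] using h2

/-- An isometry fixing the pair comes from the subspace. -/
theorem exists_emb_of_fix {g : ↥(Cfsg.isometryGroup F ⇑(extQ Q))}
    (he : mat (extQ Q) g *ᵥ mk 1 0 0 = mk 1 0 0) (hf : mat (extQ Q) g *ᵥ mk 0 1 0 = mk 0 1 0) :
    ∃ g', g = emb Q g' := by
  have key : ∀ k : ↥(Cfsg.isometryGroup F ⇑(extQ Q)), mat (extQ Q) k *ᵥ mk 1 0 0 = mk 1 0 0 →
      mat (extQ Q) k *ᵥ mk 0 1 0 = mk 0 1 0 → ∀ a b w, mat (extQ Q) k *ᵥ mk a b w =
        mk a b ((mat (extQ Q) k).toBlocks₂₂ *ᵥ w) := by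
    intro k he hf a b w
    obtain ⟨a', b', w', h⟩ := exists_mk (mat (extQ Q) k *ᵥ mk 0 0 w)
    have h1 := polar_mulVec (extQ Q) k (mk 1 0 0) (mk 0 0 w)
    have h2 := polar_mulVec (extQ Q) k (mk 0 1 0) (mk 0 0 w)
    rw [he, h] at h1
    rw [hf, h] at h2
    simp at h1 h2
    subst h1 h2
    have hw' : w' = (mat (extQ Q) k).toBlocks₂₂ *ᵥ w := by
      funext i
      have := congrFun h (.inr i)
      simp only [mk, Sum.elim_inr] at this
      rw [← this]
      simp [mulVec, dotProduct, Fintype.sum_sum_type, mk, toBlocks₂₂]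
    have e : mk a b w = a • mk 1 0 0 + b • mk 0 1 0 + mk 0 0 w := by simp
    rw [e, mulVec_add, mulVec_add, mulVec_smul, mulVec_smul, he, hf, h, hw']
    simp
  have inv_fix : ∀ v, mat (extQ Q) g *ᵥ v = v → mat (extQ Q) g⁻¹ *ᵥ v = v := by
    intro v hv
    conv_lhs => rw [← hv]
    rw [mulVec_mulVec, ← mat_mul, inv_mul_cancel, mat_one, one_mulVec]
  have k1 := key g he hf
  have k2 := key g⁻¹ (inv_fix _ he) (inv_fix _ hf)
  have hprod : ∀ (k k' : ↥(Cfsg.isometryGroup F ⇑(extQ Q))), k * k' = 1 →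
      (∀ a b w, mat (extQ Q) k *ᵥ mk a b w = mk a b ((mat (extQ Q) k).toBlocks₂₂ *ᵥ w)) →
      (∀ a b w, mat (extQ Q) k' *ᵥ mk a b w = mk a b ((mat (extQ Q) k').toBlocks₂₂ *ᵥ w)) →
      (mat (extQ Q) k).toBlocks₂₂ * (mat (extQ Q) k').toBlocks₂₂ = 1 := by
    intro k k' hk h h'
    refine Matrix.ext_iff_mulVec.2 fun w => ?_
    have := congrArg (fun m => mat (extQ Q) m *ᵥ mk 0 0 w) hk
    simp only [mat_mul, ← mulVec_mulVec, h, h', mat_one, one_mulVec, mk_inj] at this
    rw [← mulVec_mulVec, one_mulVec]; exact this.2.2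
  refine ⟨⟨⟨_, _, hprod g g⁻¹ (mul_inv_cancel g) k1 k2, hprod g⁻¹ g (inv_mul_cancel g) k2 k1⟩, fun w _ => ?_⟩, ?_⟩
  · have := quad_mulVec (extQ Q) g (mk 0 0 w)
    rw [k1, extQ_mk, extQ_mk] at this
    simpa using this
  · refine iso_ext Q fun a b w => ?_
    rw [k1, emb_mulVec]

/-- The factorisation along the pair. -/
theorem exists_decomp {g : ↥(Cfsg.isometryGroup F ⇑(extQ Q))} {s : F} {x : ι → F}
    (hg : mat (extQ Q) g *ᵥ mk 1 0 0 = mk 1 s x) :
    s = -Q x ∧ ∃ g' y, g = lo Q x * emb Q g' * up Q y := by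
  have hs : s = -Q x := by
    have := quad_mulVec (extQ Q) g (mk 1 0 0)
    rw [hg] at this
    simp at this
    linear_combination this
  subst hs
  refine ⟨rfl, ?_⟩
  set h := (lo Q x)⁻¹ * g with hh
  have he : mat (extQ Q) h *ᵥ mk 1 0 0 = mk 1 0 0 := by
    rw [hh, mat_mul, ← mulVec_mulVec, hg, lo_inv, lo_mulVec]
    simp [QuadraticMap.polar_neg_left, polar_self']
    ring
  obtain ⟨a, b, y, hf⟩ := exists_mk (mat (extQ Q) h *ᵥ mk 0 1 0)
  have h1 := polar_mulVec (extQ Q) h (mk 1 0 0) (mk 0 1 0)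
  rw [he, hf] at h1
  simp at h1
  subst h1
  have ha : a = -Q y := by
    have := quad_mulVec (extQ Q) h (mk 0 1 0)
    rw [hf] at this
    simp at this
    linear_combination this
  subst ha
  obtain ⟨g', hg'⟩ := exists_emb_of_fix Q (g := (up Q y)⁻¹ * h)
    (by rw [mat_mul, ← mulVec_mulVec, he, up_inv, up_mulVec]; simp)
    (by rw [mat_mul, ← mulVec_mulVec, hf, up_inv, up_mulVec]; simp [QuadraticMap.polar_neg_left, polar_self']; ring)
  refine ⟨g', mat Q g'⁻¹ *ᵥ y, ?_⟩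
  rw [mul_assoc, ← up_emb, ← hg', hh]
  group

end CfsgLib.OreOrth
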