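import Cfsg.Agent.OreOrth.AltCrit
import Cfsg.Agent.OreGL.Main
import Mathlib.FieldTheory.Finite.Basic

/-!
# The linear factorisation over fields with more than two elements
-/

set_option autoImplicit false
set_option linter.unusedSectionVars false

namespace CfsgLib.OreOrth

open Matrix Polynomial
open CfsgLib.LevCover (Sim)

variable {F : Type*} [Field F] [Fintype F] {m : ℕ}

theorem sim_smul {κ : Type*} [Fintype κ] [DecidableEq κ] {A B : Matrix κ κ F} (c : F) (h : Sim A B) :
    Sim (c • A) (c • B) := by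
  obtain ⟨P, P', h1, h2, rfl⟩ := h
  exact ⟨P, P', h1, h2, by rw [Matrix.mul_smul, Matrix.smul_mul]⟩

theorem exists_fac_of_charpoly {M : Matrix (Fin m) (Fin m) F} {lam : F} (h0 : lam ≠ 0) (h1 : lam * lam ≠ 1)
    (h2 : ringChar F = 2) {R : Matrix (Fin m) (Fin m) F} (hR : R.charpoly = (X - C lam) ^ m)
    (hsim : Sim R (M * R)) :
    ∃ R : Matrix (Fin m) (Fin m) F,
      GoodAlt R ∧ (R - 1).det ≠ 0 ∧ R.det ≠ 0 ∧ IsSquare R.det ∧ Sim R (M * R) := by
  refine ⟨R, goodAlt_of_charpoly hR ⟨by simp [h0], 1, _, one_mul 1, Or.inl rfl, ?_⟩, fun h => ?_, fun h => ?_,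
    FiniteField.isSquare_of_char_two h2 _, hsim⟩
  · have := OreGL.coprime_prod_reverse (Finset.univ : Finset (Fin m)) (fun _ => lam) (fun _ : Fin m => lam)
      fun _ _ _ => h1
    simpa using this
  · have he : R.charpoly.eval 1 = 0 := by
      rw [Matrix.eval_charpoly, map_one, ← neg_sub, Matrix.det_neg, h, mul_zero]
    rw [hR] at he
    simp only [eval_pow, eval_sub, eval_X, eval_C] at he
    exact h1 (by rw [← sub_eq_zero.1 (eq_zero_of_pow_eq_zero he), one_mul])
  · have he : R.charpoly.eval 0 = 0 := by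
      rw [Matrix.eval_charpoly]; simp [Matrix.det_neg, h]
    rw [hR] at he
    simp only [eval_pow, eval_sub, eval_X, eval_C, zero_sub] at he
    exact h0 (neg_eq_zero.1 (eq_zero_of_pow_eq_zero he))

theorem exists_fac_two (h2 : ringChar F = 2) (h4 : 4 ≤ Fintype.card F) (hm : 3 ≤ m)
    (M : Matrix (Fin m) (Fin m) F) (hdet : M.det = 1) (hM : (∀ c : F, M ≠ c • 1) ∨ M = 1) :
    ∃ R : Matrix (Fin m) (Fin m) F,
      GoodAlt R ∧ (R - 1).det ≠ 0 ∧ R.det ≠ 0 ∧ IsSquare R.det ∧ Sim R (M * R) := by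
  obtain ⟨n, rfl⟩ : ∃ n, m = n + 2 := ⟨m - 2, by omega⟩
  haveI : CharP F 2 := ringChar.of_eq h2
  obtain ⟨lam, hl0, hl1⟩ : ∃ x : F, x ≠ 0 ∧ x ≠ 1 := by
    classical
    obtain ⟨x, hx⟩ := LevCover.exists_notMem ({0, 1} : Finset F) (by
      refine lt_of_le_of_lt (Finset.card_insert_le _ _) ?_
      rw [Finset.card_singleton]; omega)
    exact ⟨x, fun h => hx (by simp [h]), fun h => hx (by simp [h])⟩
  have hll : lam * lam ≠ 1 := fun h => by
    rcases mul_self_eq_one_iff.1 h with h' | h'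
    · exact hl1 h'
    · exact hl1 (h'.trans (CharTwo.neg_eq 1))
  have hK : 4 ≤ Cardinal.mk F := by rw [Cardinal.mk_fintype]; exact_mod_cast h4
  rcases hM with hM | hM
  swap
  · subst hM
    refine exists_fac_of_charpoly hl0 hll h2 (R := lam • 1) ?_ (by rw [Matrix.one_mul]; exact Sim.refl _)
    rw [Matrix.smul_one_eq_diagonal, Matrix.charpoly_diagonal]
    simp
  by_cases hsm : SourourProduct.Small (M - 1)
  · obtain ⟨u, φ, hu⟩ := hsm
    have hMe : M = 1 + vecMulVec u φ := by rw [← hu]; abel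
    have hu0 : u ≠ 0 := fun h => hM 1 (by rw [hMe, h, zero_vecMulVec, add_zero, one_smul])
    have hφ0 : φ ≠ 0 := fun h => hM 1 (by rw [hMe, h, vecMulVec_zero, add_zero, one_smul])
    have horth : φ ⬝ᵥ u = 0 := by
      rw [hMe, vecMulVec_eq Unit, det_one_add_replicateCol_mul_replicateRow] at hdet
      linear_combination hdet
    have hl1' : (1 : F) + lam ≠ 0 := fun h => hl1 ((eq_neg_of_add_eq_zero_right h).trans (CharTwo.neg_eq 1))
    refine exists_fac_of_charpoly hl0 hll h2 (R := lam • (1 + vecMulVec u (lam • φ))) ?_ ?_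
    · set e₀ : Fin (n + 2) → F := Pi.single 0 1
      set e₁ : Fin (n + 2) → F := Pi.single (Fin.last (n + 1)) 1
      have hs := sim_smul lam (LevCover.sim_rank_one hu0 (smul_ne_zero hl0 hφ0)
        (show e₀ ≠ 0 from fun h => by simpa [e₀] using congrFun h 0)
        (show e₁ ≠ 0 from fun h => by simpa [e₁] using congrFun h (Fin.last (n + 1)))
        (by rw [smul_dotProduct, horth, smul_zero, dotProduct_comm, single_dotProduct, one_mul]
            exact (Pi.single_eq_of_ne (M := fun _ : Fin (n + 2) => F) (show (0 : Fin (n + 2)) ≠ Fin.last (n + 1) by simp [Fin.ext_iff]) 1).symm))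
      rw [← hs.charpoly_eq]
      set A := lam • (1 + vecMulVec e₀ e₁)
      have hl : ∀ i j : Fin (n + 2), j < i → A i j = 0 := fun i j h => by
        have h0 : e₀ i = 0 := Pi.single_eq_of_ne (Fin.ne_zero_of_lt h) _
        show lam • ((1 : Matrix _ _ F) i j + e₀ i * e₁ j) = 0
        rw [Matrix.one_apply_ne (ne_of_gt h), h0, zero_mul, add_zero, smul_zero]
      have hd : ∀ i, A i i = lam := fun i => by
        show lam • ((1 : Matrix _ _ F) i i + e₀ i * e₁ i) = lam
        have h0 : e₀ i * e₁ i = 0 := by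
          rcases eq_or_ne i 0 with rfl | h
          · rw [show e₁ 0 = 0 from Pi.single_eq_of_ne (by simp [Fin.ext_iff]) _, mul_zero]
          · rw [show e₀ i = 0 from Pi.single_eq_of_ne h _, zero_mul]
        rw [h0, Matrix.one_apply_eq, add_zero, smul_eq_mul, mul_one]
      rw [Matrix.charpoly_of_isUpperTriangular A (fun i j h => hl i j h)]
      simp [hd]
    · have he : M * (lam • (1 + vecMulVec u (lam • φ))) = lam • (1 + vecMulVec u ((1 + lam) • φ)) := by
        rw [hMe, Matrix.mul_smul, Matrix.add_mul, Matrix.one_mul, Matrix.mul_add, Matrix.mul_one,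
          vecMulVec_mul_vecMulVec, horth, zero_smul, vecMulVec_zero, add_zero, add_smul, one_smul, vecMulVec_add]
        abel_nf
      rw [he]
      refine sim_smul lam (LevCover.sim_rank_one hu0 (smul_ne_zero hl0 hφ0) hu0 (smul_ne_zero hl1' hφ0) ?_)
      rw [smul_dotProduct, smul_dotProduct, horth, smul_zero, smul_zero]
  · obtain ⟨S, S', L, U, h1, h1', hLU, hL, hU, -, -⟩ := SourourProduct.exists_regular_factorisation hK (n + 1) M
      (Pi.single 0 1) (Pi.single 0 1) hdet (fun _ => ⟨fun ⟨c, hc⟩ => hM c hc, hsm⟩)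
      (fun h => by simpa using congrFun h 0) (fun h => by simpa using congrFun h 0)
    obtain ⟨R, hR, hsim⟩ := (OreGL.pre_regular hL hU (fun _ => lam) (fun _ => hl0)
      (fun _ _ _ _ _ _ => rfl)).of_sim (Equiv.refl _) (M' := M)
        ⟨S', S, h1', h1, by rw [← hLU, ← Matrix.mul_assoc, ← Matrix.mul_assoc, h1', Matrix.one_mul,
          Matrix.mul_assoc, h1', Matrix.mul_one]⟩
    exact exists_fac_of_charpoly hl0 hll h2 (hR.trans (by simp)) hsim

/-- Over fields with more than two elements. -/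
theorem exists_fac (hq : Fintype.card F ≠ 2) (hm : 3 ≤ m) (M : (Matrix (Fin m) (Fin m) F)ˣ)
    (hdet : (M : Matrix (Fin m) (Fin m) F).det = 1)
    (hM : (∀ c : F, (M : Matrix (Fin m) (Fin m) F) ≠ c • 1) ∨ M = 1) :
    ∃ R S : (Matrix (Fin m) (Fin m) F)ˣ, GoodAlt (R : Matrix (Fin m) (Fin m) F) ∧
      ((R : Matrix (Fin m) (Fin m) F) - 1).det ≠ 0 ∧ IsSquare (R : Matrix (Fin m) (Fin m) F).det ∧
      M * R = S * R * S⁻¹ := by
  have hM' : (∀ c : F, (M : Matrix (Fin m) (Fin m) F) ≠ c • 1) ∨ (M : Matrix (Fin m) (Fin m) F) = 1 :=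
    hM.imp id fun h => by rw [h, Units.val_one]
  obtain ⟨R, hG, h1, hd, hsq, hsim⟩ : ∃ R : Matrix (Fin m) (Fin m) F,
      GoodAlt R ∧ (R - 1).det ≠ 0 ∧ R.det ≠ 0 ∧ IsSquare R.det ∧ Sim R ((M : Matrix (Fin m) (Fin m) F) * R) := by
    have hlt := Fintype.one_lt_card (α := F)
    by_cases h2 : ringChar F = 2
    · have he := FiniteField.even_card_of_char_two h2
      exact exists_fac_two h2 (by omega) hm _ hdet hM'
    · obtain ⟨R, ⟨g1, g2, g3⟩, hd, hsq, -, hsim⟩ := OreGL.factors_main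
        (Nat.odd_iff.2 (FiniteField.odd_card_of_char_ne_two h2)) hm _ hdet hM'.symm
      refine ⟨R, fun P hP h => ?_, g1, hd, hsq, hsim⟩
      rcases h with h | h
      · exact g3 P (alt_eq_neg hP).2 h
      · exact g2 P (alt_eq_neg hP).2 h
  obtain ⟨R', S, rfl, hMR⟩ := exists_units hd hsim
  exact ⟨R', S, hG, h1, hsq, hMR⟩

end CfsgLib.OreOrth
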