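import Cfsg.Agent.OreOrth.Reindex

/-!
# Frames: `m` hyperbolic planes on top of a space

`frQ m Q₀` on `Fr m β`; the Levi elements `dg M c` and the two opposite unipotent groups
`Lo`, `Up`.
-/

set_option autoImplicit false
set_option linter.unusedSectionVars false

namespace CfsgLib.OreOrth

open Matrix CfsgLib.Spinor CfsgLib.Forms

variable {F : Type*} [Field F] {m : ℕ} {β : Type} [Fintype β] [DecidableEq β]

/-- Coordinates of a frame. -/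
abbrev Fr (m : ℕ) (β : Type) : Type := (Fin m ⊕ Fin m) ⊕ β

/-- The form of a frame. -/
noncomputable def frQ (m : ℕ) (Q₀ : QuadraticForm F (β → F)) : QuadraticForm F (Fr m β → F) :=
  (StdForms.plusQ m F).comp (LinearMap.funLeft F F Sum.inl) + Q₀.comp (LinearMap.funLeft F F Sum.inr)

/-- Coordinates. -/
def fv (p q : Fin m → F) (w : β → F) : Fr m β → F := Sum.elim (Sum.elim p q) w

theorem exists_fv (v : Fr m β → F) : ∃ p q w, v = fv p q w :=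
  ⟨_, _, _, by funext i; rcases i with (i | i) | i <;> rfl⟩

theorem fv_inj {p p' q q' : Fin m → F} {w w' : β → F} :
    fv p q w = fv p' q' w' ↔ p = p' ∧ q = q' ∧ w = w' := by
  constructor
  · intro h
    exact ⟨funext fun i => congrFun h (.inl (.inl i)), funext fun i => congrFun h (.inl (.inr i)),
      funext fun i => congrFun h (.inr i)⟩
  · rintro ⟨rfl, rfl, rfl⟩; rfl

@[simp] theorem fv_add (p p' q q' : Fin m → F) (w w' : β → F) :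
    fv p q w + fv p' q' w' = fv (p + p') (q + q') (w + w') := by
  funext i; rcases i with (i | i) | i <;> rfl

@[simp] theorem fv_smul (t : F) (p q : Fin m → F) (w : β → F) :
    t • fv p q w = fv (t • p) (t • q) (t • w) := by
  funext i; rcases i with (i | i) | i <;> rfl

theorem fv_sub (p p' q q' : Fin m → F) (w w' : β → F) :
    fv p q w - fv p' q' w' = fv (p - p') (q - q') (w - w') := by
  funext i; rcases i with (i | i) | i <;> rfl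

theorem fv_zero : fv (0 : Fin m → F) 0 (0 : β → F) = 0 := by
  funext i; rcases i with (i | i) | i <;> rfl

variable (Q₀ : QuadraticForm F (β → F))

@[simp] theorem frQ_fv (p q : Fin m → F) (w : β → F) :
    frQ m Q₀ (fv p q w) = p ⬝ᵥ q + Q₀ w := by
  rw [frQ, QuadraticMap.add_apply, QuadraticMap.comp_apply, QuadraticMap.comp_apply,
    StdForms.plusQ_apply]
  rfl

@[simp] theorem polar_fv (p p' q q' : Fin m → F) (w w' : β → F) :
    QuadraticMap.polar (⇑(frQ m Q₀)) (fv p q w) (fv p' q' w') =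
      p ⬝ᵥ q' + p' ⬝ᵥ q + QuadraticMap.polar (⇑Q₀) w w' := by
  simp only [QuadraticMap.polar, fv_add, frQ_fv, add_dotProduct, dotProduct_add]
  ring

theorem frQ_nondegenerate (hQ : (QuadraticMap.polarBilin Q₀).Nondegenerate) :
    (QuadraticMap.polarBilin (frQ m Q₀)).Nondegenerate := by
  refine StdForms.nondegenerate_of_sep _ fun x hx => ?_
  obtain ⟨p, q, w, rfl⟩ := exists_fv x
  have hp : p = 0 := funext fun i => by simpa using hx (fv 0 (Pi.single i 1) 0)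
  have hq : q = 0 := funext fun i => by simpa using hx (fv (Pi.single i 1) 0 0)
  subst hp hq
  have hw : w = 0 := hQ.1 w fun y => by simpa using hx (fv 0 0 y)
  subst hw
  exact fv_zero

theorem card_fr : Fintype.card (Fr m β) = 2 * m + Fintype.card β := by
  simp [Fintype.card_sum, two_mul]

/-- Extensionality on coordinates. -/
theorem fr_ext {g h : ↥(Cfsg.isometryGroup F ⇑(frQ m Q₀))}
    (e : ∀ p q w, mat (frQ m Q₀) g *ᵥ fv p q w = mat (frQ m Q₀) h *ᵥ fv p q w) : g = h :=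
  mat_ext _ (Matrix.ext_iff_mulVec.2 fun v => by
    obtain ⟨p, q, w, rfl⟩ := exists_fv v; exact e p q w)

/-- The matrix of a Levi element. -/
def dgMat (M : (Matrix (Fin m) (Fin m) F)ˣ) (C : Matrix β β F) : Matrix (Fr m β) (Fr m β) F :=
  fromBlocks (fromBlocks (M : Matrix (Fin m) (Fin m) F) 0 0 (↑M⁻¹ : Matrix (Fin m) (Fin m) F)ᵀ) 0 0 C

theorem dgMat_mulVec (M : (Matrix (Fin m) (Fin m) F)ˣ) (C : Matrix β β F) (p q : Fin m → F)
    (w : β → F) : dgMat M C *ᵥ fv p q w =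
      fv ((M : Matrix (Fin m) (Fin m) F) *ᵥ p) ((↑M⁻¹ : Matrix (Fin m) (Fin m) F)ᵀ *ᵥ q) (C *ᵥ w) := by
  rw [dgMat, fromBlocks_mulVec, fromBlocks_mulVec]
  funext i
  rcases i with (i | i) | i <;> simp [fv, Function.comp_def]

theorem dotProduct_dg (M : (Matrix (Fin m) (Fin m) F)ˣ) (p q : Fin m → F) :
    ((M : Matrix (Fin m) (Fin m) F) *ᵥ p) ⬝ᵥ ((↑M⁻¹ : Matrix (Fin m) (Fin m) F)ᵀ *ᵥ q) = p ⬝ᵥ q := by
  rw [mulVec_transpose, dotProduct_comm, ← dotProduct_mulVec, mulVec_mulVec, Units.inv_mul,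
    one_mulVec, dotProduct_comm]

theorem dgMat_mul (M M' : (Matrix (Fin m) (Fin m) F)ˣ) (C C' : Matrix β β F) :
    dgMat (M * M') (C * C') = dgMat M C * dgMat M' C' := by
  simp [dgMat, fromBlocks_multiply, transpose_mul]

theorem dgMat_one : dgMat (1 : (Matrix (Fin m) (Fin m) F)ˣ) (1 : Matrix β β F) = 1 := by
  simp [dgMat, fromBlocks_one]

/-- The Levi element. -/
noncomputable def dgFun (M : (Matrix (Fin m) (Fin m) F)ˣ) (c : ↥(Cfsg.isometryGroup F ⇑Q₀)) :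
    ↥(Cfsg.isometryGroup F ⇑(frQ m Q₀)) :=
  ⟨⟨dgMat M (mat Q₀ c), dgMat M⁻¹ (mat Q₀ c⁻¹),
    by rw [← dgMat_mul, mul_inv_cancel, ← mat_mul, mul_inv_cancel, mat_one, dgMat_one],
    by rw [← dgMat_mul, inv_mul_cancel, ← mat_mul, inv_mul_cancel, mat_one, dgMat_one]⟩,
   fun v _ => by
    obtain ⟨p, q, w, rfl⟩ := exists_fv v
    show frQ m Q₀ (dgMat M (mat Q₀ c) *ᵥ fv p q w) = frQ m Q₀ (fv p q w)
    rw [dgMat_mulVec, frQ_fv, frQ_fv, dotProduct_dg, quad_mulVec]⟩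

/-- The Levi elements as a homomorphism. -/
noncomputable def dgHom :
    (Matrix (Fin m) (Fin m) F)ˣ × ↥(Cfsg.isometryGroup F ⇑Q₀) →* ↥(Cfsg.isometryGroup F ⇑(frQ m Q₀)) where
  toFun x := dgFun Q₀ x.1 x.2
  map_one' := mat_ext _ (by
    show dgMat 1 (mat Q₀ 1) = 1
    rw [mat_one, dgMat_one])
  map_mul' x y := mat_ext _ (by
    show dgMat (x.1 * y.1) (mat Q₀ (x.2 * y.2)) = _
    rw [mat_mul, dgMat_mul]
    rfl)

/-- The Levi element. -/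
noncomputable abbrev dg (M : (Matrix (Fin m) (Fin m) F)ˣ) (c : ↥(Cfsg.isometryGroup F ⇑Q₀)) :
    ↥(Cfsg.isometryGroup F ⇑(frQ m Q₀)) :=
  dgHom Q₀ (M, c)

theorem mat_dg (M : (Matrix (Fin m) (Fin m) F)ˣ) (c : ↥(Cfsg.isometryGroup F ⇑Q₀)) :
    mat (frQ m Q₀) (dg Q₀ M c) = dgMat M (mat Q₀ c) := rfl

theorem dg_mulVec (M : (Matrix (Fin m) (Fin m) F)ˣ) (c : ↥(Cfsg.isometryGroup F ⇑Q₀))
    (p q : Fin m → F) (w : β → F) :
    mat (frQ m Q₀) (dg Q₀ M c) *ᵥ fv p q w =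
      fv ((M : Matrix (Fin m) (Fin m) F) *ᵥ p) ((↑M⁻¹ : Matrix (Fin m) (Fin m) F)ᵀ *ᵥ q)
        (mat Q₀ c *ᵥ w) := by
  rw [mat_dg, dgMat_mulVec]

theorem dg_mul (M M' : (Matrix (Fin m) (Fin m) F)ˣ) (c c' : ↥(Cfsg.isometryGroup F ⇑Q₀)) :
    dg Q₀ M c * dg Q₀ M' c' = dg Q₀ (M * M') (c * c') := by
  rw [dg, dg, dg, ← map_mul, Prod.mk_mul_mk]

theorem dg_inv (M : (Matrix (Fin m) (Fin m) F)ˣ) (c : ↥(Cfsg.isometryGroup F ⇑Q₀)) :
    (dg Q₀ M c)⁻¹ = dg Q₀ M⁻¹ c⁻¹ := by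
  rw [dg, dg, ← map_inv, Prod.inv_mk]

theorem dg_one : dg Q₀ (1 : (Matrix (Fin m) (Fin m) F)ˣ) 1 = 1 := map_one (dgHom Q₀)

/-- The inverse transpose. -/
def invT (M : (Matrix (Fin m) (Fin m) F)ˣ) : (Matrix (Fin m) (Fin m) F)ˣ :=
  ⟨(↑M⁻¹ : Matrix (Fin m) (Fin m) F)ᵀ, (M : Matrix (Fin m) (Fin m) F)ᵀ,
    by rw [← transpose_mul, Units.mul_inv, transpose_one],
    by rw [← transpose_mul, Units.inv_mul, transpose_one]⟩

theorem frQ_swap (v : Fr m β → F) :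
    frQ m Q₀ v =
      frQ m Q₀ (v ∘ Equiv.sumCongr (Equiv.sumComm (Fin m) (Fin m)) (Equiv.refl β)) := by
  obtain ⟨p, q, w, rfl⟩ := exists_fv v
  have : fv p q w ∘ Equiv.sumCongr (Equiv.sumComm (Fin m) (Fin m)) (Equiv.refl β) = fv q p w := by
    funext i; rcases i with (i | i) | i <;> rfl
  rw [this, frQ_fv, frQ_fv, dotProduct_comm]

/-- Interchanging the two halves of every pair. -/
noncomputable def swap : ↥(Cfsg.isometryGroup F ⇑(frQ m Q₀)) ≃* ↥(Cfsg.isometryGroup F ⇑(frQ m Q₀)) :=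
  reidx (Equiv.sumCongr (Equiv.sumComm (Fin m) (Fin m)) (Equiv.refl β)) (frQ_swap Q₀)

theorem swap_mulVec (g : ↥(Cfsg.isometryGroup F ⇑(frQ m Q₀))) (p q : Fin m → F) (w : β → F)
    {p' q' : Fin m → F} {w' : β → F} (h : mat (frQ m Q₀) g *ᵥ fv q p w = fv q' p' w') :
    mat (frQ m Q₀) (swap Q₀ g) *ᵥ fv p q w = fv p' q' w' := by
  rw [swap, reidx_mulVec]
  have : fv p q w ∘ Equiv.sumCongr (Equiv.sumComm (Fin m) (Fin m)) (Equiv.refl β) = fv q p w := by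
    funext i; rcases i with (i | i) | i <;> rfl
  rw [this, h]
  funext i; rcases i with (i | i) | i <;> rfl

theorem swap_dg (M : (Matrix (Fin m) (Fin m) F)ˣ) (c : ↥(Cfsg.isometryGroup F ⇑Q₀)) :
    swap Q₀ (dg Q₀ M c) = dg Q₀ (invT M) c :=
  fr_ext Q₀ fun p q w => by
    rw [swap_mulVec Q₀ _ p q w (dg_mulVec Q₀ M c q p w), dg_mulVec]
    refine fv_inj.2 ⟨rfl, ?_, rfl⟩
    show _ = ((M : Matrix (Fin m) (Fin m) F)ᵀ)ᵀ *ᵥ q
    rw [transpose_transpose]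

/-- The unipotent group fixing the second halves. -/
def Lo : Subgroup ↥(Cfsg.isometryGroup F ⇑(frQ m Q₀)) where
  carrier := {g | (∀ q, mat (frQ m Q₀) g *ᵥ fv 0 q 0 = fv 0 q 0) ∧
    ∀ w, ∃ q', mat (frQ m Q₀) g *ᵥ fv 0 0 w = fv 0 q' w}
  one_mem' := ⟨fun q => by rw [mat_one, one_mulVec], fun w => ⟨0, by rw [mat_one, one_mulVec]⟩⟩
  mul_mem' := by
    rintro g h ⟨g1, g2⟩ ⟨h1, h2⟩
    refine ⟨fun q => by rw [mat_mul, ← mulVec_mulVec, h1, g1], fun w => ?_⟩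
    obtain ⟨a, ha⟩ := h2 w
    obtain ⟨b, hb⟩ := g2 w
    refine ⟨a + b, ?_⟩
    rw [mat_mul, ← mulVec_mulVec, ha,
      show fv (0 : Fin m → F) a w = fv 0 a 0 + fv 0 0 w by simp, mulVec_add, g1, hb]
    simp
  inv_mem' := by
    rintro g ⟨g1, g2⟩
    have h1 : ∀ q, mat (frQ m Q₀) g⁻¹ *ᵥ fv 0 q 0 = fv 0 q 0 := fun q => by
      conv_lhs => rw [← g1 q]
      rw [inv_mulVec_mulVec]
    refine ⟨h1, fun w => ?_⟩
    obtain ⟨a, ha⟩ := g2 w
    refine ⟨-a, ?_⟩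
    have e : fv (0 : Fin m → F) (-a) w = fv 0 (-a) 0 + fv 0 0 w := by simp
    have h := inv_mulVec_mulVec g (fv 0 0 w)
    rw [ha, show fv (0 : Fin m → F) a w = fv 0 a 0 + fv 0 0 w by simp, mulVec_add, h1] at h
    have h' := eq_sub_of_add_eq' h
    rw [h']
    rw [show fv (0 : Fin m → F) 0 w = fv 0 0 w from rfl]
    funext i
    rcases i with (i | i) | i <;> simp [fv]

/-- The unipotent group fixing the first halves. -/
noncomputable def Up : Subgroup ↥(Cfsg.isometryGroup F ⇑(frQ m Q₀)) :=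
  (Lo Q₀).comap (swap Q₀).toMonoidHom

theorem mem_Up {g : ↥(Cfsg.isometryGroup F ⇑(frQ m Q₀))} :
    g ∈ Up Q₀ ↔ swap Q₀ g ∈ Lo Q₀ := Iff.rfl

theorem mem_Up_of {g : ↥(Cfsg.isometryGroup F ⇑(frQ m Q₀))}
    (h1 : ∀ p, mat (frQ m Q₀) g *ᵥ fv p 0 0 = fv p 0 0)
    (h2 : ∀ w, ∃ p', mat (frQ m Q₀) g *ᵥ fv 0 0 w = fv p' 0 w) : g ∈ Up Q₀ := by
  refine ⟨fun q => swap_mulVec Q₀ g 0 q 0 (h1 q), fun w => ?_⟩
  obtain ⟨p', hp⟩ := h2 w
  exact ⟨p', swap_mulVec Q₀ g 0 0 w hp⟩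

theorem dg_conj_Lo (M : (Matrix (Fin m) (Fin m) F)ˣ) (c : ↥(Cfsg.isometryGroup F ⇑Q₀))
    {g : ↥(Cfsg.isometryGroup F ⇑(frQ m Q₀))} (hg : g ∈ Lo Q₀) :
    dg Q₀ M c * g * (dg Q₀ M c)⁻¹ ∈ Lo Q₀ := by
  refine ⟨fun q => ?_, fun w => ?_⟩
  · rw [mat_mul, mat_mul, ← mulVec_mulVec, ← mulVec_mulVec, dg_inv, dg_mulVec, mulVec_zero,
      mulVec_zero, hg.1, dg_mulVec, mulVec_zero, mulVec_zero, inv_inv, mulVec_mulVec,
      ← transpose_mul, Units.mul_inv, transpose_one, one_mulVec]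
  · obtain ⟨a, ha⟩ := hg.2 (mat Q₀ c⁻¹ *ᵥ w)
    refine ⟨(↑M⁻¹ : Matrix (Fin m) (Fin m) F)ᵀ *ᵥ a, ?_⟩
    rw [mat_mul, mat_mul, ← mulVec_mulVec, ← mulVec_mulVec, dg_inv, dg_mulVec, mulVec_zero,
      mulVec_zero, ha, dg_mulVec, mulVec_zero, mulVec_inv_mulVec]

theorem dg_conj_Up (M : (Matrix (Fin m) (Fin m) F)ˣ) (c : ↥(Cfsg.isometryGroup F ⇑Q₀))
    {g : ↥(Cfsg.isometryGroup F ⇑(frQ m Q₀))} (hg : g ∈ Up Q₀) :
    dg Q₀ M c * g * (dg Q₀ M c)⁻¹ ∈ Up Q₀ := by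
  rw [mem_Up, map_mul, map_mul, map_inv, swap_dg]
  exact dg_conj_Lo Q₀ _ c (mem_Up Q₀ |>.1 hg)

end CfsgLib.OreOrth
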