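import Cfsg.Agent.OreOrth.Ore
import Cfsg.Agent.OreOrth.Levi
import Cfsg.Agent.OreOrth.Plane
import Mathlib.FieldTheory.Finite.Basic

/-!
# Minus the identity as a commutator

Anticommuting pairs of linear maps settle frames with an even number of planes; with a middle plane, a
rotation of order four and a reflection anticommute.
-/

set_option autoImplicit false
set_option linter.unusedSectionVars false

namespace CfsgLib.OreOrth

open Matrix CfsgLib.Spinor CfsgLib.Forms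

variable {F : Type*} [Field F] [Fintype F]

theorem exists_anti_two (h2 : (2 : F) ≠ 0) {d t : F} (ht : t ≠ 0) :
    ∃ A B : Matrix (Fin 2) (Fin 2) F, A * B = -(B * A) ∧ A.det = d ∧ B.det = t := by
  have hodd : Fintype.card F % 2 = 1 := FiniteField.odd_card_of_char_ne_two fun h => h2 (by
    haveI : CharP F 2 := ringChar.of_eq h
    exact CharTwo.two_eq_zero)
  obtain ⟨u, v, huv⟩ := FiniteField.exists_root_sum_quadratic
    (f := Polynomial.X ^ 2 + Polynomial.C d) (g := Polynomial.C t * Polynomial.X ^ 2)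
    (Polynomial.degree_X_pow_add_C (by norm_num) d) (Polynomial.degree_C_mul_X_pow 2 ht) hodd
  simp only [Polynomial.eval_add, Polynomial.eval_pow, Polynomial.eval_X, Polynomial.eval_C,
    Polynomial.eval_mul] at huv
  refine ⟨!![u, v * t; v, -u], !![0, t; -1, 0], ?_, ?_, by rw [det_fin_two_of]; ring⟩
  · ext i j; fin_cases i <;> fin_cases j <;> simp <;> ring
  · rw [det_fin_two_of]; linear_combination -huv

theorem anti_blocks {a b n : ℕ} (σ : Fin a ⊕ Fin b ≃ Fin n) {A₀ B₀ : Matrix (Fin a) (Fin a) F}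
    {A₁ B₁ : Matrix (Fin b) (Fin b) F} (h0 : A₀ * B₀ = -(B₀ * A₀)) (h1 : A₁ * B₁ = -(B₁ * A₁)) :
    (fromBlocks A₀ 0 0 A₁).submatrix σ.symm σ.symm * (fromBlocks B₀ 0 0 B₁).submatrix σ.symm σ.symm =
      -((fromBlocks B₀ 0 0 B₁).submatrix σ.symm σ.symm * (fromBlocks A₀ 0 0 A₁).submatrix σ.symm σ.symm) := by
  rw [submatrix_mul_equiv, submatrix_mul_equiv, fromBlocks_multiply, fromBlocks_multiply]
  simp [h0, h1]
  ext i j
  obtain ⟨x, rfl⟩ := σ.surjective i
  obtain ⟨y, rfl⟩ := σ.surjective j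
  rcases x with x | x <;> rcases y with y | y <;> simp

theorem exists_anti (h2 : (2 : F) ≠ 0) : ∀ (j : ℕ) {d t : F}, t ≠ 0 →
    ∃ A B : Matrix (Fin (2 * j + 2)) (Fin (2 * j + 2)) F, A * B = -(B * A) ∧ A.det = d ∧ B.det = t
  | 0, _, _, ht => exists_anti_two h2 ht
  | j + 1, d, t, ht => by
    obtain ⟨A₀, B₀, h0, hA0, hB0⟩ := exists_anti_two h2 (d := d) ht
    obtain ⟨A₁, B₁, h1, hA1, hB1⟩ := exists_anti h2 j (d := (1 : F)) (t := 1) one_ne_zero
    let σ : Fin 2 ⊕ Fin (2 * j + 2) ≃ Fin (2 * (j + 1) + 2) := finSumFinEquiv.trans (finCongr (by omega))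
    refine ⟨(fromBlocks A₀ 0 0 A₁).submatrix σ.symm σ.symm, (fromBlocks B₀ 0 0 B₁).submatrix σ.symm σ.symm,
      ?_, ?_, ?_⟩
    · exact anti_blocks σ h0 h1
    · rw [det_submatrix_equiv_self, det_fromBlocks_zero₂₁, hA0, hA1, mul_one]
    · rw [det_submatrix_equiv_self, det_fromBlocks_zero₂₁, hB0, hB1, mul_one]

theorem exists_unit {n : ℕ} (A : Matrix (Fin n) (Fin n) F) (h : A.det ≠ 0) :
    ∃ U : (Matrix (Fin n) (Fin n) F)ˣ, (U : Matrix (Fin n) (Fin n) F) = A :=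
  (Matrix.isUnit_iff_isUnit_det A).2 (isUnit_iff_ne_zero.2 h)

theorem units_comm_eq_neg {G : Type*} [Monoid G] [HasDistribNeg G] {A B : Gˣ}
    (h : (A : G) * B = -((B : G) * A)) : A * B * A⁻¹ * B⁻¹ = -1 := by
  have e : A * B = -(B * A) := Units.ext (by rw [Units.val_mul, Units.val_neg, Units.val_mul]; exact h)
  rw [e, neg_mul, neg_mul, mul_assoc B A, mul_inv_cancel, mul_one, mul_inv_cancel]

variable {m : ℕ} {β : Type} [Fintype β] [DecidableEq β] (Q₀ : QuadraticForm F (β → F))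

/-- A Levi element times a reflection. -/
theorem dg_mul_refl_mem (hQ : (QuadraticMap.polarBilin Q₀).Nondegenerate) (hm : 3 ≤ m)
    (R : (Matrix (Fin m) (Fin m) F)ˣ) {c : ↥(Cfsg.isometryGroup F ⇑Q₀)} {vs : List (β → F)}
    (h : IsReflProd Q₀ c vs) (he : Odd vs.length) {v : Fr m β → F} (hv : frQ m Q₀ v ≠ 0)
    (hs : IsSquare ((R : Matrix (Fin m) (Fin m) F).det * (vs.map fun v => Q₀ v).prod * frQ m Q₀ v)) :
    dg Q₀ R c * reflIso (frQ m Q₀) v hv ∈ Cfsg.Omega F ⇑(frQ m Q₀) := by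
  obtain ⟨k, rfl⟩ : ∃ k, m = k + 1 := ⟨m - 1, by omega⟩
  set d := (R : Matrix (Fin (k + 1)) (Fin (k + 1)) F).det with hd
  have hd0 : d ≠ 0 := fun h0 => by
    have := congrArg Matrix.det R.mul_inv
    rw [det_mul, ← hd, h0, zero_mul, det_one] at this
    exact zero_ne_one this
  have e : dg Q₀ R c * reflIso (frQ (k + 1) Q₀) v hv = dg Q₀ (R * (dunit d hd0)⁻¹) 1 *
      (dg Q₀ (dunit d hd0) 1 * dg Q₀ 1 c * reflIso (frQ (k + 1) Q₀) v hv) := by
    simp only [← mul_assoc, dg_mul, mul_one, one_mul, inv_mul_cancel_right]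
  rw [e]
  refine mul_mem (dg_mem_of_det Q₀ hm _ ?_) ?_
  · rw [Units.val_mul, det_mul, ← hd]
    show d * (diagonal (Function.update 1 0 d⁻¹)).det = 1
    rw [det_diagonal, Fin.prod_univ_succ]
    simp [hd0]
  · refine (OmegaOrbits.mem_omega_iff_even (frQ_nondegenerate Q₀ hQ)
      (Or.inr (by rw [card_fr]; omega))
      (((isReflProd_dunit Q₀ d hd0).mul (isReflProd_dg Q₀ h)).mul (IsReflProd.reflIso v hv))).2 ⟨?_, ?_⟩
    · simp only [List.length_append, List.length_map, List.length_cons, List.length_nil]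
      obtain ⟨i, hi⟩ := he
      exact ⟨i + 2, by omega⟩
    · obtain ⟨r, hr⟩ := hs
      refine ⟨r / d, ?_⟩
      simp only [List.map_append, List.map_cons, List.map_nil, List.prod_append, List.prod_cons,
        List.prod_nil, frQ_fv, List.map_map, Function.comp_def, zero_dotProduct, zero_add]
      simp only [single_dotProduct, Pi.single_eq_same, mul_one, one_mul, QuadraticMap.map_zero, add_zero]
      field_simp
      linear_combination hr

/-- Even number of planes. -/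
theorem isOre_dg_neg (h2 : (2 : F) ≠ 0) (hm : 3 ≤ m) (he : Even m) :
    IsOre (frQ m Q₀) (dg Q₀ (-1) 1) := by
  obtain ⟨j, rfl⟩ : ∃ j, m = 2 * j + 2 := by
    obtain ⟨k, hk⟩ := he; exact ⟨k - 1, by omega⟩
  obtain ⟨A, B, hAB, hA, hB⟩ := exists_anti h2 j (d := (1 : F)) (t := 1) one_ne_zero
  obtain ⟨A, rfl⟩ := exists_unit A (by rw [hA]; exact one_ne_zero)
  obtain ⟨B, rfl⟩ := exists_unit B (by rw [hB]; exact one_ne_zero)
  refine ⟨dg Q₀ A 1, dg_mem_of_det Q₀ hm A hA, dg Q₀ B 1, dg_mem_of_det Q₀ hm B hB, ?_⟩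
  simp only [dg_inv, dg_mul, units_comm_eq_neg hAB, inv_one, mul_one]

/-- Minus the identity in a frame whose middle plane has square discriminant up to sign. -/
theorem isOre_neg_middle (hQ : (QuadraticMap.polarBilin Q₀).Nondegenerate) (h2 : (2 : F) ≠ 0)
    (hm : 4 ≤ m) (he : Even m) (hβ : Fintype.card β = 2) {e f : β → F} (hQe : Q₀ e ≠ 0)
    (hef : QuadraticMap.polar (⇑Q₀) e f = 0) {s : F} (hs0 : s ≠ 0) (hs : Q₀ e * Q₀ f = s * s)
    {g : ↥(Cfsg.isometryGroup F ⇑(frQ m Q₀))} (hg : mat (frQ m Q₀) g = -1) : IsOre (frQ m Q₀) g := by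
  obtain ⟨j, rfl⟩ : ∃ j, m = 2 + (2 * j + 2) := by
    obtain ⟨k, hk⟩ := he; exact ⟨k - 2, by omega⟩
  set b := e + (Q₀ e / s) • f with hb
  have hQb : Q₀ b = 2 * Q₀ e := by
    rw [hb, QuadraticMap.map_add (⇑Q₀), QuadraticMap.map_smul, QuadraticMap.polar_smul_right, hef,
      smul_zero, add_zero, smul_eq_mul]
    field_simp
    linear_combination hs
  have hQb0 : Q₀ b ≠ 0 := by rw [hQb]; exact mul_ne_zero h2 hQe
  have hpol : QuadraticMap.polar (⇑Q₀) e b = 2 * Q₀ e := by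
    rw [hb, QuadraticMap.polar_add_right, QuadraticMap.polar_smul_right, hef, smul_zero, add_zero, polar_self']
  set c := reflIso Q₀ e hQe * reflIso Q₀ b hQb0 with hc
  have hτ : rotTrace Q₀ e b = 0 := by
    rw [rotTrace, hpol, hQb]; field_simp; ring
  have hcc : mat Q₀ c * mat Q₀ c = -1 := Matrix.ext_iff_mulVec.2 fun x => by
    rw [← mulVec_mulVec, hc, rot_quadratic hβ hQe hQb0 x, hτ, zero_smul, zero_sub, neg_mulVec, one_mulVec]
  set σa := reflIso Q₀ e hQe with hσa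
  have hinv : σa⁻¹ = σa := inv_eq_of_mul_eq_one_right (refl_mul_refl hQe)
  have hccomm : mat Q₀ (c * σa * c⁻¹ * σa⁻¹) = -1 := by
    have h1 : c * σa * c⁻¹ * σa⁻¹ = c * c := by
      have hb1 : (reflIso Q₀ b hQb0)⁻¹ = reflIso Q₀ b hQb0 := inv_eq_of_mul_eq_one_right (refl_mul_refl hQb0)
      rw [hc, _root_.mul_inv_rev, hb1, hinv]
      simp only [mul_assoc, hσa, refl_mul_refl hQe, mul_one]
    rw [h1, mat_mul, hcc]
  obtain ⟨A, B, hAB, hA, hB⟩ := exists_anti h2 j (d := -(2 : F)⁻¹) hQe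
  let σ : Fin 2 ⊕ Fin (2 * j + 2) ≃ Fin (2 + (2 * j + 2)) := finSumFinEquiv
  set DA := (fromBlocks (!![(1 : F), 0; 0, -1]) 0 0 A).submatrix σ.symm σ.symm with hDA
  set SB := (fromBlocks (!![(0 : F), 1; 1, 0]) 0 0 B).submatrix σ.symm σ.symm with hSB
  have hDAd : DA.det = (2 : F)⁻¹ := by
    rw [hDA, det_submatrix_equiv_self, det_fromBlocks_zero₂₁, hA, det_fin_two_of]; ring
  have hSBd : SB.det = -Q₀ e := by
    rw [hSB, det_submatrix_equiv_self, det_fromBlocks_zero₂₁, hB, det_fin_two_of]; ring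
  have hanti : DA * SB = -(SB * DA) :=
    anti_blocks σ (by ext i j; fin_cases i <;> fin_cases j <;> simp) hAB
  obtain ⟨R, hR⟩ := exists_unit DA (by rw [hDAd]; exact inv_ne_zero h2)
  obtain ⟨S, hS⟩ := exists_unit SB (by rw [hSBd]; exact neg_ne_zero.2 hQe)
  -- the reflection in the first plane
  set e₀ : Fin (2 + (2 * j + 2)) → F := Pi.single 0 1 with he₀
  set v : Fr (2 + (2 * j + 2)) β → F := fv e₀ (-e₀) 0 with hv
  have hQv : frQ _ Q₀ v = -1 := by
    rw [hv, frQ_fv, QuadraticMap.map_zero, add_zero, dotProduct_neg, he₀, single_dotProduct, one_mul,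
      Pi.single_eq_same]
  have hQv0 : frQ _ Q₀ v ≠ 0 := by rw [hQv]; exact neg_ne_zero.2 one_ne_zero
  set r := reflIso (frQ _ Q₀) v hQv0 with hr
  set X := dg Q₀ R c with hX
  set Y := dg Q₀ S σa * r with hY
  have hfix : (R : Matrix _ _ F) *ᵥ e₀ = e₀ ∧ (↑R⁻¹ : Matrix _ _ F)ᵀ *ᵥ e₀ = e₀ := by
    have h0 : σ.symm (0 : Fin (2 + (2 * j + 2))) = Sum.inl 0 := by
      rw [Equiv.symm_apply_eq]; exact Fin.ext (by simp [σ])
    have e1 : ∀ M : Matrix (Fin (2 + (2 * j + 2))) (Fin (2 + (2 * j + 2))) F,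
        (∀ i, M i 0 = if i = 0 then 1 else 0) → M *ᵥ e₀ = e₀ := fun M hM => by
      rw [he₀, mulVec_single_one]; funext i; simp [hM, Pi.single_apply]
    have hz : ∀ x : Fin 2 ⊕ Fin (2 * j + 2), σ x = 0 ↔ x = Sum.inl 0 := fun x => by
      rw [← Equiv.eq_symm_apply, h0]
    have hcol : ∀ i : Fin (2 + (2 * j + 2)),
        (R : Matrix (Fin (2 + (2 * j + 2))) (Fin (2 + (2 * j + 2))) F) i 0 = if i = 0 then 1 else 0 := fun i => by
      rw [hR, hDA, submatrix_apply, h0]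
      obtain ⟨x, rfl⟩ := σ.surjective i
      rw [Equiv.symm_apply_apply, if_congr (hz x) rfl rfl]
      rcases x with x | x
      · rw [fromBlocks_apply₁₁]
        revert x
        rw [Fin.forall_fin_two]
        constructor <;> simp
      · rw [fromBlocks_apply₂₁, if_neg Sum.inr_ne_inl, Matrix.zero_apply]
    have hrow : ∀ i : Fin (2 + (2 * j + 2)),
        (R : Matrix (Fin (2 + (2 * j + 2))) (Fin (2 + (2 * j + 2))) F)ᵀ i 0 = if i = 0 then 1 else 0 := fun i => by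
      rw [transpose_apply, hR, hDA, submatrix_apply, h0]
      obtain ⟨x, rfl⟩ := σ.surjective i
      rw [Equiv.symm_apply_apply, if_congr (hz x) rfl rfl]
      rcases x with x | x
      · rw [fromBlocks_apply₁₁]
        revert x
        rw [Fin.forall_fin_two]
        constructor <;> simp
      · rw [fromBlocks_apply₁₂, if_neg Sum.inr_ne_inl, Matrix.zero_apply]
    refine ⟨e1 _ hcol, ?_⟩
    conv_lhs => rw [← e1 _ hrow, mulVec_mulVec, ← transpose_mul, Units.mul_inv, transpose_one, one_mulVec]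
  have hXv : mat (frQ _ Q₀) X *ᵥ v = v := by
    rw [hX, hv, dg_mulVec, hfix.1, mulVec_neg, hfix.2, mulVec_zero]
  have hrX : r * X = X * r := by
    refine mat_ext _ (Matrix.ext_iff_mulVec.2 fun x => ?_)
    rw [hr, mat_mul, mat_mul, ← mulVec_mulVec, ← mulVec_mulVec, mat_reflIso, reflectionMatrix_mulVec,
      reflectionMatrix_mulVec, refl_apply, refl_apply, mulVec_sub, mulVec_smul, hXv]
    conv_lhs => rw [show QuadraticMap.polar (⇑(frQ _ Q₀)) v (mat (frQ _ Q₀) X *ᵥ x) =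
      QuadraticMap.polar (⇑(frQ _ Q₀)) v x by
        conv_lhs => rw [← hXv]
        exact polar_mulVec (frQ _ Q₀) X v x]
  have hXmem : X ∈ Cfsg.Omega F ⇑(frQ _ Q₀) := by
    refine dg_mem_omega Q₀ hQ (by omega) R ((IsReflProd.reflIso e hQe).mul (IsReflProd.reflIso b hQb0))
      ⟨1, rfl⟩ ⟨Q₀ e, ?_⟩
    simp only [List.map_cons, List.map_nil, List.prod_cons, List.prod_nil, List.cons_append, List.nil_append,
      mul_one, hR, hDAd, hQb]
    field_simp
  have hYmem : Y ∈ Cfsg.Omega F ⇑(frQ _ Q₀) := by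
    refine dg_mul_refl_mem Q₀ hQ (by omega) S (IsReflProd.reflIso e hQe) ⟨0, rfl⟩ hQv0 ⟨Q₀ e, ?_⟩
    simp only [List.map_cons, List.map_nil, List.prod_cons, List.prod_nil, mul_one, hS, hSBd, hQv]
    ring
  refine ⟨X, hXmem, Y, hYmem, ?_⟩
  have hc1 : X * Y * X⁻¹ * Y⁻¹ = dg Q₀ (R * S * R⁻¹ * S⁻¹) (c * σa * c⁻¹ * σa⁻¹) := by
    rw [hY, _root_.mul_inv_rev, show X * (dg Q₀ S σa * r) * X⁻¹ * (r⁻¹ * (dg Q₀ S σa)⁻¹) =
      X * dg Q₀ S σa * ((r * X⁻¹) * r⁻¹) * (dg Q₀ S σa)⁻¹ by group]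
    rw [show r * X⁻¹ = X⁻¹ * r by
      rw [eq_inv_mul_iff_mul_eq, ← mul_assoc, ← hrX, mul_inv_cancel_right]]
    rw [mul_inv_cancel_right, hX, dg_inv, dg_inv, dg_mul, dg_mul, dg_mul]
  refine mat_ext _ ?_
  rw [hg, hc1, units_comm_eq_neg (by rw [hR, hS]; exact hanti), mat_dg, hccomm, dgMat]
  simp [fromBlocks_neg, ← fromBlocks_one]

theorem dg_mem_iff_square (hQ : (QuadraticMap.polarBilin Q₀).Nondegenerate) (hm : 3 ≤ m)
    (R : (Matrix (Fin m) (Fin m) F)ˣ) {c : ↥(Cfsg.isometryGroup F ⇑Q₀)} {vs : List (β → F)}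
    (h : IsReflProd Q₀ c vs) (hmem : dg Q₀ R c ∈ Cfsg.Omega F ⇑(frQ m Q₀)) :
    IsSquare ((R : Matrix (Fin m) (Fin m) F).det * (vs.map fun v => Q₀ v).prod) := by
  obtain ⟨k, rfl⟩ : ∃ k, m = k + 1 := ⟨m - 1, by omega⟩
  set d := (R : Matrix (Fin (k + 1)) (Fin (k + 1)) F).det with hd
  have hd0 : d ≠ 0 := fun h0 => by
    have := congrArg Matrix.det R.mul_inv
    rw [det_mul, ← hd, h0, zero_mul, det_one] at this
    exact zero_ne_one this
  have e : dg Q₀ R c = dg Q₀ (R * (dunit d hd0)⁻¹) 1 * (dg Q₀ (dunit d hd0) 1 * dg Q₀ 1 c) := by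
    simp only [← mul_assoc, dg_mul, mul_one, one_mul, inv_mul_cancel_right]
  rw [e] at hmem
  have h1 : dg Q₀ (R * (dunit d hd0)⁻¹) 1 ∈ Cfsg.Omega F ⇑(frQ (k + 1) Q₀) := by
    refine dg_mem_of_det Q₀ hm _ ?_
    rw [Units.val_mul, det_mul, ← hd]
    show d * (diagonal (Function.update 1 0 d⁻¹)).det = 1
    rw [det_diagonal, Fin.prod_univ_succ]
    simp [hd0]
  obtain ⟨-, r, hr⟩ := (OmegaOrbits.mem_omega_iff_even (frQ_nondegenerate Q₀ hQ)
    (Or.inr (by rw [card_fr]; omega)) ((isReflProd_dunit Q₀ d hd0).mul (isReflProd_dg Q₀ h))).1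
      ((Subgroup.mul_mem_cancel_left _ h1).1 hmem)
  refine ⟨r * d, ?_⟩
  simp only [List.map_append, List.map_cons, List.map_nil, List.prod_append, List.prod_cons,
    List.prod_nil, frQ_fv, List.map_map, Function.comp_def, zero_dotProduct, zero_add,
    single_dotProduct, Pi.single_eq_same, mul_one, one_mul, QuadraticMap.map_zero, add_zero] at hr
  field_simp at hr
  linear_combination d * hr

theorem exists_orth_pair (hQ : (QuadraticMap.polarBilin Q₀).Nondegenerate) (h2 : (2 : F) ≠ 0)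
    (hβ : Fintype.card β = 2) :
    ∃ e f : β → F, Q₀ e ≠ 0 ∧ Q₀ f ≠ 0 ∧ QuadraticMap.polar (⇑Q₀) e f = 0 := by
  obtain ⟨b, hb, hb0⟩ := exists_orthogonal_anisotropic_basis h2 hQ
  have h : Module.finrank F (β → F) = 2 := by rw [Module.finrank_pi, hβ]
  exact ⟨b ⟨0, by omega⟩, b ⟨1, by omega⟩, hb0 _, hb0 _, hb _ _ (by simp [Fin.ext_iff])⟩

theorem neg_one_discriminant (hQ : (QuadraticMap.polarBilin Q₀).Nondegenerate) (h2 : (2 : F) ≠ 0)
    (hm : 3 ≤ m) (hβ : Fintype.card β = 2) {g : ↥(Cfsg.isometryGroup F ⇑(frQ m Q₀))}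
    (hgΩ : g ∈ Cfsg.Omega F ⇑(frQ m Q₀)) (hg : mat (frQ m Q₀) g = -1) {e f : β → F} (he : Q₀ e ≠ 0)
    (hf : Q₀ f ≠ 0) (hef : QuadraticMap.polar (⇑Q₀) e f = 0) :
    IsSquare ((-1 : F) ^ m * (Q₀ e * Q₀ f)) := by
  have hc : mat Q₀ (reflIso Q₀ e he * reflIso Q₀ f hf) = -1 := by
    have hli : LinearIndependent F ![e, f] := by
      rw [LinearIndependent.pair_iff' (fun h => he (by rw [h, QuadraticMap.map_zero]))]
      intro k hk
      rw [← hk, QuadraticMap.polar_smul_right, polar_self', smul_eq_mul] at hef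
      rcases mul_eq_zero.1 hef with h | h
      · exact hf (by rw [← hk, h, zero_smul, QuadraticMap.map_zero])
      · rcases mul_eq_zero.1 h with h | h
        · exact h2 h
        · exact he h
    refine Matrix.ext_iff_mulVec.2 fun x => ?_
    obtain ⟨p, r, rfl⟩ := exists_coords_pair hβ hli x
    rw [mat_mul, ← mulVec_mulVec, mat_reflIso, mat_reflIso, reflectionMatrix_mulVec, reflectionMatrix_mulVec,
      refl_apply, refl_apply, neg_mulVec, one_mulVec]
    simp only [QuadraticMap.polar_add_right, QuadraticMap.polar_sub_right, QuadraticMap.polar_smul_right,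
      hef, QuadraticMap.polar_comm (⇑Q₀) f e, polar_self', smul_eq_mul, mul_zero, sub_zero, zero_add, add_zero]
    match_scalars <;> field_simp <;> ring
  have hgdg : g = dg Q₀ (-1) (reflIso Q₀ e he * reflIso Q₀ f hf) := by
    refine mat_ext _ ?_
    rw [hg, mat_dg, hc, dgMat]
    simp [fromBlocks_neg, ← fromBlocks_one]
  rw [hgdg] at hgΩ
  have h := dg_mem_iff_square Q₀ hQ hm (-1) ((IsReflProd.reflIso e he).mul (IsReflProd.reflIso f hf)) hgΩ
  simpa [Matrix.det_neg] using h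

/-- Minus the identity with an even number of planes over a middle plane. -/
theorem isOre_neg (hQ : (QuadraticMap.polarBilin Q₀).Nondegenerate) (h2 : (2 : F) ≠ 0) (hm : 4 ≤ m)
    (hme : Even m) (hβ : Fintype.card β = 2) {g : ↥(Cfsg.isometryGroup F ⇑(frQ m Q₀))}
    (hgΩ : g ∈ Cfsg.Omega F ⇑(frQ m Q₀)) (hg : mat (frQ m Q₀) g = -1) : IsOre (frQ m Q₀) g := by
  obtain ⟨e, f, he, hf, hef⟩ := exists_orth_pair Q₀ hQ h2 hβ
  have h := neg_one_discriminant Q₀ hQ h2 (by omega) hβ hgΩ hg he hf hef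
  rw [hme.neg_one_pow, one_mul] at h
  obtain ⟨s, hs⟩ := h
  exact isOre_neg_middle Q₀ hQ h2 hm hme hβ he hef
    (fun h0 => mul_ne_zero he hf (by rw [hs, h0, mul_zero])) hs hg

/-- With an odd number of planes minus the identity forces a singular vector in the middle. -/
theorem exists_singular_of_neg (hQ : (QuadraticMap.polarBilin Q₀).Nondegenerate) (h2 : (2 : F) ≠ 0)
    (hm : 3 ≤ m) (hmo : Odd m) (hβ : Fintype.card β = 2) {g : ↥(Cfsg.isometryGroup F ⇑(frQ m Q₀))}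
    (hgΩ : g ∈ Cfsg.Omega F ⇑(frQ m Q₀)) (hg : mat (frQ m Q₀) g = -1) :
    ∃ v, v ≠ 0 ∧ Q₀ v = 0 := by
  obtain ⟨e, f, he, hf, hef⟩ := exists_orth_pair Q₀ hQ h2 hβ
  obtain ⟨s, hs⟩ := neg_one_discriminant Q₀ hQ h2 hm hβ hgΩ hg he hf hef
  rw [hmo.neg_one_pow] at hs
  refine ⟨Q₀ f • e + s • f, fun h => ?_, ?_⟩
  · have := congrArg (QuadraticMap.polar (⇑Q₀) e) h
    rw [QuadraticMap.polar_add_right, QuadraticMap.polar_smul_right, QuadraticMap.polar_smul_right, hef,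
      smul_zero, add_zero, polar_self', QuadraticMap.polar_zero_right, smul_eq_mul] at this
    exact mul_ne_zero hf (mul_ne_zero h2 he) this
  · rw [QuadraticMap.map_add (⇑Q₀), QuadraticMap.map_smul, QuadraticMap.map_smul, QuadraticMap.polar_smul_left,
      QuadraticMap.polar_smul_right, hef, smul_zero, smul_zero, add_zero]
    simp only [smul_eq_mul]
    linear_combination -(Q₀ f) * hs

end CfsgLib.OreOrth
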