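import Cfsg.Agent.OreOrth.Ore
import Cfsg.Agent.OmegaOrbits.Basic

/-!
# Middle planes and the passage from a hyperbolic middle plane to one more pair
-/

set_option autoImplicit false
set_option linter.unusedSectionVars false

namespace CfsgLib.OreOrth

open Matrix CfsgLib.Spinor CfsgLib.Forms

variable {F : Type*} [Field F]

/-- The hyperbolic plane. -/
noncomputable def hypQ (F : Type*) [Field F] : QuadraticForm F (Fin 2 → F) :=
  QuadraticMap.linMulLin (LinearMap.proj 0) (LinearMap.proj 1)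

@[simp] theorem hypQ_apply (w : Fin 2 → F) : hypQ F w = w 0 * w 1 := rfl

/-- The binary form `z₁² + a z₁ z₂ + b z₂²`. -/
noncomputable def binQ (a b : F) : QuadraticForm F (Fin 2 → F) :=
  QuadraticMap.linMulLin (LinearMap.proj 0) (LinearMap.proj 0 + a • LinearMap.proj 1) +
    QuadraticMap.linMulLin (b • LinearMap.proj 1) (LinearMap.proj 1)

@[simp] theorem binQ_apply (a b : F) (w : Fin 2 → F) :
    binQ a b w = w 0 ^ 2 + a * w 0 * w 1 + b * w 1 ^ 2 := by
  simp [binQ]; ring

/-- The form on no coordinates. -/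
noncomputable def nilQ (F : Type*) [Field F] : QuadraticForm F (Empty → F) := 0

theorem nilQ_nondegenerate : (QuadraticMap.polarBilin (nilQ F)).Nondegenerate :=
  ⟨fun _ _ => funext fun e => e.elim, fun _ _ => funext fun e => e.elim⟩

theorem hypQ_nondegenerate : (QuadraticMap.polarBilin (hypQ F)).Nondegenerate := by
  refine StdForms.nondegenerate_of_sep _ fun x hx => ?_
  have h0 := hx ![0, 1]
  have h1 := hx ![1, 0]
  simp only [QuadraticMap.polar, hypQ_apply, binQ_apply, Pi.add_apply, Matrix.cons_val_zero, Matrix.cons_val_one] at h0 h1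
  ext i
  fin_cases i
  · show x 0 = 0
    linear_combination h0
  · show x 1 = 0
    linear_combination h1

theorem binQ_nondegenerate [Finite F] {a b : F}
    (hab : ∀ z₁ z₂ : F, z₁ ^ 2 + a * z₁ * z₂ + b * z₂ ^ 2 = 0 → z₁ = 0 ∧ z₂ = 0) :
    (QuadraticMap.polarBilin (binQ a b)).Nondegenerate := by
  have hd : 4 * b - a * a ≠ 0 := by
    intro h
    by_cases h2 : (2 : F) = 0
    · haveI : CharP F 2 := CharTwo.of_one_ne_zero_of_two_eq_zero one_ne_zero h2
      obtain ⟨c, hc⟩ := FiniteField.isSquare_of_char_two (ringChar.eq F 2) b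
      have ha : a = 0 := mul_self_eq_zero.1 (by linear_combination (2 * b) * h2 - h)
      exact one_ne_zero (hab c 1 (by rw [ha, hc]; linear_combination (c * c) * h2)).2
    · exact one_ne_zero (hab (-a / 2) 1 (by field_simp; linear_combination h)).2
  refine StdForms.nondegenerate_of_sep _ fun x hx => ?_
  have h0 := hx ![1, 0]
  have h1 := hx ![0, 1]
  simp only [QuadraticMap.polar, hypQ_apply, binQ_apply, Pi.add_apply, Matrix.cons_val_zero, Matrix.cons_val_one] at h0 h1
  ext i
  fin_cases i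
  · show x 0 = 0
    refine (mul_eq_zero.1 (?_ : (4 * b - a * a) * x 0 = 0)).resolve_left hd
    linear_combination (2 * b) * h0 - a * h1
  · show x 1 = 0
    refine (mul_eq_zero.1 (?_ : (4 * b - a * a) * x 1 = 0)).resolve_left hd
    linear_combination 2 * h1 - a * h0

theorem exists_value [Finite F] {β : Type} [Fintype β] [DecidableEq β] {Q₀ : QuadraticForm F (β → F)}
    (hQ : (QuadraticMap.polarBilin Q₀).Nondegenerate) (hβ : Fintype.card β = 2) {k : F} (hk : k ≠ 0) :
    ∃ t, Q₀ t = k := by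
  obtain ⟨t, -, ht⟩ := OmegaOrbits.exists_value_mem (Q := Q₀) (X := ⊤)
    (by
      rw [top_inf_eq, Submodule.eq_bot_iff]
      exact fun x hx => hQ.1 x fun y => by
        have : QuadraticMap.polar (⇑Q₀) y x = 0 := hx y Submodule.mem_top
        show QuadraticMap.polar (⇑Q₀) x y = 0
        rwa [QuadraticMap.polar_comm])
    (by rw [finrank_top, Module.finrank_pi, hβ]) k hk
  exact ⟨t, ht⟩

/-- The coordinates of `Fr m (Fin 2)` as those of one more pair. -/
def pairEquiv (m : ℕ) : Fr m (Fin 2) ≃ Fr (m + 1) Empty where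
  toFun := Sum.elim (Sum.elim (fun i => Sum.inl (Sum.inl i.castSucc)) (fun i => Sum.inl (Sum.inr i.castSucc)))
    ![Sum.inl (Sum.inl (Fin.last m)), Sum.inl (Sum.inr (Fin.last m))]
  invFun := Sum.elim
    (Sum.elim (Fin.lastCases (Sum.inr 0) fun i => Sum.inl (Sum.inl i))
      (Fin.lastCases (Sum.inr 1) fun i => Sum.inl (Sum.inr i)))
    Empty.elim
  left_inv x := by
    rcases x with (x | x) | x
    · simp
    · simp
    · fin_cases x <;> simp
  right_inv x := by
    rcases x with (x | x) | x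
    · refine Fin.lastCases ?_ (fun i => ?_) x <;> simp
    · refine Fin.lastCases ?_ (fun i => ?_) x <;> simp
    · exact x.elim

theorem frQ_pair (m : ℕ) (v : Fr (m + 1) Empty → F) :
    frQ (m + 1) (nilQ F) v = frQ m (hypQ F) (v ∘ pairEquiv m) := by
  obtain ⟨p, q, w, rfl⟩ := exists_fv v
  have h : fv p q w ∘ pairEquiv m = fv (p ∘ Fin.castSucc) (q ∘ Fin.castSucc) ![p (Fin.last m), q (Fin.last m)] := by
    funext i
    rcases i with (i | i) | i
    · rfl
    · rfl
    · fin_cases i <;> rfl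
  rw [h, frQ_fv, frQ_fv]
  simp [nilQ, dotProduct, Fin.sum_univ_castSucc]

/-- One more pair in place of a hyperbolic middle plane. -/
noncomputable def toPairs (m : ℕ) :
    ↥(Cfsg.isometryGroup F ⇑(frQ m (hypQ F))) ≃* ↥(Cfsg.isometryGroup F ⇑(frQ (m + 1) (nilQ F))) :=
  reidx (pairEquiv m) (frQ_pair m)

theorem frQ_plus (n : ℕ) (v : Fr n Empty → F) :
    frQ n (nilQ F) v = StdForms.plusQ n F (v ∘ (Equiv.sumEmpty (Fin n ⊕ Fin n) Empty).symm) := by
  obtain ⟨p, q, w, rfl⟩ := exists_fv v
  rw [frQ_fv, StdForms.plusQ_apply]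
  simp [nilQ, Cfsg.quadFormPlus, dotProduct, fv]

theorem coe_frQ_binQ (k : ℕ) (a b : F) : ⇑(frQ k (binQ a b)) = Cfsg.quadFormMinus k F a b := by
  funext v
  obtain ⟨p, q, w, rfl⟩ := exists_fv v
  rw [frQ_fv, binQ_apply]
  rfl

end CfsgLib.OreOrth
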