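import Cfsg.Agent.OreOrth.TwoMain
import Cfsg.Agent.OreOrth.Fac
import Cfsg.Agent.OreOrth.NegOne
import Cfsg.Agent.OreOrth.Planes

/-!
# Every element of `Ω⁺(2n, F)` and `Ω⁻(2n, F)`, `n ≥ 4`, is a commutator
-/

set_option autoImplicit false
set_option linter.unusedSectionVars false

namespace CfsgLib.OreOrth

open Matrix CfsgLib.Spinor CfsgLib.Forms

section Field

variable {K L : Type*} [Field K] [Field L] {α : Type} [Fintype α] [DecidableEq α]
variable {Q : (α → K) → K} {Q' : (α → L) → L}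

/-- A field isomorphism carries isometries to isometries. -/
noncomputable def fieldHom (φ : K ≃+* L) (h : ∀ v : α → K, Q' (⇑φ ∘ v) = φ (Q v)) :
    ↥(Cfsg.isometryGroup K Q) →* ↥(Cfsg.isometryGroup L Q') where
  toFun g := ⟨Units.map (φ.toRingHom.mapMatrix.toMonoidHom) g.1, fun v _ => by
    show Q' ((g.1 : Matrix α α K).map φ *ᵥ v) = Q' v
    have hv : v = ⇑φ ∘ (⇑φ.symm ∘ v) := by funext i; simp
    rw [hv, show (g.1 : Matrix α α K).map φ *ᵥ (⇑φ ∘ (⇑φ.symm ∘ v)) =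
      ⇑φ ∘ ((g.1 : Matrix α α K) *ᵥ (⇑φ.symm ∘ v)) from funext fun i =>
        (RingHom.map_mulVec φ.toRingHom _ _ i).symm, h, h]
    exact congrArg φ (g.2 (⇑φ.symm ∘ v) (⇑φ.symm ∘ v))⟩
  map_one' := Subtype.ext (map_one _)
  map_mul' g g' := Subtype.ext (map_mul _ _ _)

theorem fieldHom_mem (φ : K ≃+* L) (h : ∀ v : α → K, Q' (⇑φ ∘ v) = φ (Q v))
    {g : ↥(Cfsg.isometryGroup K Q)} (hg : g ∈ Cfsg.Omega K Q) : fieldHom φ h g ∈ Cfsg.Omega L Q' := by
  have h' : (Cfsg.Omega K Q).map (fieldHom φ h) ≤ Cfsg.Omega L Q' := by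
    rw [Cfsg.Omega, commutator_def, Subgroup.map_commutator]
    exact Subgroup.commutator_mono le_top le_top
  exact h' ⟨g, hg, rfl⟩

/-- Commutators in `Ω` pass along a field isomorphism. -/
theorem ore_of_fieldHom (φ : K ≃+* L) (h : ∀ v : α → K, Q' (⇑φ ∘ v) = φ (Q v))
    (hK : ∀ g ∈ Cfsg.Omega K Q, ∃ X ∈ Cfsg.Omega K Q, ∃ Y ∈ Cfsg.Omega K Q, g = X * Y * X⁻¹ * Y⁻¹)
    {g : ↥(Cfsg.isometryGroup L Q')} (hg : g ∈ Cfsg.Omega L Q') :
    ∃ X ∈ Cfsg.Omega L Q', ∃ Y ∈ Cfsg.Omega L Q', g = X * Y * X⁻¹ * Y⁻¹ := by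
  have h' : ∀ v : α → L, Q (⇑φ.symm ∘ v) = φ.symm (Q' v) := fun v => by
    have := h (⇑φ.symm ∘ v)
    rw [show ⇑φ ∘ (⇑φ.symm ∘ v) = v from funext fun i => by simp] at this
    rw [this, RingEquiv.symm_apply_apply]
  obtain ⟨X, hX, Y, hY, he⟩ := hK _ (fieldHom_mem φ.symm h' hg)
  refine ⟨fieldHom φ h X, fieldHom_mem φ h hX, fieldHom φ h Y, fieldHom_mem φ h hY, ?_⟩
  rw [← map_inv, ← map_inv, ← map_mul, ← map_mul, ← map_mul, ← he]
  refine Subtype.ext (Units.ext (Matrix.ext fun i j => ?_))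
  exact (φ.apply_symm_apply _).symm

end Field

variable {F : Type*} [Field F] [Fintype F] {m : ℕ} {β : Type} [Fintype β] [DecidableEq β]

/-- More than two elements. -/
theorem isOre_frame (Q₀ : QuadraticForm F (β → F)) (hQ : (QuadraticMap.polarBilin Q₀).Nondegenerate)
    (hβ : Fintype.card β = 2) (hm : 3 ≤ m) (hq : Fintype.card F ≠ 2)
    {g : ↥(Cfsg.isometryGroup F ⇑(frQ m Q₀))} (hg : g ∈ Cfsg.Omega F ⇑(frQ m Q₀))
    (hneg : mat (frQ m Q₀) g = -1 → (2 : F) ≠ 0 → IsOre (frQ m Q₀) g) : IsOre (frQ m Q₀) g := by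
  obtain ⟨k, rfl⟩ : ∃ k, m = k + 1 := ⟨m - 1, by omega⟩
  have hns : (∀ c : F, mat (frQ (k + 1) Q₀) g ≠ c • 1) ∨ g = 1 ∨
      (mat (frQ (k + 1) Q₀) g = -1 ∧ (2 : F) ≠ 0) := by
    by_cases h : ∀ c : F, mat (frQ (k + 1) Q₀) g ≠ c • 1
    · exact Or.inl h
    push Not at h
    obtain ⟨c, hc⟩ := h
    have hv := quad_mulVec (frQ (k + 1) Q₀) g (fv (Pi.single 0 1) (Pi.single 0 1) 0)
    rw [hc, smul_mulVec, one_mulVec, QuadraticMap.map_smul, frQ_fv, QuadraticMap.map_zero, add_zero,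
      single_dotProduct, one_mul, Pi.single_eq_same, smul_eq_mul, mul_one] at hv
    rcases mul_self_eq_one_iff.1 hv with rfl | rfl
    · exact Or.inr (Or.inl (mat_ext _ (by rw [hc, one_smul, mat_one])))
    · by_cases h2 : (2 : F) = 0
      · refine Or.inr (Or.inl (mat_ext _ ?_))
        rw [hc, mat_one, show (-1 : F) = 1 by linear_combination -h2, one_smul]
      · exact Or.inr (Or.inr ⟨by rw [hc, neg_one_smul], h2⟩)
  rcases hns with h | h | ⟨h, h2⟩
  case inr.inr => exact hneg h h2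
  case inr.inl => subst h; exact IsOre.one
  obtain ⟨P, M, l, hl, u, hu, hdet, hM, he⟩ := exists_decomposition Q₀ hQ hβ k g (Adm.of_omega hg) (Or.inl h)
  refine IsOre.of_conj P ?_
  rw [he]
  obtain ⟨R, S, hR, hR1, hsq, hMR⟩ := exists_fac hq hm M hdet hM
  obtain ⟨a, ha⟩ := exists_value hQ hβ (one_ne_zero (α := F))
  have hS : (S : Matrix (Fin (k + 1)) (Fin (k + 1)) F).det ≠ 0 := fun h0 => by
    have := congrArg Matrix.det S.mul_inv
    rw [det_mul, h0, zero_mul, det_one] at this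
    exact zero_ne_one this
  obtain ⟨f, hf⟩ := exists_value hQ hβ hS
  have ha0 : Q₀ a ≠ 0 := by rw [ha]; exact one_ne_zero
  refine isComm_of_triangular Q₀ hQ hm hβ hl hu hMR hR ha0 ha0 ha0 (f := f) (by rw [hf]; exact hS)
    (by rw [ha, mul_one, mul_one]; exact hsq) ⟨(S : Matrix (Fin (k + 1)) (Fin (k + 1)) F).det, by rw [ha, hf, one_mul]⟩
    fun lam hlam => ?_
  have hτ : rotTrace Q₀ a a = 2 := by
    rw [rotTrace, polar_self', ha]; ring
  rw [hτ] at hlam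
  obtain rfl : lam = 1 := sub_eq_zero.1 (mul_self_eq_zero.1 (by linear_combination hlam))
  rwa [one_smul]

theorem ne_two_of_ne_zero (h2 : (2 : F) ≠ 0) : Fintype.card F ≠ 2 := fun h => h2 (by
  have := Nat.cast_card_eq_zero F
  rw [h] at this
  exact_mod_cast this)

/-- Plus type on a frame. -/
theorem isOre_nil {n : ℕ} (hn : 4 ≤ n) {g : ↥(Cfsg.isometryGroup F ⇑(frQ n (nilQ F)))}
    (hq : Fintype.card F ≠ 2) (hg : g ∈ Cfsg.Omega F ⇑(frQ n (nilQ F))) : IsOre (frQ n (nilQ F)) g := by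
  obtain ⟨m, rfl⟩ : ∃ m, n = m + 1 := ⟨n - 1, by omega⟩
  set g₁ := (toPairs (F := F) m).symm g with hg₁
  have hgg : toPairs m g₁ = g := (toPairs m).apply_symm_apply g
  suffices h : IsOre (frQ m (hypQ F)) g₁ by
    have := h.map (toPairs m).toMonoidHom
    rwa [MulEquiv.coe_toMonoidHom, hgg] at this
  have hΩ : g₁ ∈ Cfsg.Omega F ⇑(frQ m (hypQ F)) := map_mem_omega (toPairs m).symm.toMonoidHom hg
  refine isOre_frame _ hypQ_nondegenerate (Fintype.card_fin 2) (by omega) hq hΩ fun hm1 h2 => ?_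
  rcases Nat.even_or_odd m with he | ho
  · exact isOre_neg _ hypQ_nondegenerate h2 (by obtain ⟨i, hi⟩ := he; omega) he (Fintype.card_fin 2) hΩ hm1
  · have hn1 : mat (frQ (m + 1) (nilQ F)) g = -1 := by
      rw [← hgg, toPairs, mat_reidx, hm1]
      ext i j
      by_cases h : i = j <;> simp [Matrix.one_apply, h]
    have he : g = dg (nilQ F) (-1) 1 := by
      refine mat_ext _ ?_
      rw [hn1, mat_dg, mat_one, dgMat]
      ext ((i | i) | i) ((j | j) | j) <;> first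
        | exact i.elim
        | exact j.elim
        | simp [Matrix.one_apply]
    have h := isOre_dg_neg (nilQ F) h2 (m := m + 1) (by omega) (by obtain ⟨i, hi⟩ := ho; exact ⟨i + 1, by omega⟩)
    rw [← he] at h
    exact h.map (toPairs m).symm.toMonoidHom

theorem isOre_plusQ {n : ℕ} (hn : 4 ≤ n) {g : ↥(Cfsg.isometryGroup F ⇑(StdForms.plusQ n F))}
    (hg : g ∈ Cfsg.Omega F ⇑(StdForms.plusQ n F)) : IsOre (StdForms.plusQ n F) g := by
  set e := reidx (Equiv.sumEmpty (Fin n ⊕ Fin n) Empty).symm (frQ_plus (F := F) n) with he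
  suffices h : IsOre (frQ n (nilQ F)) (e g) by
    have := h.map e.symm.toMonoidHom
    rwa [MulEquiv.coe_toMonoidHom, MulEquiv.symm_apply_apply] at this
  have hΩ : e g ∈ Cfsg.Omega F ⇑(frQ n (nilQ F)) := map_mem_omega e.toMonoidHom hg
  by_cases hq : Fintype.card F = 2
  · let φ := ZMod.ringEquivOfPrime F Nat.prime_two hq
    refine ore_of_fieldHom φ (fun v => ?_) (fun x hx => Two.isOre_plus hn hx) hΩ
    obtain ⟨p, q, w, rfl⟩ := exists_fv v
    rw [show ⇑φ ∘ fv p q w = fv (⇑φ ∘ p) (⇑φ ∘ q) (⇑φ ∘ w) from funext fun i => by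
      rcases i with (i | i) | i <;> rfl, frQ_fv, frQ_fv]
    simp [nilQ, dotProduct]
  · exact isOre_nil hn hq hΩ

theorem isOre_binQ {k : ℕ} (hk : 3 ≤ k) {a b : F}
    (hab : ∀ z₁ z₂ : F, z₁ ^ 2 + a * z₁ * z₂ + b * z₂ ^ 2 = 0 → z₁ = 0 ∧ z₂ = 0)
    {g : ↥(Cfsg.isometryGroup F ⇑(frQ k (binQ a b)))} (hg : g ∈ Cfsg.Omega F ⇑(frQ k (binQ a b))) :
    IsOre (frQ k (binQ a b)) g := by
  by_cases hq : Fintype.card F = 2
  · let φ := ZMod.ringEquivOfPrime F Nat.prime_two hq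
    have hc : ∀ x : F, x = 0 ∨ x = 1 := fun x => by
      rcases (show ∀ z : ZMod 2, z = 0 ∨ z = 1 by decide) (φ.symm x) with h | h
      · exact Or.inl (by rw [← φ.apply_symm_apply x, h, map_zero])
      · exact Or.inr (by rw [← φ.apply_symm_apply x, h, map_one])
    have h20 : (2 : F) = 0 := by
      have := Nat.cast_card_eq_zero F
      rw [hq] at this
      exact_mod_cast this
    have hb : b = 1 := (hc b).resolve_left fun h => by
      exact one_ne_zero (hab 0 1 (by rw [h]; ring)).2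
    have ha : a = 1 := (hc a).resolve_left fun h => by
      exact one_ne_zero (hab 1 1 (by rw [h, hb]; linear_combination h20)).1
    subst ha hb
    refine ore_of_fieldHom φ (fun v => ?_) (fun x hx => Two.isOre_minus hk hx) hg
    obtain ⟨p, q, w, rfl⟩ := exists_fv v
    rw [show ⇑φ ∘ fv p q w = fv (⇑φ ∘ p) (⇑φ ∘ q) (⇑φ ∘ w) from funext fun i => by
      rcases i with (i | i) | i <;> rfl, frQ_fv, frQ_fv]
    simp only [dotProduct, binQ_apply, Function.comp_apply, map_add, map_mul, map_sum, map_pow, map_one]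
  · refine isOre_frame _ (binQ_nondegenerate hab) (Fintype.card_fin 2) hk hq hg fun hm1 h2 => ?_
    rcases Nat.even_or_odd k with he | ho
    · exact isOre_neg _ (binQ_nondegenerate hab) h2 (by obtain ⟨i, hi⟩ := he; omega) he (Fintype.card_fin 2) hg hm1
    · obtain ⟨v, hv, hv0⟩ := exists_singular_of_neg _ (binQ_nondegenerate hab) h2 hk ho (Fintype.card_fin 2) hg hm1
      rw [binQ_apply] at hv0
      obtain ⟨h0, h1⟩ := hab _ _ hv0
      exact absurd (funext fun i => by fin_cases i <;> assumption) hv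

/-- Ore for `Ω⁺(2n, F)`. -/
theorem ore_omega_plus {n : ℕ} (hn : 4 ≤ n) (g : ↥(Cfsg.Omega F (Cfsg.quadFormPlus n F))) :
    ∃ a b : ↥(Cfsg.Omega F (Cfsg.quadFormPlus n F)), g = a * b * a⁻¹ * b⁻¹ := by
  have key : ∀ g : ↥(Cfsg.Omega F ⇑(StdForms.plusQ n F)),
      ∃ a b : ↥(Cfsg.Omega F ⇑(StdForms.plusQ n F)), g = a * b * a⁻¹ * b⁻¹ :=
    fun g => isOre_iff_coe.2 (isOre_plusQ hn g.2)
  rw [StdForms.coe_plusQ n] at key
  exact key g

/-- Ore for `Ω⁻(2n, F)`. -/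
theorem ore_omega_minus {k : ℕ} (hk : 3 ≤ k) {a b : F}
    (hab : ∀ z₁ z₂ : F, z₁ ^ 2 + a * z₁ * z₂ + b * z₂ ^ 2 = 0 → z₁ = 0 ∧ z₂ = 0)
    (g : ↥(Cfsg.Omega F (Cfsg.quadFormMinus k F a b))) :
    ∃ x y : ↥(Cfsg.Omega F (Cfsg.quadFormMinus k F a b)), g = x * y * x⁻¹ * y⁻¹ := by
  have key : ∀ g : ↥(Cfsg.Omega F ⇑(frQ k (binQ a b))),
      ∃ x y : ↥(Cfsg.Omega F ⇑(frQ k (binQ a b))), g = x * y * x⁻¹ * y⁻¹ :=
    fun g => isOre_iff_coe.2 (isOre_binQ hk hab g.2)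
  rw [coe_frQ_binQ k a b] at key
  exact key g

end CfsgLib.OreOrth
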