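import Cfsg.Agent.OreOrth.Recursion

/-!
# Being a commutator of two elements of `Ω`
-/

set_option autoImplicit false
set_option linter.unusedSectionVars false

namespace CfsgLib.OreOrth

open Matrix CfsgLib.Spinor CfsgLib.Forms

variable {F : Type*} [Field F] {α γ : Type} [Fintype α] [DecidableEq α] [Fintype γ] [DecidableEq γ]
variable {Q : QuadraticForm F (α → F)} {Q' : QuadraticForm F (γ → F)}

/-- A commutator of two elements of `Ω`. -/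
def IsOre (Q : QuadraticForm F (α → F)) (g : ↥(Cfsg.isometryGroup F ⇑Q)) : Prop :=
  ∃ X ∈ Cfsg.Omega F ⇑Q, ∃ Y ∈ Cfsg.Omega F ⇑Q, g = X * Y * X⁻¹ * Y⁻¹

theorem IsOre.one : IsOre Q (1 : ↥(Cfsg.isometryGroup F ⇑Q)) :=
  ⟨1, one_mem _, 1, one_mem _, by simp⟩

theorem IsOre.map {g : ↥(Cfsg.isometryGroup F ⇑Q)} (h : IsOre Q g)
    (f : ↥(Cfsg.isometryGroup F ⇑Q) →* ↥(Cfsg.isometryGroup F ⇑Q')) : IsOre Q' (f g) := by
  obtain ⟨X, hX, Y, hY, rfl⟩ := h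
  exact ⟨f X, map_mem_omega f hX, f Y, map_mem_omega f hY, by simp⟩

theorem IsOre.of_conj {g : ↥(Cfsg.isometryGroup F ⇑Q)} (P : ↥(Cfsg.isometryGroup F ⇑Q))
    (h : IsOre Q (P⁻¹ * g * P)) : IsOre Q g := by
  have h' := h.map (MulAut.conj P).toMonoidHom
  simpa [mul_assoc] using h'

theorem isOre_iff_coe {g : ↥(Cfsg.Omega F ⇑Q)} :
    (∃ a b : ↥(Cfsg.Omega F ⇑Q), g = a * b * a⁻¹ * b⁻¹) ↔
      IsOre Q (g : ↥(Cfsg.isometryGroup F ⇑Q)) := by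
  constructor
  · rintro ⟨a, b, rfl⟩
    exact ⟨a, a.2, b, b.2, by simp⟩
  · rintro ⟨X, hX, Y, hY, h⟩
    exact ⟨⟨X, hX⟩, ⟨Y, hY⟩, Subtype.ext (by simpa using h)⟩

end CfsgLib.OreOrth
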