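import Cfsg.Agent.OreOrth.Shift
import Cfsg.Agent.OreOrth.Base

/-!
# The triangular factorisation in a frame

A non-central element of `Ω` of a frame over a plane is conjugate to `l * dg M 1 * u` with
`l ∈ Lo`, `u ∈ Up` and `M` of determinant one, trivial or non-scalar.
-/

set_option autoImplicit false
set_option linter.unusedSectionVars false

namespace CfsgLib.OreOrth

open Matrix CfsgLib.Spinor CfsgLib.Forms

variable {F : Type*} [Field F] {n : ℕ} {β : Type} [Fintype β] [DecidableEq β]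

/-- `g` maps into `Ω` two dimensions above. -/
def Adm {ι : Type} [Fintype ι] [DecidableEq ι] (Q : QuadraticForm F (ι → F))
    (g : ↥(Cfsg.isometryGroup F ⇑Q)) : Prop :=
  emb Q g ∈ Cfsg.Omega F ⇑(extQ Q)

theorem Adm.det_eq_one {ι : Type} [Fintype ι] [DecidableEq ι] {Q : QuadraticForm F (ι → F)}
    {g : ↥(Cfsg.isometryGroup F ⇑Q)} (h : Adm Q g) : (mat Q g).det = 1 := by
  have h1 := (mem_special_iff (emb Q g)).1 (omega_le_special h)
  rw [mat_emb, det_fromBlocks_zero₁₂, det_one, one_mul] at h1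
  exact h1

theorem Adm.conj {ι : Type} [Fintype ι] [DecidableEq ι] {Q : QuadraticForm F (ι → F)}
    {g : ↥(Cfsg.isometryGroup F ⇑Q)} (h : Adm Q g) (P : ↥(Cfsg.isometryGroup F ⇑Q)) :
    Adm Q (P⁻¹ * g * P) := by
  unfold Adm
  rw [map_mul, map_mul, map_inv]
  have hn : (Cfsg.Omega F ⇑(extQ Q)).Normal := Subgroup.commutator_normal _ _
  simpa using hn.conj_mem _ h (emb Q P)⁻¹

theorem Adm.of_omega {ι : Type} [Fintype ι] [DecidableEq ι] {Q : QuadraticForm F (ι → F)}
    {g : ↥(Cfsg.isometryGroup F ⇑Q)} (h : g ∈ Cfsg.Omega F ⇑Q) : Adm Q g :=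
  map_mem_omega (emb Q) h

theorem Adm.map_reidx {α γ : Type} [Fintype α] [DecidableEq α] [Fintype γ] [DecidableEq γ]
    {QA : QuadraticForm F (α → F)} {QB : QuadraticForm F (γ → F)} {g : ↥(Cfsg.isometryGroup F ⇑QA)}
    (h : Adm QA g) (e : α ≃ γ) (he : ∀ v : γ → F, QB v = QA (v ∘ e)) :
    Adm QB (OreOrth.reidx e he g) := by
  unfold Adm
  rw [emb_reidx]
  exact map_mem_omega (OreOrth.reidx _ (extQ_reidx e he)).toMonoidHom h

variable [Fintype F]

/-- Going down one plane. -/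
theorem adm_of_adm_emb {ι : Type} [Fintype ι] [DecidableEq ι] {Q : QuadraticForm F (ι → F)}
    (hQ : (QuadraticMap.polarBilin Q).Nondegenerate) (hc : 3 ≤ Fintype.card ι)
    {g : ↥(Cfsg.isometryGroup F ⇑Q)} (h : Adm (extQ Q) (emb Q g)) : Adm Q g := by
  have hB := extQ_nondegenerate Q hQ
  have hex : Nat.card F ≠ 2 ∨ Fintype.card (Ext ι) ≠ 4 := Or.inr (by rw [card_ext]; omega)
  obtain ⟨vs, hvs⟩ := exists_isReflProd_finite hB hex (emb Q g)
  have h1 := (OmegaOrbits.mem_omega_iff_even (extQ_nondegenerate _ hB)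
    (Or.inr (by rw [card_ext, card_ext]; omega)) (isReflProd_emb hvs)).1 h
  rw [List.length_map, extQ_map_prod] at h1
  exact (OmegaOrbits.mem_omega_iff_even hB hex hvs).2 h1

theorem exists_decomposition (Q₀ : QuadraticForm F (β → F))
    (hQ : (QuadraticMap.polarBilin Q₀).Nondegenerate) (hβ : Fintype.card β = 2) :
    ∀ (n : ℕ) (g : ↥(Cfsg.isometryGroup F ⇑(frQ (n + 1) Q₀))), Adm (frQ (n + 1) Q₀) g →
      ((∀ c : F, mat (frQ (n + 1) Q₀) g ≠ c • 1) ∨ g = 1) →
      ∃ (P : ↥(Cfsg.isometryGroup F ⇑(frQ (n + 1) Q₀)))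
        (M : (Matrix (Fin (n + 1)) (Fin (n + 1)) F)ˣ), ∃ l ∈ Lo Q₀, ∃ u ∈ Up Q₀,
        (M : Matrix (Fin (n + 1)) (Fin (n + 1)) F).det = 1 ∧
        ((∀ c : F, (M : Matrix (Fin (n + 1)) (Fin (n + 1)) F) ≠ c • 1) ∨ M = 1) ∧
        P⁻¹ * g * P = l * dg Q₀ M 1 * u := by
  intro n
  induction n with
  | zero =>
    intro g hA hg
    rcases hg with hg | rfl
    swap
    · exact ⟨1, 1, 1, one_mem _, 1, one_mem _, by simp, Or.inr rfl, by simp [dg_one]⟩
    set g₁ := (shift (n := 0) Q₀).symm g with hg1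
    have hg' : g = shift Q₀ g₁ := ((shift (n := 0) Q₀).apply_symm_apply g).symm
    obtain ⟨P, x, y, h⟩ := exists_base (Q := frQ 0 Q₀) (frQ_nondegenerate Q₀ hQ)
      (by rw [card_fr, hβ]) (g := g₁) (fun c hc => hg c (by
        rw [hg', shift, mat_reidx, hc]
        ext i j
        simp [Matrix.one_apply])) (by
      have := hA.map_reidx (Equiv.symm (shiftEquiv (n := 0) (β := β))) (fun v => by
        rw [frQ_succ]; congr 1; funext i; simp)
      exact this)
    obtain ⟨px, qx, wx, rfl⟩ := exists_fv x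
    obtain ⟨py, qy, wy, rfl⟩ := exists_fv y
    obtain rfl : px = 0 := funext fun i => i.elim0
    obtain rfl : qy = 0 := funext fun i => i.elim0
    refine ⟨shift Q₀ P, 1, _, shift_lo_mem Q₀ qx wx, _, shift_up_mem Q₀ py wy, by simp, Or.inr rfl, ?_⟩
    rw [dg_one, mul_one, hg', ← map_inv, ← map_mul, ← map_mul, ← map_mul, h]
  | succ n ih =>
    intro g hA hg
    rcases hg with hg | rfl
    swap
    · exact ⟨1, 1, 1, one_mem _, 1, one_mem _, by simp, Or.inr rfl, by simp [dg_one]⟩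
    set g₁ := (shift (n := n + 1) Q₀).symm g with hg1
    have hg' : g = shift Q₀ g₁ := ((shift (n := n + 1) Q₀).apply_symm_apply g).symm
    have hB := frQ_nondegenerate (m := n + 1) Q₀ hQ
    have hA1 : Adm (extQ (frQ (n + 1) Q₀)) g₁ := by
      have := hA.map_reidx (Equiv.symm (shiftEquiv (n := n + 1) (β := β))) (fun v => by
        rw [frQ_succ]; congr 1; funext i; simp)
      exact this
    have hc : Fintype.card (Fr (n + 1) β) = 2 * (n + 1) + 2 := by rw [card_fr, hβ]
    obtain ⟨w, hw⟩ : ∃ w : β → F, w ≠ 0 := by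
      haveI : Nonempty β := Fintype.card_pos_iff.1 (by omega)
      exact exists_ne 0
    obtain ⟨P, x, y, g', hdec, hg'1⟩ := exists_step (Q := frQ (n + 1) Q₀) hB
      (by rw [hc]; exact ⟨n + 2, by omega⟩) (by rw [hc]; omega)
      (u := fv (Pi.single 0 1) 0 0) (v := fv 0 (Pi.single 0 1) 0) (z := fv 0 0 w)
      (by simp) (by simp) (by simp) (fun h => hw (by rw [← fv_zero, fv_inj] at h; exact h.2.2))
      (by simp) (by simp) (g := g₁) (fun c hc => hg c (by
        rw [hg', shift, mat_reidx, hc]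
        ext i j
        simp [Matrix.one_apply])) hA1.det_eq_one
    have hA' : Adm (frQ (n + 1) Q₀) g' := by
      refine adm_of_adm_emb hB (by omega) ?_
      have h3 := hA1.conj P
      rw [hdec, Adm, map_mul, map_mul] at h3
      exact (Subgroup.mul_mem_cancel_left _ (emb_lo_mem hB (by omega) x)).1
        ((Subgroup.mul_mem_cancel_right _ (emb_up_mem hB (by omega) y)).1 h3)
    obtain ⟨P', M', l', hl', u', hu', hdet, hM', h'⟩ := ih g' hA' (by
      by_cases h : ∃ c : F, mat (frQ (n + 1) Q₀) g' = c • 1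
      · obtain ⟨c, hc⟩ := h
        exact Or.inr (hg'1 c hc)
      · exact Or.inl fun c hc => h ⟨c, hc⟩)
    obtain ⟨p, qx, wx, hx⟩ := exists_fv (mat (frQ (n + 1) Q₀) P'⁻¹ *ᵥ x)
    obtain ⟨py, q, wy, hy⟩ := exists_fv (mat (frQ (n + 1) Q₀) P'⁻¹ *ᵥ y)
    set L := lmat p with hL
    set U := invT (lmat q) with hU
    set D := dg Q₀ L 1
    set E := dg Q₀ U 1
    refine ⟨shift Q₀ (P * emb _ P'), L * oneBlk M' * U,
      shift Q₀ (lo _ (fv 0 qx wx)) * (D * shift Q₀ (emb _ l') * D⁻¹),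
      mul_mem (shift_lo_mem Q₀ qx wx) (dg_conj_Lo Q₀ _ _ (shift_emb_Lo Q₀ hl')),
      (E⁻¹ * shift Q₀ (emb _ u') * E) * shift Q₀ (up _ (fv py 0 wy)),
      mul_mem (by
        have := dg_conj_Up Q₀ U⁻¹ 1 (shift_emb_Up Q₀ hu')
        rwa [← inv_one, ← dg_inv, inv_inv] at this) (shift_up_mem Q₀ py wy), ?_, ?_, ?_⟩
    · rw [Units.val_mul, Units.val_mul, det_mul, det_mul]
      have e1 : ((L : (Matrix (Fin (n + 1 + 1)) (Fin (n + 1 + 1)) F)ˣ) :
          Matrix (Fin (n + 1 + 1)) (Fin (n + 1 + 1)) F).det = 1 := by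
        show (blk 1 0 p 1).det = 1
        rw [det_blk, det_one, one_mul]
      have e2 : (U : Matrix (Fin (n + 1 + 1)) (Fin (n + 1 + 1)) F).det = 1 := by
        show ((blk 1 0 (-q) 1)ᵀ).det = 1
        rw [det_transpose, det_blk, det_one, one_mul]
      have e3 : (oneBlk M' : Matrix (Fin (n + 1 + 1)) (Fin (n + 1 + 1)) F).det = 1 := by
        show (blk 1 0 0 (M' : Matrix (Fin (n + 1)) (Fin (n + 1)) F)).det = 1
        rw [det_blk, hdet, one_mul]
      rw [e1, e2, e3]; simp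
    · by_cases h : ∃ c : F, ((L * oneBlk M' * U : (Matrix (Fin (n + 1 + 1)) (Fin (n + 1 + 1)) F)ˣ) :
          Matrix (Fin (n + 1 + 1)) (Fin (n + 1 + 1)) F) = c • 1
      · obtain ⟨c, hc⟩ := h
        refine Or.inr (Units.ext ?_)
        have key : ∀ v, blk 1 0 p 1 *ᵥ (blk 1 0 0 (M' : Matrix (Fin (n + 1)) (Fin (n + 1)) F) *ᵥ
            ((blk 1 0 (-q) 1)ᵀ *ᵥ v)) = c • v := fun v => by
          have := congrArg (fun A => A *ᵥ v) hc
          simp only [Units.val_mul, ← mulVec_mulVec, smul_mulVec, one_mulVec] at this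
          exact this
        have h1 := key (Fin.cons 1 0)
        rw [blk_transpose, blk_mulVec, blk_mulVec, blk_mulVec] at h1
        have hc1 : c = 1 := by
          have := congrFun h1 0
          simpa using this.symm
        rw [Units.val_one, hc, hc1, one_smul]
      · exact Or.inl fun c hc => h ⟨c, hc⟩
    · have h2 : (P * emb _ P')⁻¹ * g₁ * (P * emb _ P') =
          lo _ (fv 0 qx wx) * lo _ (fv p 0 0) * emb _ l' * emb _ (dg Q₀ M' 1) * emb _ u' *
            up _ (fv 0 q 0) * up _ (fv py 0 wy) := by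
        calc _ = (emb _ P')⁻¹ * (P⁻¹ * g₁ * P) * emb _ P' := by group
          _ = ((emb _ P')⁻¹ * lo _ x * emb _ P') * (emb _ (P'⁻¹ * g' * P')) *
              ((emb _ P')⁻¹ * up _ y * emb _ P') := by
            rw [hdec, map_mul, map_mul, map_inv]; group
          _ = lo _ (mat _ P'⁻¹ *ᵥ x) * emb _ (l' * dg Q₀ M' 1 * u') *
              up _ (mat _ P'⁻¹ *ᵥ y) := by
            rw [h', ← map_inv, emb_conj_lo, emb_conj_up, mul_assoc (lo _ _), mul_assoc (up _ _),
              ← map_mul, inv_mul_cancel, map_one, mul_one, mul_one]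
          _ = _ := by
            rw [hx, hy, map_mul, map_mul]
            have a1 : fv p qx wx = fv 0 qx wx + fv p 0 0 := by simp
            have a2 : fv py q wy = fv 0 q 0 + fv py 0 wy := by simp
            rw [a1, a2, ← lo_mul, ← up_mul]; group
      rw [hg', ← map_inv, ← map_mul, ← map_mul, h2]
      simp only [map_mul, shift_lo_pvec, shift_up_qvec, shift_emb_dg]
      have e : dg Q₀ (L * oneBlk M' * U) 1 = D * dg Q₀ (oneBlk M') 1 * E := by
        rw [dg_mul, dg_mul, mul_one, mul_one]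
      rw [e, ← hL, ← hU]
      group
      rfl

end CfsgLib.OreOrth
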