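import Cfsg.Agent.OreOrth.EmbRefl

/-!
# Renaming coordinates in isometry groups

`reidx e h` is the isomorphism of isometry groups given by a bijection of coordinates; it respects
`Ω` and commutes with `emb`.
-/

set_option autoImplicit false
set_option linter.unusedSectionVars false

namespace CfsgLib.OreOrth

open Matrix CfsgLib.Spinor

variable {F : Type*} [Field F]
variable {α β : Type} [Fintype α] [DecidableEq α] [Fintype β] [DecidableEq β]
variable {QA : QuadraticForm F (α → F)} {QB : QuadraticForm F (β → F)}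

theorem submatrix_mulVec (e : α ≃ β) (M : Matrix α α F) (v : β → F) :
    M.submatrix e.symm e.symm *ᵥ v = (M *ᵥ (v ∘ e)) ∘ e.symm := by
  rw [submatrix_mulVec_equiv, Equiv.symm_symm]

/-- Renaming coordinates. -/
noncomputable def reidx (e : α ≃ β) (h : ∀ v : β → F, QB v = QA (v ∘ e)) :
    ↥(Cfsg.isometryGroup F ⇑QA) ≃* ↥(Cfsg.isometryGroup F ⇑QB) where
  toFun g := ⟨⟨(mat QA g).submatrix e.symm e.symm, (mat QA g⁻¹).submatrix e.symm e.symm,
      by rw [submatrix_mul_equiv, ← mat_mul, mul_inv_cancel, mat_one, submatrix_one_equiv],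
      by rw [submatrix_mul_equiv, ← mat_mul, inv_mul_cancel, mat_one, submatrix_one_equiv]⟩,
    fun v _ => by
      show QB ((mat QA g).submatrix e.symm e.symm *ᵥ v) = QB v
      rw [submatrix_mulVec, h, h, show ((mat QA g *ᵥ (v ∘ e)) ∘ e.symm) ∘ e = mat QA g *ᵥ (v ∘ e) from
        funext fun i => by simp, quad_mulVec]⟩
  invFun g := ⟨⟨(mat QB g).submatrix e e, (mat QB g⁻¹).submatrix e e,
      by rw [submatrix_mul_equiv, ← mat_mul, mul_inv_cancel, mat_one, submatrix_one_equiv],
      by rw [submatrix_mul_equiv, ← mat_mul, inv_mul_cancel, mat_one, submatrix_one_equiv]⟩,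
    fun v _ => by
      show QA ((mat QB g).submatrix e e *ᵥ v) = QA v
      have hA : ∀ u : α → F, QA u = QB (u ∘ e.symm) := fun u => by
        rw [h]; congr 1; funext i; simp
      rw [submatrix_mulVec_equiv, hA, hA v,
        show ((mat QB g *ᵥ (v ∘ e.symm)) ∘ e) ∘ e.symm = mat QB g *ᵥ (v ∘ e.symm) from
          funext fun i => by simp, quad_mulVec]⟩
  left_inv g := mat_ext QA (by
    show ((mat QA g).submatrix e.symm e.symm).submatrix e e = mat QA g
    ext i j; simp)
  right_inv g := mat_ext QB (by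
    show ((mat QB g).submatrix e e).submatrix e.symm e.symm = mat QB g
    ext i j; simp)
  map_mul' g g' := mat_ext QB (by
    show (mat QA (g * g')).submatrix e.symm e.symm =
      (mat QA g).submatrix e.symm e.symm * (mat QA g').submatrix e.symm e.symm
    rw [submatrix_mul_equiv, mat_mul])

theorem mat_reidx (e : α ≃ β) (h : ∀ v : β → F, QB v = QA (v ∘ e))
    (g : ↥(Cfsg.isometryGroup F ⇑QA)) :
    mat QB (reidx e h g) = (mat QA g).submatrix e.symm e.symm := rfl

theorem reidx_mulVec (e : α ≃ β) (h : ∀ v : β → F, QB v = QA (v ∘ e))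
    (g : ↥(Cfsg.isometryGroup F ⇑QA)) (v : β → F) :
    mat QB (reidx e h g) *ᵥ v = (mat QA g *ᵥ (v ∘ e)) ∘ e.symm := by
  rw [mat_reidx, submatrix_mulVec]

/-- A surjective homomorphism maps `Ω` into `Ω`. -/
theorem map_mem_omega {Q : QuadraticForm F (α → F)} {Q' : QuadraticForm F (β → F)}
    (f : ↥(Cfsg.isometryGroup F ⇑Q) →* ↥(Cfsg.isometryGroup F ⇑Q'))
    {g : ↥(Cfsg.isometryGroup F ⇑Q)} (hg : g ∈ Cfsg.Omega F ⇑Q) :
    f g ∈ Cfsg.Omega F ⇑Q' := by
  have h : (Cfsg.Omega F ⇑Q).map f ≤ Cfsg.Omega F ⇑Q' := by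
    rw [Cfsg.Omega, commutator_def, Subgroup.map_commutator]
    exact Subgroup.commutator_mono le_top le_top
  exact h ⟨g, hg, rfl⟩

theorem extQ_reidx (e : α ≃ β) (h : ∀ v : β → F, QB v = QA (v ∘ e)) (v : Ext β → F) :
    extQ QB v = extQ QA (v ∘ (Equiv.sumCongr (Equiv.refl (Unit ⊕ Unit)) e)) := by
  obtain ⟨a, b, w, rfl⟩ := exists_mk v
  have : mk a b w ∘ (Equiv.sumCongr (Equiv.refl (Unit ⊕ Unit)) e) = mk a b (w ∘ e) := by
    funext i; rcases i with (i | i) | i <;> rfl
  rw [this, extQ_mk, extQ_mk, h]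

theorem emb_reidx (e : α ≃ β) (h : ∀ v : β → F, QB v = QA (v ∘ e))
    (g : ↥(Cfsg.isometryGroup F ⇑QA)) :
    emb QB (reidx e h g) =
      reidx (Equiv.sumCongr (Equiv.refl (Unit ⊕ Unit)) e) (extQ_reidx e h) (emb QA g) := by
  refine mat_ext _ ?_
  rw [mat_emb, mat_reidx, mat_reidx, mat_emb]
  ext i j
  rcases i with i | i <;> rcases j with j | j <;> simp [Matrix.one_apply]

end CfsgLib.OreOrth
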