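import Cfsg.Agent.OreOrth.Frame

/-!
# One more plane in a frame

`shift` identifies the isometry groups of `Ext (Fr n β)` and `Fr (n+1) β`; images of `lo`, `up`,
`emb` are read in the frame.
-/

set_option autoImplicit false
set_option linter.unusedSectionVars false

namespace CfsgLib.OreOrth

open Matrix CfsgLib.Spinor CfsgLib.Forms

variable {F : Type*} [Field F] {n : ℕ} {β : Type} [Fintype β] [DecidableEq β]

/-- A bordered matrix. -/
def blk (a : F) (r col : Fin n → F) (M : Matrix (Fin n) (Fin n) F) :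
    Matrix (Fin (n + 1)) (Fin (n + 1)) F :=
  Matrix.of (Fin.cons (Fin.cons a r) fun k => Fin.cons (col k) (M k))

theorem exists_cons (v : Fin (n + 1) → F) : ∃ x p, v = Fin.cons x p :=
  ⟨_, _, (Fin.cons_self_tail v).symm⟩

theorem blk_mulVec (a : F) (r col : Fin n → F) (M : Matrix (Fin n) (Fin n) F) (x : F)
    (p : Fin n → F) :
    blk a r col M *ᵥ Fin.cons x p = Fin.cons (a * x + r ⬝ᵥ p) (x • col + M *ᵥ p) := by
  funext i
  refine Fin.cases ?_ (fun k => ?_) i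
  · simp [mulVec, dotProduct, blk, Fin.sum_univ_succ]
  · simp [mulVec, dotProduct, blk, Fin.sum_univ_succ, mul_comm]

theorem blk_transpose (a : F) (r col : Fin n → F) (M : Matrix (Fin n) (Fin n) F) :
    (blk a r col M)ᵀ = blk a col r Mᵀ := by
  ext i j
  refine Fin.cases ?_ (fun k => ?_) i <;> refine Fin.cases ?_ (fun l => ?_) j <;>
    simp [blk]

theorem blk_one : blk (1 : F) 0 0 (1 : Matrix (Fin n) (Fin n) F) = 1 := by
  ext i j
  refine Fin.cases ?_ (fun k => ?_) i <;> refine Fin.cases ?_ (fun l => ?_) j <;>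
    simp [blk, Matrix.one_apply, (Fin.succ_ne_zero _).symm]

theorem det_blk (a : F) (col : Fin n → F) (M : Matrix (Fin n) (Fin n) F) :
    (blk a 0 col M).det = a * M.det := by
  rw [det_succ_row_zero, Fin.sum_univ_succ]
  have h : (blk a 0 col M).submatrix Fin.succ (Fin.succAbove 0) = M := by
    ext i j; simp [blk]
  rw [h]
  simp [blk]

/-- Elementary lower unipotent. -/
def lmat (p : Fin n → F) : (Matrix (Fin (n + 1)) (Fin (n + 1)) F)ˣ where
  val := blk 1 0 p 1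
  inv := blk 1 0 (-p) 1
  val_inv := Matrix.ext_iff_mulVec.2 fun v => by
    obtain ⟨x, q, rfl⟩ := exists_cons v
    simp [← mulVec_mulVec, blk_mulVec]
  inv_val := Matrix.ext_iff_mulVec.2 fun v => by
    obtain ⟨x, q, rfl⟩ := exists_cons v
    simp [← mulVec_mulVec, blk_mulVec]

/-- `1 ⊕ M`. -/
def oneBlk (M : (Matrix (Fin n) (Fin n) F)ˣ) : (Matrix (Fin (n + 1)) (Fin (n + 1)) F)ˣ where
  val := blk 1 0 0 (M : Matrix (Fin n) (Fin n) F)
  inv := blk 1 0 0 (↑M⁻¹ : Matrix (Fin n) (Fin n) F)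
  val_inv := Matrix.ext_iff_mulVec.2 fun v => by
    obtain ⟨x, q, rfl⟩ := exists_cons v
    simp only [← mulVec_mulVec, blk_mulVec, one_mulVec]
    rw [mulVec_add, mulVec_smul]
    simp [mulVec_mulVec]
  inv_val := Matrix.ext_iff_mulVec.2 fun v => by
    obtain ⟨x, q, rfl⟩ := exists_cons v
    simp only [← mulVec_mulVec, blk_mulVec, one_mulVec]
    rw [mulVec_add, mulVec_smul]
    simp [mulVec_mulVec]

/-- The coordinates of `Ext (Fr n β)` in `Fr (n+1) β`. -/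
def shiftEquiv : Ext (Fr n β) ≃ Fr (n + 1) β where
  toFun := Sum.elim (Sum.elim (fun _ => Sum.inl (Sum.inl 0)) (fun _ => Sum.inl (Sum.inr 0)))
    (Sum.elim (Sum.elim (fun j => Sum.inl (Sum.inl j.succ)) (fun j => Sum.inl (Sum.inr j.succ)))
      Sum.inr)
  invFun := Sum.elim
    (Sum.elim (Fin.cases (Sum.inl (Sum.inl ())) fun j => Sum.inr (Sum.inl (Sum.inl j)))
      (Fin.cases (Sum.inl (Sum.inr ())) fun j => Sum.inr (Sum.inl (Sum.inr j))))
    fun b => Sum.inr (Sum.inr b)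
  left_inv x := by rcases x with (x | x) | (x | x) | x <;> rfl
  right_inv x := by
    rcases x with (x | x) | x
    · refine Fin.cases ?_ (fun j => ?_) x <;> rfl
    · refine Fin.cases ?_ (fun j => ?_) x <;> rfl
    · rfl

theorem fv_cons_comp (a b : F) (p q : Fin n → F) (w : β → F) :
    fv (Fin.cons a p) (Fin.cons b q) w ∘ shiftEquiv = mk a b (fv p q w) := by
  funext x; rcases x with (x | x) | (x | x) | x <;> rfl

theorem mk_comp_symm (a b : F) (p q : Fin n → F) (w : β → F) :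
    mk a b (fv p q w) ∘ (shiftEquiv (n := n) (β := β)).symm = fv (Fin.cons a p) (Fin.cons b q) w := by
  rw [← fv_cons_comp]
  funext x; simp

variable (Q₀ : QuadraticForm F (β → F))

theorem frQ_succ (v : Fr (n + 1) β → F) :
    frQ (n + 1) Q₀ v = extQ (frQ n Q₀) (v ∘ shiftEquiv) := by
  obtain ⟨p', q', w, rfl⟩ := exists_fv v
  obtain ⟨a, p, rfl⟩ := exists_cons p'
  obtain ⟨b, q, rfl⟩ := exists_cons q'
  rw [fv_cons_comp, frQ_fv, extQ_mk, frQ_fv]
  simp [dotProduct, Fin.sum_univ_succ, add_assoc]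

/-- The identification of the isometry groups. -/
noncomputable def shift :
    ↥(Cfsg.isometryGroup F ⇑(extQ (frQ n Q₀))) ≃* ↥(Cfsg.isometryGroup F ⇑(frQ (n + 1) Q₀)) :=
  reidx shiftEquiv (frQ_succ Q₀)

theorem shift_mulVec (g : ↥(Cfsg.isometryGroup F ⇑(extQ (frQ n Q₀)))) (a b : F) (p q : Fin n → F)
    (w : β → F) {a' b' : F} {p' q' : Fin n → F} {w' : β → F}
    (h : mat (extQ (frQ n Q₀)) g *ᵥ mk a b (fv p q w) = mk a' b' (fv p' q' w')) :
    mat (frQ (n + 1) Q₀) (shift Q₀ g) *ᵥ fv (Fin.cons a p) (Fin.cons b q) w =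
      fv (Fin.cons a' p') (Fin.cons b' q') w' := by
  rw [shift, reidx_mulVec, fv_cons_comp, h, mk_comp_symm]

theorem cons_zero : (Fin.cons 0 (0 : Fin n → F) : Fin (n + 1) → F) = 0 := by
  funext i; refine Fin.cases ?_ (fun j => ?_) i <;> simp

theorem shift_lo_mem (q : Fin n → F) (w : β → F) :
    shift Q₀ (lo (frQ n Q₀) (fv 0 q w)) ∈ Lo Q₀ := by
  refine ⟨fun q' => ?_, fun w' => ?_⟩
  · obtain ⟨b, q', rfl⟩ := exists_cons q'
    rw [← cons_zero]
    exact shift_mulVec Q₀ _ 0 b 0 q' 0 (by simp)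
  · refine ⟨Fin.cons (-QuadraticMap.polar (⇑Q₀) w w') 0, ?_⟩
    rw [← cons_zero]
    exact shift_mulVec Q₀ _ 0 0 0 0 w' (by simp)

theorem shift_up_mem (p : Fin n → F) (w : β → F) :
    shift Q₀ (up (frQ n Q₀) (fv p 0 w)) ∈ Up Q₀ := by
  refine mem_Up_of Q₀ (fun p' => ?_) fun w' => ?_
  · obtain ⟨a, p', rfl⟩ := exists_cons p'
    rw [← cons_zero]
    exact shift_mulVec Q₀ _ a 0 p' 0 0 (by simp)
  · refine ⟨Fin.cons (-QuadraticMap.polar (⇑Q₀) w w') 0, ?_⟩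
    rw [← cons_zero]
    exact shift_mulVec Q₀ _ 0 0 0 0 w' (by simp)

theorem shift_lo_pvec (p : Fin n → F) :
    shift Q₀ (lo (frQ n Q₀) (fv p 0 0)) = dg Q₀ (lmat p) 1 :=
  fr_ext Q₀ fun p' q' w => by
    obtain ⟨a, p', rfl⟩ := exists_cons p'
    obtain ⟨b, q', rfl⟩ := exists_cons q'
    rw [shift_mulVec Q₀ _ a b p' q' w (a' := a) (b' := b - p ⬝ᵥ q') (p' := p' + a • p) (q' := q')
      (w' := w) (by simp), dg_mulVec]
    show _ = fv (blk 1 0 p 1 *ᵥ Fin.cons a p') ((blk 1 0 (-p) 1)ᵀ *ᵥ Fin.cons b q') _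
    rw [blk_transpose, blk_mulVec, blk_mulVec, mat_one, one_mulVec, transpose_one]
    simp [add_comm, sub_eq_add_neg]

theorem shift_up_qvec (q : Fin n → F) :
    shift Q₀ (up (frQ n Q₀) (fv 0 q 0)) = dg Q₀ (invT (lmat q)) 1 :=
  fr_ext Q₀ fun p' q' w => by
    obtain ⟨a, p', rfl⟩ := exists_cons p'
    obtain ⟨b, q', rfl⟩ := exists_cons q'
    rw [shift_mulVec Q₀ _ a b p' q' w (a' := a - q ⬝ᵥ p') (b' := b) (p' := p')
      (q' := q' + b • q) (w' := w) (by simp [dotProduct_comm]), dg_mulVec]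
    show _ = fv ((blk 1 0 (-q) 1)ᵀ *ᵥ Fin.cons a p') (((blk 1 0 q 1)ᵀ)ᵀ *ᵥ Fin.cons b q') _
    rw [transpose_transpose, blk_transpose, blk_mulVec, blk_mulVec, mat_one, one_mulVec, transpose_one]
    simp [add_comm, sub_eq_add_neg]

theorem shift_emb_mulVec (g : ↥(Cfsg.isometryGroup F ⇑(frQ n Q₀))) (a b : F) {p q : Fin n → F}
    {w : β → F} {p' q' : Fin n → F} {w' : β → F}
    (h : mat (frQ n Q₀) g *ᵥ fv p q w = fv p' q' w') :
    mat (frQ (n + 1) Q₀) (shift Q₀ (emb (frQ n Q₀) g)) *ᵥ fv (Fin.cons a p) (Fin.cons b q) w =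
      fv (Fin.cons a p') (Fin.cons b q') w' :=
  shift_mulVec Q₀ _ a b p q w (by rw [emb_mulVec, h])

theorem shift_emb_Lo {g : ↥(Cfsg.isometryGroup F ⇑(frQ n Q₀))} (hg : g ∈ Lo Q₀) :
    shift Q₀ (emb (frQ n Q₀) g) ∈ Lo Q₀ := by
  refine ⟨fun q' => ?_, fun w => ?_⟩
  · obtain ⟨b, q', rfl⟩ := exists_cons q'
    rw [← cons_zero]
    exact shift_emb_mulVec Q₀ g 0 b (hg.1 q')
  · obtain ⟨q', h⟩ := hg.2 w
    refine ⟨Fin.cons 0 q', ?_⟩
    rw [← cons_zero]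
    exact shift_emb_mulVec Q₀ g 0 0 h

theorem swap_shift_emb (g : ↥(Cfsg.isometryGroup F ⇑(frQ n Q₀))) :
    swap Q₀ (shift Q₀ (emb (frQ n Q₀) g)) = shift Q₀ (emb (frQ n Q₀) (swap Q₀ g)) :=
  fr_ext Q₀ fun p' q' w => by
    obtain ⟨a, p', rfl⟩ := exists_cons p'
    obtain ⟨b, q', rfl⟩ := exists_cons q'
    obtain ⟨p₁, q₁, w₁, h⟩ := exists_fv (mat (frQ n Q₀) g *ᵥ fv q' p' w)
    rw [swap_mulVec Q₀ _ _ _ w (shift_emb_mulVec Q₀ g b a h),
      shift_emb_mulVec Q₀ _ a b (swap_mulVec Q₀ g p' q' w h)]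

theorem shift_emb_Up {g : ↥(Cfsg.isometryGroup F ⇑(frQ n Q₀))} (hg : g ∈ Up Q₀) :
    shift Q₀ (emb (frQ n Q₀) g) ∈ Up Q₀ := by
  rw [mem_Up, swap_shift_emb]
  exact shift_emb_Lo Q₀ hg

theorem shift_emb_dg (M : (Matrix (Fin n) (Fin n) F)ˣ) (c : ↥(Cfsg.isometryGroup F ⇑Q₀)) :
    shift Q₀ (emb (frQ n Q₀) (dg Q₀ M c)) = dg Q₀ (oneBlk M) c :=
  fr_ext Q₀ fun p' q' w => by
    obtain ⟨a, p', rfl⟩ := exists_cons p'
    obtain ⟨b, q', rfl⟩ := exists_cons q'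
    rw [shift_emb_mulVec Q₀ _ a b (dg_mulVec Q₀ M c p' q' w), dg_mulVec]
    show _ = fv (blk 1 0 0 (M : Matrix (Fin n) (Fin n) F) *ᵥ Fin.cons a p')
      ((blk 1 0 0 (↑M⁻¹ : Matrix (Fin n) (Fin n) F))ᵀ *ᵥ Fin.cons b q') _
    rw [blk_transpose, blk_mulVec, blk_mulVec]
    simp

end CfsgLib.OreOrth
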