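import Cfsg.Agent.OreOrth.Ext
import Cfsg.Agent.OmegaOrbits.Basic

/-!
# One step of the triangular factorisation

A non-scalar isometry of determinant one of `Ext ι` is conjugate to `lo x * emb g' * up y` with `g'`
trivial or non-scalar, when `ι` has even cardinality at least four and contains a hyperbolic pair.
-/

set_option autoImplicit false
set_option linter.unusedSectionVars false

namespace CfsgLib.OreOrth

open Matrix Module CfsgLib.Spinor CfsgLib.Forms

section General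

variable {F : Type*} [Field F] {ι : Type} [Fintype ι] [DecidableEq ι] {Q : QuadraticForm F (ι → F)}

/-- Witt extension as an element of the isometry group, pointwise on the subspace. -/
theorem exists_iso_extend (hQ : (QuadraticMap.polarBilin Q).Nondegenerate)
    {U W : Submodule F (ι → F)} (e : U ≃ₗ[F] W) (he : ∀ u : U, Q (e u : ι → F) = Q (u : ι → F)) :
    ∃ g : ↥(Cfsg.isometryGroup F ⇑Q), ∀ u : U, mat Q g *ᵥ (u : ι → F) = (e u : ι → F) := by
  obtain ⟨f, hf, hfe⟩ := witt_quadratic Q hQ U W e he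
  refine ⟨⟨⟨LinearMap.toMatrix' f.toLinearMap, LinearMap.toMatrix' f.symm.toLinearMap,
    by rw [← LinearMap.toMatrix'_comp]; simp, by rw [← LinearMap.toMatrix'_comp]; simp⟩,
    fun x _ => ?_⟩, fun u => ?_⟩
  · show Q (LinearMap.toMatrix' f.toLinearMap *ᵥ x) = Q x
    rw [LinearMap.toMatrix'_mulVec]; exact hf x
  · show LinearMap.toMatrix' f.toLinearMap *ᵥ (u : ι → F) = _
    rw [LinearMap.toMatrix'_mulVec]; exact hfe u

/-- The isometry group is transitive on non-zero vectors of equal value. -/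
theorem exists_iso_map (hQ : (QuadraticMap.polarBilin Q).Nondegenerate) {x y : ι → F}
    (hx : x ≠ 0) (hy : y ≠ 0) (h : Q x = Q y) :
    ∃ g : ↥(Cfsg.isometryGroup F ⇑Q), mat Q g *ᵥ x = y := by
  obtain ⟨g, hg⟩ := exists_iso_extend hQ
    ((LinearEquiv.toSpanNonzeroSingleton F (ι → F) x hx).symm.trans
      (LinearEquiv.toSpanNonzeroSingleton F (ι → F) y hy)) (fun u => by
      obtain ⟨c, hc⟩ := Submodule.mem_span_singleton.1 u.2
      have : u = c • ⟨x, Submodule.mem_span_singleton_self x⟩ := Subtype.ext hc.symm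
      subst this
      have h1 : (LinearEquiv.toSpanNonzeroSingleton F (ι → F) x hx).symm
          ⟨x, Submodule.mem_span_singleton_self x⟩ = 1 := LinearEquiv.coord_self F (ι → F) x hx
      rw [map_smul, LinearEquiv.trans_apply, h1]
      simp [QuadraticMap.map_smul, h])
  refine ⟨g, ?_⟩
  have := hg ⟨x, Submodule.mem_span_singleton_self x⟩
  have h1 : (LinearEquiv.toSpanNonzeroSingleton F (ι → F) x hx).symm
      ⟨x, Submodule.mem_span_singleton_self x⟩ = 1 := LinearEquiv.coord_self F (ι → F) x hx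
  simpa [h1] using this

theorem mulVec_inv_mulVec (g : ↥(Cfsg.isometryGroup F ⇑Q)) (v : ι → F) :
    mat Q g *ᵥ (mat Q g⁻¹ *ᵥ v) = v := by
  rw [mulVec_mulVec, ← mat_mul, mul_inv_cancel, mat_one, one_mulVec]

theorem inv_mulVec_mulVec (g : ↥(Cfsg.isometryGroup F ⇑Q)) (v : ι → F) :
    mat Q g⁻¹ *ᵥ (mat Q g *ᵥ v) = v := by
  rw [mulVec_mulVec, ← mat_mul, inv_mul_cancel, mat_one, one_mulVec]

end General

variable {F : Type*} [Field F] {ι : Type} [Fintype ι] [DecidableEq ι] {Q : QuadraticForm F (ι → F)}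

/-- A non-scalar isometry moves a singular line. -/
theorem exists_moved (hz : ∃ z, Q z ≠ 0) {g : ↥(Cfsg.isometryGroup F ⇑(extQ Q))}
    (hg : ∀ c : F, mat (extQ Q) g ≠ c • 1) :
    ∃ v, v ≠ 0 ∧ extQ Q v = 0 ∧ ∀ c : F, mat (extQ Q) g *ᵥ v ≠ c • v := by
  by_contra! H
  obtain ⟨a, ha⟩ := H (mk 1 0 0) (fun h => one_ne_zero (congrFun h (.inl (.inl ())))) (q_e0 Q)
  obtain ⟨b, hb⟩ := H (mk 0 1 0) (fun h => one_ne_zero (congrFun h (.inl (.inr ())))) (q_f0 Q)
  have hab : a * b = 1 := by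
    have := polar_mulVec (extQ Q) g (mk 1 0 0) (mk 0 1 0)
    rw [ha, hb] at this
    simpa using this
  have ha0 : a ≠ 0 := left_ne_zero_of_mul_eq_one hab
  have hb0 : b ≠ 0 := right_ne_zero_of_mul_eq_one hab
  have key : ∀ w, mat (extQ Q) g *ᵥ mk 0 0 w = mk 0 0 (a • w) ∧ a * Q w = b * Q w := by
    intro w
    obtain ⟨p, r, w', h⟩ := exists_mk (mat (extQ Q) g *ᵥ mk 0 0 w)
    have h1 := polar_mulVec (extQ Q) g (mk 1 0 0) (mk 0 0 w)
    have h2 := polar_mulVec (extQ Q) g (mk 0 1 0) (mk 0 0 w)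
    rw [ha, h] at h1
    rw [hb, h] at h2
    simp [ha0] at h1
    simp [hb0] at h2
    subst h1 h2
    obtain ⟨l, hl⟩ := H (mk 1 (-Q w) w) (fun h => one_ne_zero (congrFun h (.inl (.inl ()))))
      (by simp)
    have e : mk 1 (-Q w) w = mk (1 : F) 0 0 + (-Q w) • mk 0 1 0 + mk 0 0 w := by simp
    rw [e, mulVec_add, mulVec_add, mulVec_smul, ha, hb, h] at hl
    simp [mk_inj] at hl
    obtain ⟨rfl, hl2, rfl⟩ := hl
    exact ⟨h, by linear_combination -hl2⟩
  obtain ⟨z, hz⟩ := hz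
  have hab' : a = b := mul_right_cancel₀ hz (key z).2
  refine hg a (Matrix.ext_iff_mulVec.2 fun v => ?_)
  obtain ⟨p, r, w, rfl⟩ := exists_mk v
  have e : mk p r w = p • mk (1 : F) 0 0 + r • mk 0 1 0 + mk 0 0 w := by simp
  rw [smul_mulVec, one_mulVec]
  conv_lhs => rw [e]
  rw [mulVec_add, mulVec_add, mulVec_smul, mulVec_smul, ha, hb, (key w).1, ← hab']
  simp [mk_inj, mul_comm]

/-- Singular vectors span. -/
theorem exists_singular_not_mem_sub (W : Submodule F (Ext ι → F)) (hW : W ≠ ⊤) :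
    ∃ v, extQ Q v = 0 ∧ v ∉ W := by
  by_contra! H
  refine hW (Submodule.eq_top_iff'.2 fun x => ?_)
  obtain ⟨p, r, w, rfl⟩ := exists_mk x
  have h1 := H (mk 1 0 0) (q_e0 Q)
  have h2 := H (mk 0 1 0) (q_f0 Q)
  have h3 := H (mk 1 (-Q w) w) (by simp)
  have e : mk p r w = (p - 1) • mk (1 : F) 0 0 + (r + Q w) • mk 0 1 0 + mk 1 (-Q w) w := by simp
  rw [e]
  exact W.add_mem (W.add_mem (W.smul_mem _ h1) (W.smul_mem _ h2)) h3

/-- The displacement of `-g`. -/
noncomputable def negDisp (g : ↥(Cfsg.isometryGroup F ⇑(extQ Q))) :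
    (Ext ι → F) →ₗ[F] (Ext ι → F) :=
  (mat (extQ Q) g).mulVecLin + LinearMap.id

theorem negDisp_apply (g : ↥(Cfsg.isometryGroup F ⇑(extQ Q))) (v : Ext ι → F) :
    negDisp g v = mat (extQ Q) g *ᵥ v + v := rfl

theorem negDisp_perp (g : ↥(Cfsg.isometryGroup F ⇑(extQ Q))) {x k : Ext ι → F}
    (hk : negDisp g k = 0) : QuadraticMap.polar (⇑(extQ Q)) (negDisp g x) k = 0 := by
  have hgk : mat (extQ Q) g *ᵥ k = -k := eq_neg_of_add_eq_zero_left hk
  have h := polar_mulVec (extQ Q) g x k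
  rw [hgk, QuadraticMap.polar_neg_right] at h
  rw [negDisp_apply, QuadraticMap.polar_add_left, ← h, add_neg_cancel]

theorem mem_range_of_perp (hQ : (QuadraticMap.polarBilin Q).Nondegenerate)
    (g : ↥(Cfsg.isometryGroup F ⇑(extQ Q))) {v : Ext ι → F}
    (h : ∀ k, negDisp g k = 0 → QuadraticMap.polar (⇑(extQ Q)) v k = 0) :
    v ∈ LinearMap.range (negDisp g) := by
  have hB := extQ_nondegenerate Q hQ
  have hrefl : (QuadraticMap.polarBilin (extQ Q)).IsRefl := OrthMax.polarBilin_isRefl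
  rw [← LinearMap.BilinForm.orthogonal_orthogonal hB hrefl (LinearMap.range (negDisp g)),
    LinearMap.BilinForm.mem_orthogonal_iff]
  intro y hy
  rw [LinearMap.BilinForm.mem_orthogonal_iff] at hy
  have hk : negDisp g y = 0 := by
    have h0 : mat (extQ Q) g⁻¹ *ᵥ y + y = 0 := hB.1 _ fun x => by
      have : QuadraticMap.polar (⇑(extQ Q)) (negDisp g x) y = 0 :=
        hy _ (LinearMap.mem_range_self (negDisp g) x)
      rw [negDisp_apply] at this
      show QuadraticMap.polar (⇑(extQ Q)) (mat (extQ Q) g⁻¹ *ᵥ y + y) x = 0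
      rw [QuadraticMap.polar_add_left, ← polar_mulVec (extQ Q) g, mulVec_inv_mulVec,
        QuadraticMap.polar_comm (⇑(extQ Q)) y, QuadraticMap.polar_comm (⇑(extQ Q)) y,
        ← QuadraticMap.polar_add_left]
      exact this
    have := congrArg (fun t => mat (extQ Q) g *ᵥ t) h0
    rw [mulVec_add, mulVec_inv_mulVec, mulVec_zero] at this
    rw [negDisp_apply, add_comm]; exact this
  show QuadraticMap.polar (⇑(extQ Q)) y v = 0
  rw [QuadraticMap.polar_comm]
  exact h y hk

/-- For `-g` not a reflection: a singular `v` with `D(v⊥)` outside `span {v, g v}`. -/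
theorem exists_good_vector (hQ : (QuadraticMap.polarBilin Q).Nondegenerate) (hev : Even (Fintype.card ι))
    (h4 : 3 ≤ Fintype.card ι) (hz : ∃ z, Q z ≠ 0) {g : ↥(Cfsg.isometryGroup F ⇑(extQ Q))}
    (hg : ∀ c : F, mat (extQ Q) g ≠ c • 1) (hdet : (mat (extQ Q) g).det = 1) :
    ∃ v, v ≠ 0 ∧ extQ Q v = 0 ∧ (∀ c : F, mat (extQ Q) g *ᵥ v ≠ c • v) ∧
      ((2 : F) = 0 ∨ ∃ y, QuadraticMap.polar (⇑(extQ Q)) v y = 0 ∧
        negDisp g y ∉ Submodule.span F {v, mat (extQ Q) g *ᵥ v}) := by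
  by_cases h2 : (2 : F) = 0
  · obtain ⟨v, h⟩ := exists_moved hz hg
    exact ⟨v, h.1, h.2.1, h.2.2, Or.inl h2⟩
  set D := negDisp g with hD
  by_cases hR : LinearMap.range D = ⊤
  · obtain ⟨v, hv0, hvs, hvm⟩ := exists_moved hz hg
    refine ⟨v, hv0, hvs, hvm, Or.inr ?_⟩
    by_contra! H
    have hinj : Function.Injective D :=
      LinearMap.injective_iff_surjective.2 (LinearMap.range_eq_top.1 hR)
    have hle : (OrthMax.qperp (extQ Q) (Submodule.span F {v})).map D ≤
        Submodule.span F {v, mat (extQ Q) g *ᵥ v} := by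
      rintro _ ⟨y, hy, rfl⟩
      exact H y (OrthMax.mem_qperp_singleton.1 hy)
    have h1 := Submodule.finrank_mono hle
    rw [LinearEquiv.finrank_eq (Submodule.equivMapOfInjective D hinj _).symm,
      OrthMax.finrank_qperp (extQ_nondegenerate Q hQ), finrank_span_singleton hv0] at h1
    have h3 : finrank F (Submodule.span F ({v, mat (extQ Q) g *ᵥ v} : Set (Ext ι → F))) ≤ 2 := by
      classical
      refine le_trans ?_ (Finset.card_le_two (a := v) (b := mat (extQ Q) g *ᵥ v))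
      have h5 := finrank_span_finset_le_card (R := F) ({v, mat (extQ Q) g *ᵥ v} : Finset (Ext ι → F))
      rw [Finset.coe_insert, Finset.coe_singleton] at h5
      exact h5
    simp only [Fintype.card_sum, Fintype.card_unit] at h1
    omega
  have hK : LinearMap.ker D ≠ ⊤ := by
    intro hk
    refine hg (-1) (Matrix.ext_iff_mulVec.2 fun x => ?_)
    have : D x = 0 := by rw [LinearMap.ker_eq_top.1 hk]; rfl
    rw [neg_one_smul, neg_mulVec, one_mulVec]
    exact eq_neg_of_add_eq_zero_left this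
  obtain ⟨a, has, haR⟩ := exists_singular_not_mem_sub (Q := Q) _ hR
  obtain ⟨b, hbs, hbK⟩ := exists_singular_not_mem_sub (Q := Q) _ hK
  obtain ⟨v, hvs, hvR, hvK⟩ : ∃ v, extQ Q v = 0 ∧ v ∉ LinearMap.range D ∧ v ∉ LinearMap.ker D := by
    by_cases ha : a ∈ LinearMap.ker D
    · by_cases hb : b ∈ LinearMap.range D
      · refine ⟨a + b, ?_, fun h => haR (by simpa using Submodule.sub_mem _ h hb),
          fun h => hbK (by simpa using Submodule.sub_mem _ h ha)⟩
        obtain ⟨x, rfl⟩ := hb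
        rw [QuadraticMap.map_add (⇑(extQ Q)), has, hbs, QuadraticMap.polar_comm,
          negDisp_perp g ha, add_zero, add_zero]
      · exact ⟨b, hbs, hb, hbK⟩
    · exact ⟨a, has, haR, ha⟩
  have hv0 : v ≠ 0 := fun h => hvR (h ▸ Submodule.zero_mem _)
  refine ⟨v, hv0, hvs, fun c hc => ?_, Or.inr ?_⟩
  · have e : D v = (c + 1) • v := by rw [hD, negDisp_apply, hc, add_smul, one_smul]
    by_cases h1 : c + 1 = 0
    · exact hvK (by rw [LinearMap.mem_ker, e, h1, zero_smul])
    · exact hvR ⟨(c + 1)⁻¹ • v, by rw [map_smul, e, smul_smul, inv_mul_cancel₀ h1, one_smul]⟩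
  by_contra! H
  -- the image of `v⊥` is in the line of `D v`
  have hline : ∀ y, QuadraticMap.polar (⇑(extQ Q)) v y = 0 → ∃ s : F, D y = s • D v := by
    intro y hy
    obtain ⟨p, r, hpr⟩ := Submodule.mem_span_pair.1 (H y hy)
    have e : D y = (p - r) • v + r • D v := by
      rw [← hpr, hD, negDisp_apply g v, sub_smul, smul_add]; abel
    by_cases hpr0 : p - r = 0
    · exact ⟨r, by rw [e, hpr0, zero_smul, zero_add]⟩
    · refine absurd ?_ hvR
      have : (p - r) • v ∈ LinearMap.range D :=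
        ⟨y - r • v, by rw [map_sub, map_smul, e]; abel⟩
      simpa [smul_smul, inv_mul_cancel₀ hpr0] using Submodule.smul_mem _ (p - r)⁻¹ this
  obtain ⟨k, hk, hvk⟩ : ∃ k, D k = 0 ∧ QuadraticMap.polar (⇑(extQ Q)) v k ≠ 0 := by
    by_contra! h
    exact hvR (mem_range_of_perp hQ g h)
  set r := D v with hr
  have hr0 : r ≠ 0 := fun h => hvK h
  have hall : ∀ x, ∃ s : F, D x = s • r := by
    intro x
    set c := QuadraticMap.polar (⇑(extQ Q)) v x / QuadraticMap.polar (⇑(extQ Q)) v k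
    obtain ⟨s, hs⟩ := hline (x - c • k) (by
      rw [QuadraticMap.polar_sub_right, QuadraticMap.polar_smul_right, smul_eq_mul,
        div_mul_cancel₀ _ hvk, sub_self])
    exact ⟨s, by rw [← hs, map_sub, map_smul, hk, smul_zero, sub_zero]⟩
  have hrel : ∀ x s, D x = s • r → s * extQ Q r = QuadraticMap.polar (⇑(extQ Q)) r x := by
    intro x s hs
    by_cases hs0 : s = 0
    · rw [hs0, zero_mul, hr, negDisp_perp g (by rw [← hD, hs, hs0, zero_smul])]
    · have hgx : mat (extQ Q) g *ᵥ x = s • r + -x := by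
        rw [← hs, hD, negDisp_apply, add_neg_cancel_right]
      have h := quad_mulVec (extQ Q) g x
      rw [hgx, QuadraticMap.map_add (⇑(extQ Q)), QuadraticMap.map_smul, QuadraticMap.map_neg,
        QuadraticMap.polar_neg_right, QuadraticMap.polar_smul_left, smul_eq_mul, smul_eq_mul] at h
      refine mul_left_cancel₀ hs0 ?_
      linear_combination h
  have hqr : extQ Q r ≠ 0 := by
    intro h0
    refine hr0 ((extQ_nondegenerate Q hQ).1 r fun x => ?_)
    obtain ⟨s, hs⟩ := hall x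
    show QuadraticMap.polar (⇑(extQ Q)) r x = 0
    rw [← hrel x s hs, h0, mul_zero]
  have hneg : -mat (extQ Q) g = Cfsg.reflectionMatrix (⇑(extQ Q)) r := by
    refine Matrix.ext_iff_mulVec.2 fun x => ?_
    obtain ⟨s, hs⟩ := hall x
    rw [reflectionMatrix_mulVec, refl_apply, ← hrel x s hs, neg_mulVec,
      show mat (extQ Q) g *ᵥ x = s • r - x by rw [← hs, hD, negDisp_apply, add_sub_cancel_right]]
    rw [show (extQ Q r)⁻¹ * (s * extQ Q r) = s by field_simp, neg_sub]
  have := congrArg Matrix.det hneg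
  rw [det_neg, hdet, det_reflectionMatrix hqr, mul_one, Even.neg_one_pow (by
    simp only [Fintype.card_sum, Fintype.card_unit]
    exact Even.add even_two hev)] at this
  exact h2 (by linear_combination this)

/-- Two solutions of the normalisation equation in general position. -/
theorem exists_two_solutions (hQ : (QuadraticMap.polarBilin Q).Nondegenerate)
    (h4 : 3 ≤ Fintype.card ι) {u v z : ι → F} (hu : Q u = 0) (hv : Q v = 0)
    (huv : QuadraticMap.polar (⇑Q) u v = 1) (hz0 : z ≠ 0) (huz : QuadraticMap.polar (⇑Q) u z = 0)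
    (hvz : QuadraticMap.polar (⇑Q) v z = 0) {α β : F} {x₀ : ι → F}
    (hne : ¬(β = 0 ∧ x₀ = 0)) (hsing : α * β + Q x₀ = 0) :
    ∃ w w', α + QuadraticMap.polar (⇑Q) w x₀ - Q w * β = 1 ∧
      α + QuadraticMap.polar (⇑Q) w' x₀ - Q w' * β = 1 ∧
      ∀ s : F, w' - w ≠ s • (x₀ - β • w) := by
  by_cases hβ : β = 0
  · subst hβ
    have hx : x₀ ≠ 0 := fun h => hne ⟨rfl, h⟩
    obtain ⟨y, hy⟩ : ∃ y, QuadraticMap.polar (⇑Q) x₀ y ≠ 0 := by
      by_contra! h; exact hx (hQ.1 x₀ h)
    obtain ⟨k, hk, hkx⟩ : ∃ k ∈ OrthMax.qperp Q (Submodule.span F {x₀}),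
        k ∉ Submodule.span F {x₀} := by
      refine SetLike.not_le_iff_exists.1 fun hle => ?_
      have := Submodule.finrank_mono hle
      rw [OrthMax.finrank_qperp hQ, finrank_span_singleton hx] at this
      omega
    set w := ((1 - α) / QuadraticMap.polar (⇑Q) x₀ y) • y with hw
    have e : QuadraticMap.polar (⇑Q) w x₀ = 1 - α := by
      rw [hw, QuadraticMap.polar_smul_left, QuadraticMap.polar_comm (⇑Q) y, smul_eq_mul,
        div_mul_cancel₀ _ hy]
    refine ⟨w, w + k, by rw [e]; ring, ?_, fun s hs => hkx ?_⟩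
    · rw [QuadraticMap.polar_add_left, e, QuadraticMap.polar_comm (⇑Q) k,
        OrthMax.mem_qperp_singleton.1 hk]
      ring
    · rw [add_sub_cancel_left, zero_smul, sub_zero] at hs
      exact Submodule.mem_span_singleton.2 ⟨s, hs.symm⟩
  · have sol : ∀ t, Q t = -β⁻¹ → α + QuadraticMap.polar (⇑Q) (β⁻¹ • x₀ + t) x₀ -
        Q (β⁻¹ • x₀ + t) * β = 1 := by
      intro t ht
      rw [QuadraticMap.polar_add_left, QuadraticMap.polar_smul_left, polar_self', smul_eq_mul,
        QuadraticMap.map_add (⇑Q), QuadraticMap.map_smul, QuadraticMap.polar_smul_left, ht,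
        QuadraticMap.polar_comm (⇑Q) t, smul_eq_mul, smul_eq_mul]
      field_simp
      linear_combination hsing
    set κ := -β⁻¹ with hκ
    refine ⟨_, _, sol (u + κ • v) ?_, sol (u + (κ - Q z) • v + z) ?_, fun s hs => hz0 ?_⟩
    · rw [QuadraticMap.map_add (⇑Q), QuadraticMap.map_smul, hu, hv, QuadraticMap.polar_smul_right,
        huv, smul_eq_mul, smul_eq_mul]
      ring
    · rw [QuadraticMap.map_add (⇑Q), QuadraticMap.map_add (⇑Q), QuadraticMap.map_smul, hu, hv,
        QuadraticMap.polar_add_left, QuadraticMap.polar_smul_right, QuadraticMap.polar_smul_left,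
        huv, huz, hvz, smul_eq_mul, smul_eq_mul]
      simp
    · rw [smul_sub, smul_add β, smul_smul β, mul_inv_cancel₀ hβ, one_smul] at hs
      have h1 := congrArg (fun t => QuadraticMap.polar (⇑Q) v t) hs
      simp only [QuadraticMap.polar_sub_right, QuadraticMap.polar_add_right, QuadraticMap.polar_smul_right,
        polar_self', hvz, QuadraticMap.polar_comm (⇑Q) v u, huv, hv, smul_eq_mul] at h1
      ring_nf at h1
      have hs' : z = Q z • v := by
        have h3 : s * β = 0 := by linear_combination h1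
        rcases mul_eq_zero.1 h3 with rfl | h3
        · simp at hs
          linear_combination (norm := module) hs
        · exact absurd h3 hβ
      have h4' := congrArg (fun t => QuadraticMap.polar (⇑Q) u t) hs'
      simp only [QuadraticMap.polar_smul_right, huv, huz, smul_eq_mul, mul_one] at h4'
      rw [hs', ← h4', zero_smul]

/-- The conjugate by `up w` of an isometry, decomposed. -/
theorem exists_decomp_conj {g : ↥(Cfsg.isometryGroup F ⇑(extQ Q))} {α β : F} {x₀ w : ι → F}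
    (hg : mat (extQ Q) g *ᵥ mk 1 0 0 = mk α β x₀)
    (hw : α + QuadraticMap.polar (⇑Q) w x₀ - Q w * β = 1) :
    ∃ g' y, (up Q w)⁻¹ * g * up Q w = lo Q (x₀ - β • w) * emb Q g' * up Q y := by
  obtain ⟨-, h⟩ := exists_decomp Q (g := (up Q w)⁻¹ * g * up Q w) (s := β) (x := x₀ - β • w) (by
    rw [mat_mul, mat_mul, ← mulVec_mulVec, ← mulVec_mulVec, up_mulVec]
    simp only [QuadraticMap.polar_zero_right, mul_zero, sub_zero, zero_smul, add_zero]
    rw [hg, up_inv, up_mulVec, QuadraticMap.polar_neg_left, QuadraticMap.map_neg, smul_neg,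
      ← sub_eq_add_neg, mk_inj]
    exact ⟨by linear_combination hw, rfl, rfl⟩)
  exact h

/-- If the middle part is `-1`, the displacement of `e0⊥` is small. -/
theorem disp_of_neg_one {g : ↥(Cfsg.isometryGroup F ⇑(extQ Q))} {x y w : ι → F}
    {g' : ↥(Cfsg.isometryGroup F ⇑Q)} (hg' : mat Q g' = -1)
    (h : (up Q w)⁻¹ * g * up Q w = lo Q x * emb Q g' * up Q y) (a : F) (w₀ : ι → F) :
    ∃ A r s : F, negDisp g (mk a 0 w₀) = mk A r (r • w + s • x) := by
  have hg : g = up Q w * (lo Q x * emb Q g' * up Q y) * (up Q w)⁻¹ := by rw [← h]; group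
  set a' := a + QuadraticMap.polar (⇑Q) w w₀ - QuadraticMap.polar (⇑Q) y w₀ with ha'
  set rr := QuadraticMap.polar (⇑Q) x w₀ - Q x * a' with hrr
  refine ⟨a' - QuadraticMap.polar (⇑Q) w (-w₀ + a' • x) - Q w * rr + a, rr, a', ?_⟩
  rw [negDisp_apply, hg]
  simp only [mat_mul, up_inv, ← mulVec_mulVec, up_mulVec, lo_mulVec, emb_mulVec, hg', neg_mulVec,
    one_mulVec, QuadraticMap.polar_neg_left, QuadraticMap.polar_neg_right, zero_smul, add_zero,
    mul_zero, sub_zero, zero_sub, sub_neg_eq_add, mk_add, ← ha', ← hrr]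
  rw [mk_inj]
  refine ⟨by rw [hrr]; ring, by rw [hrr]; ring, ?_⟩
  module

/-- The step. -/
theorem exists_step (hQ : (QuadraticMap.polarBilin Q).Nondegenerate) (hev : Even (Fintype.card ι))
    (h4 : 3 ≤ Fintype.card ι) {u v z : ι → F} (hu : Q u = 0) (hv : Q v = 0)
    (huv : QuadraticMap.polar (⇑Q) u v = 1) (hz0 : z ≠ 0) (huz : QuadraticMap.polar (⇑Q) u z = 0)
    (hvz : QuadraticMap.polar (⇑Q) v z = 0) {g : ↥(Cfsg.isometryGroup F ⇑(extQ Q))}
    (hg : ∀ c : F, mat (extQ Q) g ≠ c • 1) (hdet : (mat (extQ Q) g).det = 1) :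
    ∃ P x y g', P⁻¹ * g * P = lo Q x * emb Q g' * up Q y ∧
      ∀ c : F, mat Q g' = c • 1 → g' = 1 := by
  have hq : Q (u + v) = 1 := by rw [QuadraticMap.map_add (⇑Q), hu, hv, huv]; ring
  have hzz : ∃ t, Q t ≠ 0 := ⟨u + v, by rw [hq]; exact one_ne_zero⟩
  have scal : ∀ (g' : ↥(Cfsg.isometryGroup F ⇑Q)) (c : F), mat Q g' = c • 1 →
      g' = 1 ∨ mat Q g' = -1 := by
    intro g' c hc
    have h := quad_mulVec Q g' (u + v)
    rw [hc, smul_mulVec, one_mulVec, QuadraticMap.map_smul, hq, smul_eq_mul, mul_one] at h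
    rcases mul_self_eq_one_iff.1 h with rfl | rfl
    · exact Or.inl (mat_ext Q (by rw [hc, one_smul, mat_one]))
    · exact Or.inr (by rw [hc, neg_one_smul])
  obtain ⟨v₀, hv0, hvs, hvm, hgood⟩ := exists_good_vector hQ hev h4 hzz hg hdet
  obtain ⟨P₀, hP₀⟩ := exists_iso_map (extQ_nondegenerate Q hQ) (x := mk 1 0 0) (y := v₀)
    (fun h => one_ne_zero (congrFun h (.inl (.inl ())))) hv0 (by rw [q_e0, hvs])
  obtain ⟨α, β, x₀, hg1⟩ := exists_mk (mat (extQ Q) (P₀⁻¹ * g * P₀) *ᵥ mk 1 0 0)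
  have hgv : mat (extQ Q) g *ᵥ v₀ = mat (extQ Q) P₀ *ᵥ mk α β x₀ := by
    rw [← hg1, mulVec_mulVec, ← mat_mul, ← mul_assoc, ← mul_assoc, mul_inv_cancel, one_mul,
      mat_mul, ← mulVec_mulVec, hP₀]
  have hne : ¬(β = 0 ∧ x₀ = 0) := by
    rintro ⟨rfl, rfl⟩
    refine hvm α ?_
    rw [hgv, ← hP₀, ← mulVec_smul]
    simp
  have hsing : α * β + Q x₀ = 0 := by
    have h := quad_mulVec (extQ Q) (P₀⁻¹ * g * P₀) (mk 1 0 0)
    rw [hg1] at h
    simpa using h
  obtain ⟨w, w', hw, hw', hgen⟩ := exists_two_solutions hQ h4 hu hv huv hz0 huz hvz hne hsing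
  obtain ⟨g', y, h⟩ := exists_decomp_conj hg1 hw
  obtain ⟨g'', y', h'⟩ := exists_decomp_conj hg1 hw'
  have conj : ∀ t : ι → F, (up Q t)⁻¹ * (P₀⁻¹ * g * P₀) * up Q t =
      (P₀ * up Q t)⁻¹ * g * (P₀ * up Q t) := fun t => by group
  by_cases e : mat Q g' = -1 ∧ mat Q g'' = -1 ∧ (2 : F) ≠ 0
  · exfalso
    obtain ⟨y₀, hy₀, hy₀'⟩ := hgood.resolve_left e.2.2
    obtain ⟨a, b, w₀, hy₁⟩ := exists_mk (mat (extQ Q) P₀⁻¹ *ᵥ y₀)
    have hb : b = 0 := by
      have hp := polar_mulVec (extQ Q) P₀ (mk 1 0 0) (mk a b w₀)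
      rw [hP₀, ← hy₁, mulVec_inv_mulVec, hy₀, hy₁] at hp
      simpa using hp.symm
    subst hb
    obtain ⟨A, r, s, hd⟩ := disp_of_neg_one e.1 h a w₀
    obtain ⟨A', r', s', hd'⟩ := disp_of_neg_one e.2.1 h' a w₀
    obtain ⟨rfl, rfl, heq⟩ := mk_inj.1 (hd.symm.trans hd')
    have h1 : (r - s' * β) • (w' - w) = (s - s') • (x₀ - β • w) := by
      linear_combination (norm := module) -heq
    have hr : r = s' * β := by
      by_contra hne'
      refine hgen ((r - s' * β)⁻¹ * (s - s')) ?_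
      rw [← smul_smul, ← h1, smul_smul, inv_mul_cancel₀ (sub_ne_zero.2 hne'), one_smul]
    have hx : r • w + s • (x₀ - β • w) = s' • x₀ := by
      rw [heq, hr]; module
    apply hy₀'
    have key : negDisp g y₀ = mat (extQ Q) P₀ *ᵥ mk A r (r • w + s • (x₀ - β • w)) := by
      rw [← hd, ← hy₁, negDisp_apply, negDisp_apply, mulVec_add, mulVec_inv_mulVec, mulVec_mulVec,
        mulVec_mulVec, ← mat_mul, ← mat_mul, show P₀ * (P₀⁻¹ * g * P₀) * P₀⁻¹ = g by group]
    rw [key, hx, hgv, ← hP₀]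
    refine Submodule.mem_span_pair.2 ⟨A - s' * α, s', ?_⟩
    rw [← mulVec_smul, ← mulVec_smul, ← mulVec_add, hr]
    simp
  · by_cases e1 : mat Q g' = -1 ∧ (2 : F) ≠ 0
    · refine ⟨P₀ * up Q w', _, y', g'', (conj w').symm.trans h', fun c hc => ?_⟩
      rcases scal g'' c hc with h1 | h1
      · exact h1
      · exact absurd ⟨e1.1, h1, e1.2⟩ e
    · refine ⟨P₀ * up Q w, _, y, g', (conj w).symm.trans h, fun c hc => ?_⟩
      rcases scal g' c hc with h1 | h1
      · exact h1
      · have h2 : (2 : F) = 0 := by by_contra h2; exact e1 ⟨h1, h2⟩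
        refine mat_ext Q ?_
        rw [h1, mat_one, neg_eq_iff_add_eq_zero, ← two_smul F, h2, zero_smul]

end CfsgLib.OreOrth
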