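import Cfsg.Agent.OreOrth.ThreeTable
import Cfsg.Agent.OreOrth.BigCell
import Cfsg.Agent.OreOrth.Ore

/-!
# Three planes over the anisotropic form over two elements

A triangular element with a transvection as diagonal block is a commutator as soon as all other triangular
elements are.
-/

set_option autoImplicit false
set_option linter.unusedSectionVars false

namespace CfsgLib.OreOrth.Two

open Matrix CfsgLib.Spinor CfsgLib.Forms
open CfsgLib.LevCover (Sim)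

local notation "Z₂" => ZMod 2

theorem det_eq_one_unit {m : ℕ} (M : (Matrix (Fin m) (Fin m) Z₂)ˣ) : (M : Matrix (Fin m) (Fin m) Z₂).det = 1 :=
  (show ∀ z : Z₂, z ≠ 0 → z = 1 by decide) _ fun h => by
    have := congrArg Matrix.det M.mul_inv
    rw [det_mul, h, zero_mul, det_one] at this
    exact zero_ne_one this

variable (Q₀ : QuadraticForm Z₂ (Fin 2 → Z₂))

theorem isOre_dg_tv {T : (Matrix (Fin 3) (Fin 3) Z₂)ˣ} (hT : IsTv (T : Matrix (Fin 3) (Fin 3) Z₂)) :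
    IsOre (frQ 3 Q₀) (dg Q₀ T 1) := by
  obtain ⟨u, φ, -, -, -, hT⟩ := hT
  obtain ⟨A, B, hAB⟩ := SLCommutator.isComm_transvection (m := 0) (det_eq_one_unit T)
    ⟨u, φ, by rw [hT, add_sub_cancel_left]⟩
  have hmem : ∀ X : Matrix.SpecialLinearGroup (Fin 3) Z₂,
      dg Q₀ (Matrix.SpecialLinearGroup.toGL X) 1 ∈ Cfsg.Omega Z₂ ⇑(frQ 3 Q₀) := fun X =>
    dg_mem_of_det Q₀ le_rfl _ X.2
  refine ⟨_, hmem A, _, hmem B, ?_⟩
  have hTu : T = Matrix.SpecialLinearGroup.toGL (A * B * A⁻¹ * B⁻¹) := Units.ext hAB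
  rw [hTu, map_mul, map_mul, map_mul, map_inv, map_inv, dg_inv, dg_inv, dg_mul, dg_mul, dg_mul]
  simp

theorem admissible_cands : ∀ c ∈ cands, ∀ p : Fin 3 → Z₂,
    p ⬝ᵥ lowL c.1 c.2 *ᵥ p + qb ((c.1 *ᵥ p) 0) ((c.1 *ᵥ p) 1) = 0 := by decide +kernel

theorem notTvB_spec {M : Matrix (Fin 3) (Fin 3) Z₂} (h : notTvB M = true) : ¬ IsTv M := by
  rintro ⟨u, φ, hu, hφ, -, rfl⟩
  have hN : (1 : Matrix (Fin 3) (Fin 3) Z₂) + vecMulVec u φ + 1 = vecMulVec u φ := by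
    have h2 : (1 : Matrix (Fin 3) (Fin 3) Z₂) + 1 = 0 := by decide
    rw [add_right_comm, h2, zero_add]
  simp only [notTvB, hN, Bool.or_eq_true, decide_eq_true_eq, List.any_eq_true] at h
  rcases h with h | ⟨i, -, j, -, h⟩
  · obtain ⟨i, hi⟩ := Function.ne_iff.1 hu
    obtain ⟨j, hj⟩ := Function.ne_iff.1 hφ
    exact mul_ne_zero hi hj (congrFun (congrFun h i) j)
  · exact h (by simp only [vecMulVec_apply]; ring)

variable {Q₀}

theorem adjA_eq (hQv : ∀ w, Q₀ w = qb (w 0) (w 1)) (a : Matrix (Fin 2) (Fin 3) Z₂) : adjA Q₀ a = lowT a := by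
  ext i b
  simp only [adjA, lowT, Matrix.of_apply, QuadraticMap.polar, hQv, Pi.add_apply]
  fin_cases b <;> simp [qb] <;> generalize a 0 i = x <;> generalize a 1 i = y <;> revert x y <;> decide

theorem lo_blocks {m : ℕ} {F : Type*} [Field F] {β : Type} [Fintype β] [DecidableEq β]
    {Q₀ : QuadraticForm F (β → F)} {l : ↥(Cfsg.isometryGroup F ⇑(frQ m Q₀))} (hl : l ∈ Lo Q₀) :
    (∀ p, mat (frQ m Q₀) l *ᵥ fv p 0 0 =
      fv p (bqp (mat (frQ m Q₀) l) *ᵥ p) (bwp (mat (frQ m Q₀) l) *ᵥ p)) ∧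
    (∀ w, mat (frQ m Q₀) l *ᵥ fv 0 0 w = fv 0 (adjA Q₀ (bwp (mat (frQ m Q₀) l)) *ᵥ w) w) := by
  have hp : ∀ p, bpp (mat (frQ m Q₀) l) *ᵥ p = p := fun p => funext fun i => by
    have h := polar_mulVec (frQ m Q₀) l (fv p 0 0) (fv 0 (Pi.single i 1) 0)
    rw [mulVec_first, hl.1] at h
    simpa using h
  have hp' : ∀ p, mat (frQ m Q₀) l *ᵥ fv p 0 0 =
      fv p (bqp (mat (frQ m Q₀) l) *ᵥ p) (bwp (mat (frQ m Q₀) l) *ᵥ p) := fun p => by rw [mulVec_first, hp]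
  refine ⟨hp', fun w => ?_⟩
  obtain ⟨q, hq⟩ := hl.2 w
  rw [hq]
  refine fv_inj.2 ⟨rfl, funext fun i => ?_, rfl⟩
  have h := polar_mulVec (frQ m Q₀) l (fv (Pi.single i 1) 0 0) (fv 0 0 w)
  rw [hp', hq] at h
  simp [mulVec_single_one] at h
  rw [adjA_mulVec, QuadraticMap.polar_comm]
  exact eq_neg_of_add_eq_zero_left h

theorem matrix_ext_mulVec {ι κ : Type*} [Fintype κ] [DecidableEq κ] {R : Type*} [CommSemiring R]
    {A B : Matrix ι κ R} (h : ∀ v, A *ᵥ v = B *ᵥ v) : A = B := Matrix.ext_iff_mulVec.2 h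

/-- The case of the base transvection and a nontrivial lower element. -/
theorem isOre_low (hQv : ∀ w, Q₀ w = qb (w 0) (w 1)) (hQ : (QuadraticMap.polarBilin Q₀).Nondegenerate)
    (hgen : ∀ l ∈ Lo (m := 3) Q₀, ∀ u ∈ Up (m := 3) Q₀, ∀ M : (Matrix (Fin 3) (Fin 3) Z₂)ˣ,
      ¬ IsTv (M : Matrix (Fin 3) (Fin 3) Z₂) → IsOre (frQ 3 Q₀) (l * dg Q₀ M 1 * u))
    {l u : ↥(Cfsg.isometryGroup Z₂ ⇑(frQ 3 Q₀))} (hl : l ∈ Lo Q₀) (hl1 : l ≠ 1) (hu : u ∈ Up Q₀)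
    {T : (Matrix (Fin 3) (Fin 3) Z₂)ˣ} (hT : (T : Matrix (Fin 3) (Fin 3) Z₂) = T₀) :
    IsOre (frQ 3 Q₀) (l * dg Q₀ T 1 * u) := by
  obtain ⟨hp, hw⟩ := lo_blocks hl
  set a := bwp (mat (frQ 3 Q₀) l) with ha
  set L := bqp (mat (frQ 3 Q₀) l) with hLdef
  set x : Fin 3 → Z₂ := ![L 0 1, L 0 2, L 1 2] with hx
  have hadm : ∀ p, p ⬝ᵥ L *ᵥ p + qb ((a *ᵥ p) 0) ((a *ᵥ p) 1) = 0 := fun p => by
    have h := quad_mulVec (frQ 3 Q₀) l (fv p 0 0)
    rw [hp, frQ_fv, frQ_fv] at h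
    simpa [hQv, qb] using h
  have hL : L = lowL a x := by
    have hd : ∀ i, L i i = qb (a 0 i) (a 1 i) := fun i => by
      have h := hadm (Pi.single i 1)
      simp only [mulVec_single_one, single_dotProduct, one_mul, col_apply] at h
      exact (show ∀ z y : Z₂, z + y = 0 → z = y by decide) _ _ h
    have ho : ∀ i j, L j i = L i j + a 0 j * a 1 i + a 1 j * a 0 i := fun i j => by
      have h := hadm (Pi.single i 1 + Pi.single j 1)
      simp only [mulVec_add, mulVec_single_one, add_dotProduct, single_dotProduct, one_mul, col_apply,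
        Pi.add_apply, hd] at h
      revert h
      generalize L i j = z₁; generalize L j i = z₂; generalize a 0 i = a₁; generalize a 1 i = a₂
      generalize a 0 j = b₁; generalize a 1 j = b₂
      revert z₁ z₂ a₁ a₂ b₁ b₂
      decide
    ext i j
    fin_cases i <;> fin_cases j <;> first
      | exact hd _
      | rfl
      | exact ho _ _
  obtain ⟨⟨k, A, J⟩, hline⟩ := exists_line table_true (a 0, a 1, x) (by
    simp only [params, List.mem_flatMap, List.mem_map]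
    exact ⟨_, mem_allV 3 _, _, mem_allV 3 _, _, mem_allV 3 _, rfl⟩)
  have hne : ¬ (a 0 = 0 ∧ a 1 = 0 ∧ x = 0) := fun ⟨h0, h1, h2⟩ => hl1 (fr_ext Q₀ fun p q w => by
    have ha0 : a = 0 := by ext i j; fin_cases i <;> simp [h0, h1]
    have hL0 : L = 0 := by
      rw [hL, ha0, h2]; decide
    have e : fv p q w = fv p 0 0 + fv 0 q 0 + fv 0 0 w := by simp
    rw [mat_one, one_mulVec, e, mulVec_add, mulVec_add, hp, hl.1, hw, adjA_eq hQv, ha0, hL0,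
      show lowT (0 : Matrix (Fin 2) (Fin 3) Z₂) = 0 by decide]
    simp)
  have haeq : Matrix.of ![a 0, a 1] = a := by ext i j; fin_cases i <;> rfl
  simp only [lineB, decide_eq_false hne, Bool.false_or, haeq, ← hL] at hline
  rcases hc : cands[k]? with _ | ⟨b, bx⟩
  · simp [hc] at hline
  simp only [hc, goodB, Bool.and_eq_true, decide_eq_true_eq] at hline
  obtain ⟨⟨⟨hA, hJ⟩, htv⟩, hC⟩ := hline
  have hmem : (b, bx) ∈ cands := List.mem_of_getElem? hc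
  set B := lowL b bx with hB
  obtain ⟨l₀, hl₀, hl₀v⟩ := exists_lo Q₀ b B fun p => by
    rw [hQv]; exact admissible_cands _ hmem p
  set u₀ := (swap Q₀).symm l₀ with hu₀
  have hu₀m : u₀ ∈ Up Q₀ := by rw [mem_Up, hu₀, MulEquiv.apply_symm_apply]; exact hl₀
  have hswap : swap Q₀ (swap Q₀ u₀) = u₀ := fr_ext Q₀ fun p q w => by
    obtain ⟨p', q', w', h⟩ := exists_fv (mat (frQ 3 Q₀) u₀ *ᵥ fv p q w)
    rw [swap_mulVec Q₀ _ p q w (swap_mulVec Q₀ u₀ q p w h), h]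
  have hu₀v : ∀ p q w, mat (frQ 3 Q₀) u₀ *ᵥ fv p q w =
      fv (p + B *ᵥ q + lowT b *ᵥ w) q (w + b *ᵥ q) := fun p q w => by
    rw [← hswap, hu₀, MulEquiv.apply_symm_apply, ← adjA_eq hQv]
    exact swap_mulVec Q₀ l₀ p q w (hl₀v q p w)
  set X := mat (frQ 3 Q₀) (u₀ * l) with hX
  have e1 : ∀ p, X *ᵥ fv p 0 0 =
      fv (p + B *ᵥ (L *ᵥ p) + lowT b *ᵥ (a *ᵥ p)) (L *ᵥ p) (a *ᵥ p + b *ᵥ (L *ᵥ p)) := fun p => by
    rw [hX, mat_mul, ← mulVec_mulVec, hp, hu₀v]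
  have e2 : ∀ w, X *ᵥ fv 0 0 w =
      fv (B *ᵥ (lowT a *ᵥ w) + lowT b *ᵥ w) (lowT a *ᵥ w) (w + b *ᵥ (lowT a *ᵥ w)) := fun w => by
    rw [hX, mat_mul, ← mulVec_mulVec, hw, adjA_eq hQv, hu₀v, zero_add]
  have hpp : bpp X = 1 + B * L + lowT b * a := matrix_ext_mulVec fun p => by
    have := e1 p
    rw [mulVec_first, fv_inj] at this
    simp only [add_mulVec, one_mulVec, ← mulVec_mulVec]
    exact this.1
  have hwp : bwp X = a + b * L := matrix_ext_mulVec fun p => by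
    have := e1 p
    rw [mulVec_first, fv_inj] at this
    simp only [add_mulVec, ← mulVec_mulVec]
    exact this.2.2
  have hpw : bpw X = B * lowT a + lowT b := matrix_ext_mulVec fun w => by
    obtain ⟨q, hq⟩ := mulVec_middle X w
    rw [e2, fv_inj] at hq
    simp only [add_mulVec, ← mulVec_mulVec]
    exact hq.1.symm
  have hww : bww X = 1 + b * lowT a := matrix_ext_mulVec fun w => by
    obtain ⟨q, hq⟩ := mulVec_middle X w
    rw [e2, fv_inj] at hq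
    simp only [add_mulVec, one_mulVec, ← mulVec_mulVec]
    exact hq.2.2.symm
  have hAJ := of_mulOK hJ
  simp only [if_true, show bitMat 3 0 = 0 by decide, zero_add] at hAJ
  let M : (Matrix (Fin 3) (Fin 3) Z₂)ˣ := ⟨bitMat 3 A, bitMat 3 J, hAJ, mul_eq_one_comm.1 hAJ⟩
  obtain ⟨l₁, hl₁, u₁, hu₁, hx1⟩ := exists_big_cell Q₀ hQ (u₀ * l) M (by rw [← hX, hpp, hA])
    (by rw [← hX, hwp, hpw, hww]; exact hC)
  refine IsOre.of_conj u₀⁻¹ ?_
  have e : u₀⁻¹⁻¹ * (l * dg Q₀ T 1 * u) * u₀⁻¹ =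
      l₁ * dg Q₀ (M * T) 1 * (((dg Q₀ T⁻¹ 1) * u₁ * (dg Q₀ T⁻¹ 1)⁻¹) * (u * u₀⁻¹)) := by
    rw [inv_inv, ← mul_assoc, ← mul_assoc, hx1, dg_inv, inv_inv, inv_one]
    have hd : dg Q₀ (M * T) (1 : ↥(Cfsg.isometryGroup Z₂ ⇑Q₀)) * dg Q₀ T⁻¹ 1 = dg Q₀ M 1 := by
      rw [dg_mul, mul_inv_cancel_right, one_mul]
    rw [← hd]
    group
  rw [e]
  exact hgen _ hl₁ _ (mul_mem (dg_conj_Up Q₀ _ _ hu₁) (mul_mem hu (inv_mem hu₀m))) _
    (by rw [Units.val_mul, hT]; exact notTvB_spec htv)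

/-- All transvections. -/
theorem isOre_tv (hQv : ∀ w, Q₀ w = qb (w 0) (w 1)) (hQ : (QuadraticMap.polarBilin Q₀).Nondegenerate)
    (hgen : ∀ l ∈ Lo (m := 3) Q₀, ∀ u ∈ Up (m := 3) Q₀, ∀ M : (Matrix (Fin 3) (Fin 3) Z₂)ˣ,
      ¬ IsTv (M : Matrix (Fin 3) (Fin 3) Z₂) → IsOre (frQ 3 Q₀) (l * dg Q₀ M 1 * u))
    {l u : ↥(Cfsg.isometryGroup Z₂ ⇑(frQ 3 Q₀))} (hl : l ∈ Lo Q₀) (hu : u ∈ Up Q₀)
    {T : (Matrix (Fin 3) (Fin 3) Z₂)ˣ} (hT : IsTv (T : Matrix (Fin 3) (Fin 3) Z₂)) :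
    IsOre (frQ 3 Q₀) (l * dg Q₀ T 1 * u) := by
  have key : ∀ (l u : ↥(Cfsg.isometryGroup Z₂ ⇑(frQ 3 Q₀))), l ∈ Lo Q₀ → l ≠ 1 → u ∈ Up Q₀ →
      ∀ T : (Matrix (Fin 3) (Fin 3) Z₂)ˣ, IsTv (T : Matrix (Fin 3) (Fin 3) Z₂) →
      IsOre (frQ 3 Q₀) (l * dg Q₀ T 1 * u) := by
    intro l u hl hl1 hu T ⟨v, φ, hv, hφ, hφv, hT⟩
    obtain ⟨P, P', h1, h2, h3⟩ := LevCover.sim_rank_one (k := 1) hv hφ
      (w' := Pi.single 0 1) (φ' := Pi.single 2 1) (fun h => by simpa using congrFun h 0)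
      (fun h => by simpa using congrFun h 2) (by rw [hφv]; simp)
    let S : (Matrix (Fin 3) (Fin 3) Z₂)ˣ := ⟨P, P', h1, h2⟩
    refine IsOre.of_conj (dg Q₀ S⁻¹ 1) ?_
    have e : (dg Q₀ S⁻¹ 1)⁻¹ * (l * dg Q₀ T 1 * u) * dg Q₀ S⁻¹ 1 = (dg Q₀ S 1 * l * (dg Q₀ S 1)⁻¹) *
        dg Q₀ (S * T * S⁻¹) 1 * (dg Q₀ S 1 * u * (dg Q₀ S 1)⁻¹) := by
      have hd : dg Q₀ (S * T * S⁻¹) (1 : ↥(Cfsg.isometryGroup Z₂ ⇑Q₀)) =
          dg Q₀ S 1 * dg Q₀ T 1 * (dg Q₀ S 1)⁻¹ := by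
        rw [dg_inv, dg_mul, dg_mul, inv_one, mul_one, mul_one]
      rw [hd, dg_inv Q₀ S⁻¹, inv_inv, inv_one]
      rw [show dg Q₀ S⁻¹ (1 : ↥(Cfsg.isometryGroup Z₂ ⇑Q₀)) = (dg Q₀ S 1)⁻¹ by rw [dg_inv, inv_one]]
      group
    rw [e]
    refine isOre_low hQv hQ hgen (dg_conj_Lo Q₀ _ _ hl) (fun h => hl1 ?_) (dg_conj_Up Q₀ _ _ hu) ?_
    · have := congrArg (fun z => (dg Q₀ S 1)⁻¹ * z * dg Q₀ S 1) h
      simpa [mul_assoc] using this
    · show P * (T : Matrix (Fin 3) (Fin 3) Z₂) * P' = T₀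
      rw [hT, ← h3]
      decide
  by_cases hl1 : l = 1
  swap
  · exact key l u hl hl1 hu T hT
  subst hl1
  by_cases hu1 : u = 1
  · subst hu1; rw [one_mul, mul_one]; exact isOre_dg_tv Q₀ hT
  have h : IsOre (frQ 3 Q₀) (swap Q₀ (1 * dg Q₀ T 1 * u)) := by
    rw [one_mul, map_mul, swap_dg]
    have e : dg Q₀ (invT T) 1 * swap Q₀ u =
        dg Q₀ (invT T) 1 * swap Q₀ u * (dg Q₀ (invT T) 1)⁻¹ * dg Q₀ (invT T) 1 * 1 := by group
    rw [e]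
    refine key _ 1 (dg_conj_Lo Q₀ _ _ hu) (fun h => hu1 ?_) (one_mem _) (invT T) ?_
    · have : swap Q₀ u = 1 := by
        have := congrArg (fun z => (dg Q₀ (invT T) 1)⁻¹ * z * dg Q₀ (invT T) 1) h
        simpa [mul_assoc] using this
      exact (swap Q₀).injective (this.trans (map_one _).symm)
    · obtain ⟨v, φ, hv, hφ, hφv, hT'⟩ := hT
      refine ⟨φ, v, hφ, hv, by rw [dotProduct_comm]; exact hφv, ?_⟩
      have hi : (↑T⁻¹ : Matrix (Fin 3) (Fin 3) Z₂) = 1 + vecMulVec v φ := by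
        refine Units.inv_eq_of_mul_eq_one_left ?_
        rw [hT', Matrix.add_mul, Matrix.mul_add, Matrix.mul_add, Matrix.one_mul, Matrix.mul_one,
          vecMulVec_mul_vecMulVec, hφv, zero_smul, vecMulVec_zero, add_zero]
        have h2 : ∀ N : Matrix (Fin 3) (Fin 3) Z₂, N + N = 0 := fun N => by
          ext i j; exact (show ∀ z : Z₂, z + z = 0 by decide) _
        rw [Matrix.one_mul, add_assoc, h2, add_zero]
      show (↑T⁻¹ : Matrix (Fin 3) (Fin 3) Z₂)ᵀ = _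
      rw [hi, transpose_add, transpose_one, transpose_vecMulVec]
  have h' := h.map (swap Q₀).symm.toMonoidHom
  simpa using h'

end CfsgLib.OreOrth.Two
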