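import Cfsg.Agent.OreOrth.TwoBase

/-!
# Moving a transvection out of the first diagonal block

For every nontrivial element of the lower unipotent group of three planes over the anisotropic binary form over
two elements, one of eleven upper unipotent elements gives a big cell element with a better diagonal block.
-/

set_option autoImplicit false
set_option linter.unusedSectionVars false

namespace CfsgLib.OreOrth.Two

open Matrix

local notation "Z₂" => ZMod 2

/-- The binary form. -/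
def qb (x y : Z₂) : Z₂ := x * x + x * y + y * y

/-- The second half part of a lower unipotent element from its middle part and upper entries. -/
def lowL (a : Matrix (Fin 2) (Fin 3) Z₂) (x : Fin 3 → Z₂) : Matrix (Fin 3) (Fin 3) Z₂ :=
  Matrix.of fun i j =>
    if i = j then qb (a 0 i) (a 1 i)
    else if i.val < j.val then x ⟨(i.val + j.val - 1) % 3, Nat.mod_lt _ (by norm_num)⟩
    else x ⟨(i.val + j.val - 1) % 3, Nat.mod_lt _ (by norm_num)⟩ + a 0 i * a 1 j + a 1 i * a 0 j

/-- The adjoint of the middle part. -/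
def lowT (a : Matrix (Fin 2) (Fin 3) Z₂) : Matrix (Fin 3) (Fin 2) Z₂ :=
  Matrix.of fun i b => if b.val = 0 then a 1 i else a 0 i

/-- The base transvection. -/
def T₀ : Matrix (Fin 3) (Fin 3) Z₂ := 1 + Matrix.single 0 2 1

/-- Some two by two minor of `M - 1` is not zero, or `M` is one. -/
def notTvB (M : Matrix (Fin 3) (Fin 3) Z₂) : Bool :=
  let N := M + 1
  decide (N = 0) || (List.finRange 3).any fun i => (List.finRange 3).any fun j =>
    decide (N (i + 1) (j + 1) * N (i + 2) (j + 2) ≠ N (i + 1) (j + 2) * N (i + 2) (j + 1))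

/-- The test for the upper element `(b, B)` against the lower element `(a, L)`, with codes of the new
diagonal block and of its inverse. -/
def goodB (a : Matrix (Fin 2) (Fin 3) Z₂) (L : Matrix (Fin 3) (Fin 3) Z₂) (b : Matrix (Fin 2) (Fin 3) Z₂)
    (B : Matrix (Fin 3) (Fin 3) Z₂) (A J : ℕ) : Bool :=
  decide (1 + B * L + lowT b * a = bitMat 3 A) && mulOK 3 A J 0 true && notTvB (bitMat 3 A * T₀) &&
    decide (1 + b * lowT a - (a + b * L) * bitMat 3 J * (B * lowT a + lowT b) = 1)

/-- The eleven upper unipotent elements. -/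
def cands : List (Matrix (Fin 2) (Fin 3) Z₂ × (Fin 3 → Z₂)) :=
  [(!![0, 0, 0; 0, 0, 1], ![0, 0, 1]),
   (!![0, 0, 0; 0, 1, 1], ![0, 0, 0]),
   (!![0, 0, 0; 0, 1, 0], ![0, 0, 1]),
   (!![0, 0, 0; 0, 1, 0], ![1, 0, 1]),
   (!![0, 0, 0; 0, 0, 0], ![0, 1, 1]),
   (!![0, 0, 0; 0, 0, 0], ![0, 1, 0]),
   (!![0, 1, 1; 0, 0, 0], ![1, 1, 0]),
   (!![0, 0, 0; 0, 1, 0], ![1, 0, 0]),
   (!![0, 0, 0; 0, 0, 1], ![0, 1, 1]),
   (!![0, 0, 0; 0, 0, 1], ![0, 1, 0]),
   (!![0, 0, 0; 0, 0, 0], ![1, 1, 0])]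

/-- The choices. -/
def tableC : List (ℕ × ℕ × ℕ) :=
  [(0, 0, 0), (0, 337, 337), (0, 345, 345), (0, 281, 281), (9, 403, 403), (3, 124, 124),
  (4, 266, 266), (3, 84, 84), (3, 281, 281), (0, 337, 337), (0, 345, 345), (0, 281, 281),
  (5, 339, 467), (3, 116, 92), (4, 330, 394), (3, 92, 116), (0, 401, 401), (0, 465, 465),
  (0, 473, 409), (0, 409, 473), (1, 417, 177), (1, 425, 249), (1, 481, 185), (1, 489, 241),
  (0, 401, 401), (0, 465, 465), (0, 473, 409), (0, 409, 473), (1, 417, 177), (1, 425, 249),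
  (1, 481, 185), (1, 489, 241), (5, 277, 277), (2, 377, 369), (2, 313, 313), (2, 369, 377),
  (0, 417, 177), (0, 481, 185), (0, 489, 241), (0, 425, 249), (3, 313, 313), (2, 377, 369),
  (2, 313, 313), (2, 369, 377), (0, 417, 177), (0, 481, 185), (0, 489, 241), (0, 425, 249),
  (0, 177, 417), (0, 241, 489), (0, 249, 425), (0, 185, 481), (1, 161, 161), (1, 169, 225),
  (1, 225, 169), (1, 233, 233), (0, 177, 417), (0, 241, 489), (0, 249, 425), (0, 185, 481),
  (1, 161, 161), (1, 169, 225), (1, 225, 169), (1, 233, 233), (0, 337, 337), (1, 337, 337),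
  (0, 281, 281), (0, 345, 345), (5, 339, 467), (3, 124, 124), (4, 330, 394), (3, 84, 84),
  (0, 337, 337), (1, 337, 337), (0, 281, 281), (0, 345, 345), (5, 339, 467), (3, 124, 124),
  (4, 330, 394), (3, 84, 84), (0, 401, 401), (0, 465, 465), (0, 473, 409), (0, 409, 473),
  (1, 481, 185), (1, 489, 241), (1, 417, 177), (1, 425, 249), (0, 401, 401), (0, 465, 465),
  (0, 473, 409), (0, 409, 473), (1, 481, 185), (1, 489, 241), (1, 417, 177), (1, 425, 249),
  (3, 313, 313), (2, 377, 369), (2, 313, 313), (2, 369, 377), (0, 425, 249), (0, 489, 241),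
  (0, 481, 185), (0, 417, 177), (3, 313, 313), (2, 377, 369), (2, 313, 313), (2, 369, 377),
  (0, 425, 249), (0, 489, 241), (0, 481, 185), (0, 417, 177), (0, 249, 425), (0, 185, 481),
  (0, 177, 417), (0, 241, 489), (1, 161, 161), (1, 169, 225), (1, 225, 169), (1, 233, 233),
  (0, 249, 425), (0, 185, 481), (0, 177, 417), (0, 241, 489), (1, 161, 161), (1, 169, 225),
  (1, 225, 169), (1, 233, 233), (4, 401, 401), (0, 337, 337), (0, 345, 345), (0, 281, 281),
  (6, 421, 179), (5, 403, 403), (4, 394, 330), (4, 330, 394), (0, 337, 337), (3, 395, 474),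
  (0, 281, 281), (0, 345, 345), (3, 230, 159), (5, 467, 339), (3, 206, 498), (4, 330, 394),
  (4, 401, 401), (0, 337, 337), (0, 345, 345), (0, 281, 281), (10, 277, 277), (5, 403, 403),
  (4, 394, 330), (4, 330, 394), (0, 337, 337), (3, 395, 474), (0, 281, 281), (0, 345, 345),
  (3, 230, 159), (5, 467, 339), (3, 206, 498), (4, 330, 394), (2, 417, 177), (2, 489, 241),
  (2, 425, 249), (2, 481, 185), (1, 177, 417), (1, 185, 481), (1, 241, 489), (1, 249, 425),
  (2, 489, 241), (2, 417, 177), (2, 481, 185), (2, 425, 249), (1, 185, 481), (1, 177, 417),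
  (1, 249, 425), (1, 241, 489), (2, 417, 177), (2, 489, 241), (2, 425, 249), (2, 481, 185),
  (1, 177, 417), (1, 185, 481), (1, 241, 489), (1, 249, 425), (2, 489, 241), (2, 417, 177),
  (2, 481, 185), (2, 425, 249), (1, 185, 481), (1, 177, 417), (1, 249, 425), (1, 241, 489),
  (0, 337, 337), (5, 465, 465), (0, 281, 281), (0, 345, 345), (5, 339, 467), (5, 467, 339),
  (4, 458, 458), (4, 266, 266), (3, 474, 395), (0, 337, 337), (0, 345, 345), (0, 281, 281),
  (5, 339, 467), (3, 183, 419), (4, 394, 330), (3, 159, 230), (3, 474, 395), (0, 337, 337),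
  (0, 345, 345), (0, 281, 281), (5, 339, 467), (3, 183, 419), (4, 394, 330), (3, 159, 230),
  (0, 337, 337), (5, 465, 465), (0, 281, 281), (0, 345, 345), (5, 339, 467), (5, 467, 339),
  (4, 458, 458), (4, 266, 266), (2, 417, 177), (2, 489, 241), (2, 425, 249), (2, 481, 185),
  (1, 185, 481), (1, 177, 417), (1, 249, 425), (1, 241, 489), (2, 489, 241), (2, 417, 177),
  (2, 481, 185), (2, 425, 249), (1, 177, 417), (1, 185, 481), (1, 241, 489), (1, 249, 425),
  (2, 489, 241), (2, 417, 177), (2, 481, 185), (2, 425, 249), (1, 177, 417), (1, 185, 481),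
  (1, 241, 489), (1, 249, 425), (2, 417, 177), (2, 489, 241), (2, 425, 249), (2, 481, 185),
  (1, 185, 481), (1, 177, 417), (1, 249, 425), (1, 241, 489), (5, 277, 277), (2, 345, 345),
  (2, 281, 281), (2, 337, 337), (6, 179, 421), (3, 124, 124), (4, 302, 302), (3, 84, 84),
  (2, 281, 281), (2, 337, 337), (3, 313, 313), (2, 345, 345), (8, 174, 359), (3, 124, 124),
  (9, 215, 342), (3, 84, 84), (1, 417, 177), (1, 425, 249), (1, 481, 185), (1, 489, 241),
  (0, 177, 417), (0, 241, 489), (0, 249, 425), (0, 185, 481), (1, 481, 185), (1, 489, 241),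
  (1, 417, 177), (1, 425, 249), (0, 249, 425), (0, 185, 481), (0, 177, 417), (0, 241, 489),
  (5, 277, 277), (2, 345, 345), (2, 281, 281), (2, 337, 337), (7, 277, 277), (3, 124, 124),
  (4, 302, 302), (3, 84, 84), (2, 281, 281), (2, 337, 337), (3, 313, 313), (2, 345, 345),
  (8, 174, 359), (3, 124, 124), (6, 179, 421), (3, 84, 84), (1, 417, 177), (1, 425, 249),
  (1, 481, 185), (1, 489, 241), (0, 177, 417), (0, 241, 489), (0, 249, 425), (0, 185, 481),
  (1, 481, 185), (1, 489, 241), (1, 417, 177), (1, 425, 249), (0, 249, 425), (0, 185, 481),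
  (0, 177, 417), (0, 241, 489), (2, 281, 281), (2, 337, 337), (3, 313, 313), (2, 345, 345),
  (4, 103, 188), (3, 124, 124), (5, 86, 212), (3, 84, 84), (3, 281, 281), (2, 345, 345),
  (2, 281, 281), (2, 337, 337), (7, 277, 277), (3, 116, 92), (8, 423, 181), (3, 92, 116),
  (1, 481, 185), (1, 489, 241), (1, 417, 177), (1, 425, 249), (0, 177, 417), (0, 241, 489),
  (0, 249, 425), (0, 185, 481), (1, 417, 177), (1, 425, 249), (1, 481, 185), (1, 489, 241),
  (0, 249, 425), (0, 185, 481), (0, 177, 417), (0, 241, 489), (3, 281, 281), (2, 345, 345),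
  (2, 281, 281), (2, 337, 337), (6, 410, 331), (3, 116, 92), (8, 423, 181), (3, 92, 116),
  (2, 281, 281), (2, 337, 337), (3, 313, 313), (2, 345, 345), (4, 103, 188), (3, 124, 124),
  (5, 86, 212), (3, 84, 84), (1, 417, 177), (1, 425, 249), (1, 481, 185), (1, 489, 241),
  (0, 249, 425), (0, 185, 481), (0, 177, 417), (0, 241, 489), (1, 481, 185), (1, 489, 241),
  (1, 417, 177), (1, 425, 249), (0, 177, 417), (0, 241, 489), (0, 249, 425), (0, 185, 481),
  (5, 277, 277), (6, 158, 358), (4, 188, 103), (4, 124, 124), (4, 167, 167), (1, 281, 281),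
  (1, 337, 337), (1, 345, 345), (3, 474, 395), (6, 214, 214), (3, 498, 206), (7, 267, 282),
  (1, 345, 345), (1, 337, 337), (1, 281, 281), (3, 159, 230), (0, 417, 177), (0, 481, 185),
  (0, 489, 241), (0, 425, 249), (2, 177, 417), (2, 249, 425), (2, 185, 481), (2, 241, 489),
  (0, 425, 249), (0, 489, 241), (0, 481, 185), (0, 417, 177), (2, 241, 489), (2, 185, 481),
  (2, 249, 425), (2, 177, 417), (0, 417, 177), (0, 481, 185), (0, 489, 241), (0, 425, 249),
  (2, 177, 417), (2, 249, 425), (2, 185, 481), (2, 241, 489), (0, 425, 249), (0, 489, 241),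
  (0, 481, 185), (0, 417, 177), (2, 241, 489), (2, 185, 481), (2, 249, 425), (2, 177, 417),
  (5, 277, 277), (6, 302, 302), (4, 188, 103), (4, 124, 124), (4, 167, 167), (1, 281, 281),
  (1, 337, 337), (1, 345, 345), (3, 474, 395), (6, 358, 158), (3, 498, 206), (7, 267, 282),
  (1, 345, 345), (1, 337, 337), (1, 281, 281), (3, 159, 230), (4, 501, 494), (6, 214, 214),
  (5, 84, 84), (5, 212, 86), (1, 345, 345), (1, 337, 337), (1, 281, 281), (4, 302, 302),
  (7, 314, 271), (3, 395, 474), (6, 302, 302), (3, 419, 183), (3, 230, 159), (1, 281, 281),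
  (1, 337, 337), (1, 345, 345), (0, 417, 177), (0, 481, 185), (0, 489, 241), (0, 425, 249),
  (2, 241, 489), (2, 185, 481), (2, 249, 425), (2, 177, 417), (0, 425, 249), (0, 489, 241),
  (0, 481, 185), (0, 417, 177), (2, 177, 417), (2, 249, 425), (2, 185, 481), (2, 241, 489),
  (0, 425, 249), (0, 489, 241), (0, 481, 185), (0, 417, 177), (2, 177, 417), (2, 249, 425),
  (2, 185, 481), (2, 241, 489), (0, 417, 177), (0, 481, 185), (0, 489, 241), (0, 425, 249),
  (2, 241, 489), (2, 185, 481), (2, 249, 425), (2, 177, 417), (7, 314, 271), (3, 395, 474),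
  (6, 214, 214), (3, 419, 183), (3, 230, 159), (1, 281, 281), (1, 337, 337), (1, 345, 345),
  (4, 501, 494), (6, 302, 302), (5, 84, 84), (5, 212, 86), (1, 345, 345), (1, 337, 337),
  (1, 281, 281), (4, 302, 302)]

/-- All middle parts and upper entries. -/
def params : List ((Fin 3 → Z₂) × (Fin 3 → Z₂) × (Fin 3 → Z₂)) :=
  (allV 3).flatMap fun a₀ => (allV 3).flatMap fun a₁ => (allV 3).map fun x => (a₀, a₁, x)

/-- The check of one line. -/
def lineB (p : (Fin 3 → Z₂) × (Fin 3 → Z₂) × (Fin 3 → Z₂)) (c : ℕ × ℕ × ℕ) : Bool :=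
  decide (p.1 = 0 ∧ p.2.1 = 0 ∧ p.2.2 = 0) ||
    match cands[c.1]? with
    | some u => goodB (Matrix.of ![p.1, p.2.1]) (lowL (Matrix.of ![p.1, p.2.1]) p.2.2) u.1 (lowL u.1 u.2) c.2.1 c.2.2
    | none => false

/-- Listwise check. -/
def checkLines : List ((Fin 3 → Z₂) × (Fin 3 → Z₂) × (Fin 3 → Z₂)) → List (ℕ × ℕ × ℕ) → Bool
  | [], _ => true
  | _ :: _, [] => false
  | p :: ps, c :: cs => lineB p c && checkLines ps cs

theorem table_true : checkLines params tableC = true := by decide +kernel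

theorem exists_line : ∀ {ps cs}, checkLines ps cs = true → ∀ p ∈ ps, ∃ c, lineB p c = true
  | [], _, _, _, hp => by simp at hp
  | _ :: _, [], h, _, _ => by simp [checkLines] at h
  | p :: ps, c :: cs, h, q, hq => by
    simp only [checkLines, Bool.and_eq_true] at h
    rcases List.mem_cons.1 hq with rfl | hq
    · exact ⟨c, h.1⟩
    · exact exists_line h.2 q hq

end CfsgLib.OreOrth.Two
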