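import Cfsg.Agent.OreOrth.TwoBase
import Cfsg.Agent.OreOrth.Corner
import Cfsg.Agent.OreGL.Stacks
import Cfsg.Agent.LevCover.Factor

/-!
# Twisted factorisations over the field with two elements

Every invertible matrix of size at least four, and every one of size three other than a transvection, is
`(M R) R⁻¹` for `M R` similar to `R` and the polynomial of `R` without inverse pairs of roots.
-/

set_option autoImplicit false
set_option linter.unusedSectionVars false

namespace CfsgLib.OreOrth.Two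

open Matrix Polynomial
open CfsgLib.LevCover (Sim Cyc)
open CfsgLib.OreGL (Pre)

local notation "Z₂" => ZMod 2

theorem eq_one_of_ne (z : Z₂) (h : z ≠ 0) : z = 1 := by revert z; decide

/-- The regular unipotent matrix. -/
def Jm (r : ℕ) : Matrix (Fin r) (Fin r) Z₂ :=
  Matrix.of fun i j => if i = j ∨ j.val = i.val + 1 then 1 else 0

theorem charpoly_unitri {r : ℕ} {A : Matrix (Fin r) (Fin r) Z₂} (hl : ∀ i j, j < i → A i j = 0)
    (hd : ∀ i, A i i = 1) : A.charpoly = (X - C 1) ^ r := by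
  rw [Matrix.charpoly_of_isUpperTriangular A (fun i j h => hl i j h)]
  simp [hd]

theorem sim_jm {r : ℕ} {A : Matrix (Fin r) (Fin r) Z₂} (hA : Cyc A) (h : A.charpoly = (X - C 1) ^ r) :
    Sim A (Jm r) := by
  have hl : ∀ i j : Fin r, j < i → Jm r i j = 0 := fun i j h => by
    have h' : j.val < i.val := h
    simp [Jm, ne_of_gt h, show ¬ j.val = i.val + 1 by omega]
  have hd : ∀ i, Jm r i i = 1 := fun i => by simp [Jm]
  refine LevCover.sim_of_cyc hA (OreGL.cyc_of_super hl (fun i j h => by simp [Jm, h]) fun i j k _ _ _ => ?_) ?_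
  · rw [hd, hd]
  · rw [h, charpoly_unitri hl hd]

theorem exists_shear {a c : ℕ} {A : Matrix (Fin (c + 1)) (Fin (c + 1)) Z₂} (hl : ∀ i j, j < i → A i j = 0)
    (hd : ∀ i, A i i = 1) (hs : ∀ i j : Fin (c + 1), j.val = i.val + 1 → A i j = 1)
    (B : Matrix (Fin a) (Fin (c + 1)) Z₂) (hB : ∀ i, B i 0 = 0) :
    ∃ Z : Matrix (Fin a) (Fin (c + 1)) Z₂, Z * (A - 1) = -B := by
  set N := (A - 1).submatrix Fin.castSucc Fin.succ with hN
  have hNd : N.det = 1 := by
    rw [det_of_isUpperTriangular (show Matrix.BlockTriangular N id from fun i j h => ?_)]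
    · refine Finset.prod_eq_one fun i _ => ?_
      simp [hN, Matrix.one_apply, hs i.castSucc i.succ (by simp), Fin.ext_iff]
    · have h' : j.val < i.val := h
      have hcol : A i.castSucc j.succ - (1 : Matrix (Fin (c + 1)) (Fin (c + 1)) Z₂) i.castSucc j.succ = 0 := by
        rcases Nat.lt_or_ge (j.val + 1) i.val with h1 | h1
        · rw [hl _ _ (by rw [Fin.lt_def]; simpa using h1), Matrix.one_apply_ne (by simp [Fin.ext_iff]; omega), sub_zero]
        · rw [show j.succ = i.castSucc from Fin.ext (by simp; omega), hd, Matrix.one_apply_eq, sub_self]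
      simpa [hN] using hcol
  set B' := (-B).submatrix id Fin.succ
  refine ⟨Matrix.of fun i => Fin.snoc (fun l => (B' * N⁻¹) i l) 0, ?_⟩
  ext i j
  rw [Matrix.mul_apply, Fin.sum_univ_castSucc]
  simp only [Matrix.of_apply, Fin.snoc_castSucc, Fin.snoc_last, zero_mul, add_zero]
  refine Fin.cases ?_ (fun j => ?_) j
  · rw [Finset.sum_eq_zero fun l _ => ?_]
    · simp [hB]
    · rcases Nat.eq_zero_or_pos l.val with hl0 | hl0
      · rw [show l.castSucc = 0 from Fin.ext (by simpa using hl0)]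
        simp [hd]
      · rw [Matrix.sub_apply, hl _ _ (by rw [Fin.lt_def]; simpa using hl0),
          Matrix.one_apply_ne (by simp [Fin.ext_iff]; omega), sub_zero, mul_zero]
  · have h1 : (B' * N⁻¹ * N) i j = B' i j := by
      rw [Matrix.mul_assoc, Matrix.nonsing_inv_mul N (by rw [hNd]; exact isUnit_one), Matrix.mul_one]
    rw [Matrix.mul_apply] at h1
    simpa [hN, B'] using h1

/-- The corner matrices. -/
theorem pre_jm {a r w : ℕ} (hr : Odd r) (hw : a + r = w) (h3 : 3 ≤ w) :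
    Pre (fam w) (fromBlocks (1 : Matrix (Fin a) (Fin a) Z₂) 0 0 (Jm r)) := by
  obtain ⟨n, rfl⟩ : ∃ n, w = n + 1 := ⟨w - 1, by omega⟩
  have hf := part_fam h3
  obtain ⟨hC, -⟩ := OreGL.charpoly_comp_of_monic hf.monic hf.deg
  set σ : Fin a ⊕ Fin r ≃ Fin (n + 1) := finSumFinEquiv.trans (finCongr hw) with hσ
  obtain ⟨j, rfl⟩ := hr
  rcases Nat.eq_zero_or_pos j with rfl | hj
  · have h1 : fromBlocks (1 : Matrix (Fin a) (Fin a) Z₂) 0 0 (Jm (2 * 0 + 1)) = 1 := by
      rw [← fromBlocks_one]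
      congr 1
      ext x y
      rw [show x = y from Fin.ext (by omega)]
      simp [Jm]
    rw [h1]
    refine (OreGL.pre_one hC).of_sim σ.symm (LevCover.Sim.of_reindex σ.symm ?_)
    rw [Matrix.reindex_apply]
    exact Matrix.submatrix_one_equiv _
  obtain ⟨Nm, hpre, hl, hd, hu, hlast, hclean, -⟩ := OreGL.exists_tri hC (hf.eval_ne (by omega) 0)
    (fun _ => 1) (fun l => if l < a then 0 else 1) (fun _ => one_ne_zero) (by simp)
  set B := (Nm.submatrix σ σ).toBlocks₁₂ with hB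
  set A := (Nm.submatrix σ σ).toBlocks₂₂ with hA
  have hσl : ∀ x : Fin a, (σ (Sum.inl x)).val = x.val := fun x => by simp [hσ]
  have hσr : ∀ x : Fin (2 * j + 1), (σ (Sum.inr x)).val = a + x.val := fun x => by simp [hσ]
  have hcl := hclean (a + 1) (by omega) (fun l hl' => by simp [show l < a by omega])
  have hblock : Nm.submatrix σ σ = fromBlocks 1 B 0 A := by
    conv_lhs => rw [← fromBlocks_toBlocks (Nm.submatrix σ σ)]
    congr 1
    · ext x y
      show Nm (σ (Sum.inl x)) (σ (Sum.inl y)) = _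
      by_cases h : x = y
      · rw [h, hd, Matrix.one_apply_eq]
      · rw [hcl _ _ (by rw [hσl]; omega) (fun e => h (Sum.inl_injective (σ.injective e))), Matrix.one_apply_ne h]
    · ext x y
      exact hl _ _ (by rw [Fin.lt_def, hσl, hσr]; omega)
  have hAl : ∀ x y, y < x → A x y = 0 := fun x y h => by
    rw [Fin.lt_def] at h
    exact hl _ _ (by rw [Fin.lt_def, hσr, hσr]; omega)
  have hAd : ∀ x, A x x = 1 := fun x => hd _
  have hsum : ∑ l ∈ Finset.range (n - 1), (if l < a then (0 : Z₂) else 1) = 1 := by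
    rw [show n - 1 = a + (2 * (j - 1) + 1) by omega, Finset.sum_range_add,
      Finset.sum_eq_zero fun l hl' => if_pos (Finset.mem_range.1 hl'), zero_add]
    simp only [show ∀ l, ¬ a + l < a from fun l => by omega, if_false, Finset.sum_const, Finset.card_range,
      nsmul_one]
    push_cast
    rw [show (2 : Z₂) = 0 from rfl, zero_mul, zero_add]
  have hAs : ∀ x y : Fin (2 * j + 1), y.val = x.val + 1 → A x y = 1 := fun x y h => by
    show Nm (σ (Sum.inr x)) (σ (Sum.inr y)) = 1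
    by_cases hy : (σ (Sum.inr y)).val < n
    · rw [hu _ _ (by rw [hσr, hσr]; omega) hy, if_neg (by rw [hσr]; omega)]
    · have := (σ (Sum.inr y)).isLt
      rw [hlast _ _ (by rw [hσr, hσr]; omega) (by omega), hsum, sub_self, zero_mul, zero_sub]
      rfl
  have hAc : Cyc A := OreGL.cyc_of_super hAl (fun x y h => by rw [hAs x y h]; exact one_ne_zero)
    fun x y z _ _ _ => by rw [hAd, hAd]
  obtain ⟨Z, hZ⟩ := exists_shear hAl hAd hAs B fun x => by
    show Nm (σ (Sum.inl x)) (σ (Sum.inr 0)) = 0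
    exact hcl _ _ (by rw [hσr]; simp) (fun e => by simpa using σ.injective e)
  refine (hpre.of_sim σ.symm (LevCover.Sim.of_reindex σ.symm (B := fromBlocks 1 B 0 A)
    (by rw [← hblock]; rfl))).of_sim (Equiv.refl _) ((Sim.trans ?_
      (LevCover.sim_blocks (Sim.refl 1) (sim_jm hAc (charpoly_unitri hAl hAd)))))
  refine ⟨fromBlocks 1 Z 0 1, fromBlocks 1 (-Z) 0 1, by simp [fromBlocks_multiply, fromBlocks_one],
    by simp [fromBlocks_multiply, fromBlocks_one], ?_⟩
  rw [fromBlocks_multiply, fromBlocks_multiply]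
  simp only [Matrix.one_mul, Matrix.mul_one, Matrix.zero_mul, Matrix.mul_zero, add_zero, zero_add]
  congr 1
  have h0 : B + Z * A - Z = 0 := by
    rw [add_sub_assoc]
    nth_rw 2 [← Matrix.mul_one Z]
    rw [← Matrix.mul_sub, hZ, add_neg_cancel]
  rw [← h0]; abel

theorem avoid_step {m w w' : ℕ} (hm : 8 ≤ m) (hw : 3 ≤ w) (hwm : w + 5 ≤ m) (h : Avoid m w') :
    Avoid (m - w) w' ∧ w < w' := by
  rw [Avoid, if_neg (by omega)] at h
  refine ⟨?_, by omega⟩
  unfold Avoid
  split_ifs with h7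
  · exact Or.inl (by omega)
  · omega

/-- The recursion step. -/
theorem good_of_corner {m w : ℕ} (hm : 8 ≤ m) (hw : 3 ≤ w) (hwm : w + 5 ≤ m) (hav : Avoid (m - w) w)
    (ih : ∀ S : Matrix (Fin (m - w)) (Fin (m - w)) Z₂, S.det ≠ 0 → ∃ q, GoodTwo (m - w) q ∧ Pre q S)
    {M : Matrix (Fin m) (Fin m) Z₂} (hdet : M.det ≠ 0) {D : Matrix (Fin w) (Fin w) Z₂} (hD : Pre (fam w) D)
    (hc : HasCorner D M) : ∃ p, GoodTwo m p ∧ Pre p M := by
  obtain ⟨v, σ, Xb, Y, Z, hsim⟩ := hc.blocks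
  obtain rfl : v = m - w := by
    have := Fintype.card_congr σ
    simp only [Fintype.card_sum, Fintype.card_fin] at this
    omega
  have hf := part_fam hw
  have hD0 : D.det ≠ 0 := by
    obtain ⟨R, hR, hs⟩ := hD
    intro h0
    have := hs.det_eq
    rw [det_mul, h0, zero_mul] at this
    refine hf.eval_ne (by omega) 0 ?_
    rw [← hR, Matrix.eval_charpoly]
    simp [Matrix.det_neg, ← this]
  have u : IsUnit D.det := isUnit_iff_ne_zero.2 hD0
  have e : fromBlocks 1 0 (Y * D⁻¹) 1 * fromBlocks D 0 0 (Z - Y * D⁻¹ * Xb) * fromBlocks 1 (D⁻¹ * Xb) 0 1 =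
      fromBlocks D Xb Y Z := by
    simp only [fromBlocks_multiply, Matrix.one_mul, Matrix.mul_one, Matrix.zero_mul, Matrix.mul_zero, add_zero, zero_add]
    congr 1
    · rw [Matrix.mul_nonsing_inv_cancel_left D Xb u]
    · rw [Matrix.nonsing_inv_mul_cancel_right D Y u]
    · rw [Matrix.nonsing_inv_mul_cancel_right D Y u, ← Matrix.mul_assoc, add_sub_cancel]
  have hS : (Z - Y * D⁻¹ * Xb).det ≠ 0 := by
    intro h0
    have h1 : (fromBlocks D Xb Y Z).det = 0 := by
      rw [← e, det_mul, det_mul, det_fromBlocks_zero₂₁ D, h0, mul_zero, mul_zero, zero_mul]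
    exact Sim.det_ne hsim.symm hdet h1
  obtain ⟨q, ⟨hq, hqa⟩, hS'⟩ := ih _ hS
  obtain ⟨hq0, ε, q₂, hε, hcase, hco⟩ := hq
  obtain rfl : ε = 1 := eq_one_of_ne ε fun h => by rw [h, mul_zero] at hε; exact zero_ne_one hε
  obtain ⟨a1, a2⟩ := hqa w hw hav
  have hq2 : q₂ ∣ q := by rcases hcase with rfl | ⟨rfl, -⟩; exacts [dvd_rfl, dvd_mul_left _ _]
  have h := pre_join hD hS' a1.symm (Y * D⁻¹) (D⁻¹ * Xb)
  rw [e] at h
  refine ⟨fam w * q, ⟨⟨?_, 1, fam w * q₂, one_mul 1, ?_, ?_⟩, fun w' hw' hav' => ?_⟩, h.of_sim σ hsim⟩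
  · rw [eval_mul]; exact mul_ne_zero (hf.eval_ne (by omega) 0) hq0
  · rcases hcase with rfl | ⟨rfl, h1⟩
    · exact Or.inl rfl
    · exact Or.inr ⟨by ring, by rw [eval_mul]; exact mul_ne_zero (hf.eval_ne (by omega) 1) h1⟩
  · obtain ⟨q₁, hq1⟩ := hq2
    have hr : IsCoprime (fam w) q₂.reverse := by
      refine (coprime_rev_swap hf.irr (hf.eval_ne (by omega) 0) a2).of_isCoprime_of_dvd_right ?_
      rw [hq1, reverse_mul_of_domain]
      exact dvd_mul_right _ _
    rw [reverse_mul_of_domain]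
    exact (hf.self.mul_right hr).mul_left (a2.mul_right hco)
  · obtain ⟨hv, hlt⟩ := avoid_step hm hw hwm hav'
    obtain ⟨b1, b2⟩ := hqa w' hw' hv
    obtain ⟨c1, c2⟩ := hf.coprime_of_deg (part_fam hw') (by omega) (by omega) (ne_of_lt hlt)
    exact ⟨c1.mul_left b1, c2.mul_left b2⟩

/-- Corners `1_a ⊕ Jm r` in `M` or its inverse. -/
theorem exists_corners {m : ℕ} (M : Matrix (Fin m) (Fin m) Z₂) (hdet : M.det ≠ 0) :
    ∃ W : ℕ, m ≤ 2 * W + 2 ∧ ∀ w, 1 ≤ w → w ≤ W → (Odd w ∨ w = W) →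
      ∃ a r, Odd r ∧ a + r = w ∧ (HasCorner (fromBlocks (1 : Matrix (Fin a) (Fin a) Z₂) 0 0 (Jm r)) M ∨
        HasCorner (fromBlocks (1 : Matrix (Fin a) (Fin a) Z₂) 0 0 (Jm r)) M⁻¹) := by
  classical
  by_cases hM : ∃ t : Z₂, M = t • 1
  · obtain ⟨t, rfl⟩ := hM
    refine ⟨m, by omega, fun w h1 hw _ => ⟨w - 1, 1, odd_one, by omega, Or.inl ?_⟩⟩
    refine ⟨t • 1, (finSumFinEquiv.toEmbedding.trans (Fin.castLEEmb (by omega))), Sim.refl _, ?_⟩
    have ht : t = 1 := eq_one_of_ne t fun h => hdet (by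
      haveI : Nonempty (Fin m) := ⟨⟨0, by omega⟩⟩
      rw [h, zero_smul, det_zero])
    subst ht
    rw [one_smul, Matrix.submatrix_one_embedding, ← fromBlocks_one]
    congr 1
    ext x y
    rw [Subsingleton.elim x y]
    simp [Jm]
  push Not at hM
  obtain ⟨d, m', a, X₀, Z₀, c, f₂, hd, hn, hc, hX, hsim, hev, hf2, hst⟩ := LevCover.exists_stack m M hdet hM
  have hstack := LevCover.Stack.cons X₀ Z₀ M hd hn hX ⟨dvd_rfl, hev, hf2⟩ hst hsim
  obtain ⟨n, g, hn', hg, hgsim⟩ := LevCover.Stack.split (a' := 0) (Nat.zero_add a) hstack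
  have hgd := LevCover.det_blocks_ne (hgsim.symm.det_ne hdet)
  obtain ⟨r, e, f, hnr, he, hf, hgdet, -, -, hlay⟩ := OreGL.exists_layouts hg hgd.1
  set k := ∑ i, e i with hk
  obtain ⟨D, Xb, Y, Z, P, T, W, G, hlsim, hinv, hD, hDχ, hGl, hGs, hGd, -, -⟩ :=
    hlay (fun i => (X - C 1) ^ e i) (fun i => ⟨(monic_X_sub_C 1).pow _, by rw [natDegree_pow, natDegree_X_sub_C, mul_one], by simp⟩) k hk
  have hc1 : c = 1 := eq_one_of_ne c hc
  subst hc1
  rw [one_smul] at hgsim
  have hfull : Sim (fromBlocks (fromBlocks D Xb Y Z) 0 0 (1 : Matrix (Fin a) (Fin a) Z₂)) M :=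
    (LevCover.sim_blocks hlsim (Sim.refl _)).trans hgsim
  let σ : (Fin k ⊕ Fin r) ⊕ Fin a ≃ Fin m :=
    (finSumFinEquiv.sumCongr (Equiv.refl _)).trans (finSumFinEquiv.trans (finCongr (by omega)))
  have hDJ : Sim D (Jm k) := sim_jm (LevCover.cyc_hess hD) (by rw [hDχ, Finset.prod_pow_eq_pow_sum])
  have hDcorner : HasCorner (Jm k) M :=
    (HasCorner.of_sim hfull σ ⟨fun i => Sum.inl (Sum.inl i), fun x y h => by simpa using h⟩
      (by ext x y; rfl)).conj (Equiv.refl _) hDJ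
  have hG1 : ∀ i, G i i = 1 := fun i => eq_one_of_ne _ fun h0 => by
    have := hGd i
    rw [h0, zero_mul] at this
    simp at this
  have hGJ : Sim G (Jm r) := by
    refine sim_jm (LevCover.cyc_of_isCyc (SLCommutator.isCyc_lower hGl (fun i j h _ => hGs i j h)
      fun i j k _ _ _ => by rw [hG1, hG1])) ?_
    rw [← Matrix.charpoly_transpose]
    exact charpoly_unitri (fun i j h => hGl j i h) hG1
  have hinv' : Sim (fromBlocks (fromBlocks P T W G) 0 0 (1 : Matrix (Fin a) (Fin a) Z₂)) M⁻¹ := by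
    have h1 : fromBlocks (fromBlocks D Xb Y Z) 0 0 (1 : Matrix (Fin a) (Fin a) Z₂) *
        fromBlocks (fromBlocks P T W G) 0 0 1 = 1 := by
      rw [fromBlocks_multiply]
      simp [hinv, fromBlocks_one]
    have h2 := hfull.inv (fun h0 => by
      have := congrArg det h1
      rw [det_mul, h0, zero_mul, det_one] at this
      exact zero_ne_one this)
    rwa [Matrix.inv_eq_right_inv h1] at h2
  have hGcorner : HasCorner (fromBlocks (1 : Matrix (Fin a) (Fin a) Z₂) 0 0 (Jm r)) M⁻¹ :=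
    (HasCorner.of_sim hinv' σ
      ⟨Sum.elim (fun i => Sum.inr i) (fun i => Sum.inl (Sum.inr i)), fun x y h => by
        rcases x with x | x <;> rcases y with y | y <;> simpa using h⟩
      (D := fromBlocks (1 : Matrix (Fin a) (Fin a) Z₂) 0 0 G) (by ext (x | x) (y | y) <;> rfl)).conj
      (Equiv.refl _) (LevCover.sim_blocks (Sim.refl _) hGJ)
  have hsubJ : ∀ {q q' : ℕ} (h : q' ≤ q), (Jm q).submatrix (Fin.castLE h) (Fin.castLE h) = Jm q' := fun h => by
    ext x y; simp [Jm, Fin.ext_iff]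
  have hr : 1 ≤ r := by
    by_contra h
    obtain rfl : r = 0 := by omega
    obtain rfl : n = 0 := by simpa [hk] using hnr
    obtain rfl : a = m := by omega
    refine hM 1 ?_
    have hs : Sim (1 : Matrix (Fin a) (Fin a) Z₂) M :=
      (((LevCover.sim_comm _ _).trans (OreGL.sim_padded _ _)).symm).trans hgsim
    obtain ⟨Q, Q', g1, -, g3⟩ := hs
    rw [g3, Matrix.mul_one, g1, one_smul]
  have hkm : k + r + a = m := by omega
  -- the larger of the two corners
  by_cases hK : (r - 1) / 2 * 2 + 1 + a + 1 ≤ k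
  · refine ⟨(k - 1) / 2 * 2 + 1, by omega, fun w h1 hw hwo => ⟨0, w, ?_, zero_add w, Or.inl ?_⟩⟩
    · rcases hwo with h | h
      · exact h
      · exact ⟨(k - 1) / 2, by omega⟩
    · refine (hDcorner.sub (Fin.castLEEmb (show w ≤ k by omega)) (hsubJ (show w ≤ k by omega))).conj
        (Equiv.emptySum (Fin 0) (Fin w)).symm (LevCover.Sim.of_reindex (Equiv.emptySum (Fin 0) (Fin w)).symm ?_)
      ext (x | x) (y | y)
      · exact x.elim0
      · exact x.elim0
      · exact y.elim0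
      · simp
  · refine ⟨(r - 1) / 2 * 2 + 1 + a, by omega, fun w h1 hw hwo => ?_⟩
    have hsub : ∀ a' r', a' ≤ a → r' ≤ r →
        HasCorner (fromBlocks (1 : Matrix (Fin a') (Fin a') Z₂) 0 0 (Jm r')) M⁻¹ := fun a' r' ha' hr' => by
      refine hGcorner.sub ⟨Sum.map (Fin.castLE ha') (Fin.castLE hr'),
        (Fin.castLE_injective ha').sumMap (Fin.castLE_injective hr')⟩ ?_
      ext (x | x) (y | y)
      · simp [Matrix.one_apply, Fin.ext_iff]
      · simp
      · simp
      · simp [Jm, Fin.ext_iff]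
    rcases Nat.lt_or_ge w ((r - 1) / 2 * 2 + 1) with hlt | hge
    · refine ⟨0, w, ?_, zero_add w, Or.inr (hsub 0 w (by omega) (by omega))⟩
      rcases hwo with h | h
      · exact h
      · omega
    · exact ⟨w - ((r - 1) / 2 * 2 + 1), (r - 1) / 2 * 2 + 1, ⟨(r - 1) / 2, by omega⟩, by omega,
        Or.inr (hsub _ _ (by omega) (by omega))⟩

/-- Good factorisations in dimension at least four. -/
theorem exists_good : ∀ (m : ℕ), 4 ≤ m → ∀ M : Matrix (Fin m) (Fin m) Z₂, M.det ≠ 0 →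
    ∃ p, GoodTwo m p ∧ Pre p M := by
  intro m
  induction m using Nat.strong_induction_on with
  | _ m ih =>
    intro hm M hdet
    by_cases h7 : m ≤ 7
    · rcases exists_base_two (by omega) h7 M hdet with ⟨h, -⟩ | h
      · omega
      · exact h
    obtain ⟨W, hW, hcor⟩ := exists_corners M hdet
    obtain ⟨w, h3, hwm, hwW, hwo, hav⟩ : ∃ w, 3 ≤ w ∧ w + 5 ≤ m ∧ w ≤ W ∧ (Odd w ∨ w = W) ∧ Avoid (m - w) w := by
      by_cases h10 : m ≤ 10
      · exact ⟨3, le_rfl, by omega, by omega, Or.inl ⟨1, rfl⟩, by rw [Avoid, if_pos (by omega)]; omega⟩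
      by_cases hWm : W + 5 ≤ m
      · exact ⟨W, by omega, hWm, le_rfl, Or.inr rfl, by unfold Avoid; split_ifs <;> omega⟩
      · exact ⟨(m - 6) / 2 * 2 + 1, by omega, by omega, by omega, Or.inl ⟨(m - 6) / 2, by omega⟩,
          by unfold Avoid; split_ifs <;> omega⟩
    obtain ⟨a, r, hr, har, hc⟩ := hcor w (by omega) hwW hwo
    let τ : Fin a ⊕ Fin r ≃ Fin w := finSumFinEquiv.trans (finCongr har)
    set D : Matrix (Fin w) (Fin w) Z₂ :=
      Matrix.reindex τ τ (fromBlocks (1 : Matrix (Fin a) (Fin a) Z₂) 0 0 (Jm r))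
    have hD : Pre (fam w) D := (pre_jm hr har h3).of_sim τ (LevCover.sim_reindex τ _)
    have ih' := ih (m - w) (by omega) (by omega)
    rcases hc with hc | hc
    · exact good_of_corner (by omega) h3 hwm hav ih' hdet hD (hc.conj τ (LevCover.sim_reindex τ _))
    · have hinv : M⁻¹.det ≠ 0 := by
        rw [Matrix.det_nonsing_inv, Ring.inverse_eq_inv']
        exact inv_ne_zero hdet
      obtain ⟨p, hp, hpre⟩ := good_of_corner (by omega) h3 hwm hav ih' hinv hD (hc.conj τ (LevCover.sim_reindex τ _))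
      exact ⟨p, hp, hpre.inv (Matrix.mul_nonsing_inv M (isUnit_iff_ne_zero.2 hdet))⟩

end CfsgLib.OreOrth.Two
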