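import Cfsg.Agent.OreOrth.TwoReps

/-!
# Certificates in dimension 4
-/

set_option autoImplicit false

namespace CfsgLib.OreOrth.Two

/-- Certificates in dimension 4. -/
def certs4 : List Cert :=
  [(33825, 54767, 54767, 31337, 17330, 0, 31337, 17330, 0),
  (33810, 0, 0, 0, 0, 0, 0, 0, 0),
  (18450, 63192, 28557, 51999, 39564, 0, 31844, 43391, 0),
  (51218, 27059, 63035, 9704, 47686, 0, 5511, 48638, 0),
  (33842, 38901, 38831, 52546, 60287, 0, 25147, 55900, 0),
  (18482, 62829, 24502, 6199, 57278, 0, 38788, 12895, 0),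
  (51250, 26558, 5723, 49722, 7005, 0, 46047, 65225, 0),
  (33300, 52791, 50046, 8522, 14319, 0, 63912, 25276, 0),
  (33364, 47575, 48617, 7251, 29418, 0, 53122, 25022, 0),
  (34324, 25597, 27859, 49784, 24342, 0, 6814, 15191, 0),
  (34388, 22184, 23782, 60661, 37662, 0, 43378, 45902, 0),
  (16920, 50939, 28604, 43496, 14172, 0, 19993, 62154, 0),
  (17048, 44006, 48842, 17141, 48797, 0, 55639, 61768, 0),
  (18968, 9726, 24034, 64360, 25506, 0, 64110, 19254, 0),
  (19096, 48340, 50939, 10044, 54679, 0, 43496, 14172, 0),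
  (49688, 60355, 23614, 37215, 54154, 0, 10714, 15222, 0),
  (49816, 60661, 12222, 53897, 32747, 0, 47222, 29348, 0),
  (51736, 26499, 7734, 64619, 41469, 0, 27741, 57225, 0),
  (51864, 54194, 59133, 51531, 61236, 0, 31141, 17179, 0)]

theorem check4 : checkAll 4 (reps 4 4) certs4 = true := by decide +kernel

end CfsgLib.OreOrth.Two
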