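import Cfsg.Agent.OreOrth.TwoCert3
import Cfsg.Agent.OreOrth.TwoCert4
import Cfsg.Agent.OreOrth.TwoCert5
import Cfsg.Agent.OreOrth.TwoCert6
import Cfsg.Agent.OreOrth.TwoCert7
import Cfsg.Agent.OreOrth.AltCrit
import Cfsg.Agent.LevCover.Pseudo

/-!
# Twisted factorisations in dimension at most seven over two elements
-/

set_option autoImplicit false
set_option linter.unusedSectionVars false

namespace CfsgLib.OreOrth.Two

open Matrix Polynomial
open CfsgLib.LevCover (Sim Cyc)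
open CfsgLib.OreGL (Pre)

local notation "Z₂" => ZMod 2

/-- Joining two coprime factorisations along a block LDU decomposition. -/
theorem pre_join {K : Type*} [Field K] {ι κ : Type*} [Fintype ι] [DecidableEq ι] [Fintype κ] [DecidableEq κ]
    {p₁ p₂ : K[X]} {D₁ : Matrix ι ι K} {D₂ : Matrix κ κ K} (h₁ : Pre p₁ D₁) (h₂ : Pre p₂ D₂)
    (hco : IsCoprime p₁ p₂) (Y : Matrix κ ι K) (Xb : Matrix ι κ K) :
    Pre (p₁ * p₂) (fromBlocks 1 0 Y 1 * fromBlocks D₁ 0 0 D₂ * fromBlocks 1 Xb 0 1) := by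
  obtain ⟨R₁, hR₁, hsim₁⟩ := h₁
  obtain ⟨R₂, hR₂, hsim₂⟩ := h₂
  set R := fromBlocks R₁ (-(Xb * R₂)) 0 R₂ with hR
  refine ⟨R, ?_, ?_⟩
  · rw [hR, Matrix.charpoly_fromBlocks_zero₂₁, hR₁, hR₂]
  · have he : fromBlocks 1 0 Y 1 * fromBlocks D₁ 0 0 D₂ * fromBlocks 1 Xb 0 1 * R =
        fromBlocks (D₁ * R₁) 0 (Y * (D₁ * R₁)) (D₂ * R₂) := by
      simp [hR, fromBlocks_multiply, Matrix.mul_assoc, Matrix.mul_add, Matrix.add_mul, Matrix.mul_neg]
    rw [he]
    refine (OreGL.sim_diag_upper (by rw [hR₁, hR₂]; exact hco) _).trans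
      ((LevCover.sim_blocks hsim₁ hsim₂).trans (OreGL.sim_diag_lower ?_ _).symm)
    rw [hsim₁.charpoly_eq, hsim₂.charpoly_eq, hR₁, hR₂]
    exact hco

theorem exists_charpoly {K : Type*} [Field K] {n : ℕ} (hn : 1 ≤ n) {p : K[X]} (hp : p.Monic)
    (hd : p.natDegree = n) : ∃ R : Matrix (Fin n) (Fin n) K, R.charpoly = p := by
  obtain ⟨k, rfl⟩ : ∃ k, n = k + 1 := ⟨n - 1, by omega⟩
  exact ⟨_, (OreGL.charpoly_comp_of_monic hp hd).1⟩

/-- `M` fixes a hyperplane pointwise and is not the identity. -/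
def IsTv {n : ℕ} (M : Matrix (Fin n) (Fin n) Z₂) : Prop :=
  ∃ u φ : Fin n → Z₂, u ≠ 0 ∧ φ ≠ 0 ∧ φ ⬝ᵥ u = 0 ∧ M = 1 + vecMulVec u φ

/-- The transvections factor through a linear and an irreducible part. -/
theorem pre_isTv {n : ℕ} (hn : 1 ≤ n) {M : Matrix (Fin (n + 1)) (Fin (n + 1)) Z₂} (hM : IsTv M) {p : Z₂[X]}
    (hp : p.Monic) (hd : p.natDegree = n) (hp1 : p.eval 1 ≠ 0) : Pre ((X - C 1) * p) M := by
  obtain ⟨u, φ, hu, hφ, hφu, rfl⟩ := hM
  obtain ⟨k, rfl⟩ : ∃ k, n = k + 1 := ⟨n - 1, by omega⟩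
  obtain ⟨R₂, hR₂⟩ := exists_charpoly (by omega) hp hd
  obtain ⟨R₁, hR₁⟩ := exists_charpoly (K := Z₂) (n := 1) le_rfl (monic_X_sub_C 1) (natDegree_X_sub_C 1)
  have h := pre_join (OreGL.pre_one hR₁) (OreGL.pre_one hR₂) (OreGL.coprime_linear hp1)
    (Matrix.single 0 0 1 : Matrix (Fin (k + 1)) (Fin 1) Z₂) 0
  simp only [fromBlocks_multiply, Matrix.one_mul, Matrix.mul_one, Matrix.zero_mul, Matrix.mul_zero, add_zero,
    zero_add] at h
  set σ : Fin 1 ⊕ Fin (k + 1) ≃ Fin (k + 1 + 1) := finSumFinEquiv.trans (finCongr (by omega))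
  set i₀ := σ (Sum.inr 0)
  set j₀ := σ (Sum.inl 0)
  have hne : i₀ ≠ j₀ := fun h => by simpa [i₀, j₀] using σ.injective h
  refine h.of_sim σ ((LevCover.Sim.of_reindex σ
    (B := 1 + vecMulVec (Pi.single i₀ 1) (Pi.single j₀ 1)) ?_).trans ?_)
  · ext i j
    obtain ⟨x, rfl⟩ := σ.surjective i
    obtain ⟨y, rfl⟩ := σ.surjective j
    rw [Matrix.reindex_apply, Matrix.submatrix_apply, Equiv.symm_apply_apply, Equiv.symm_apply_apply]
    rcases x with x | x <;> rcases y with y | y <;>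
      simp [i₀, j₀, Matrix.one_apply, vecMulVec_apply, Pi.single_apply, Matrix.single_apply, eq_comm, ite_and] <;>
      split_ifs <;> simp_all
  · refine LevCover.sim_rank_one (fun h => ?_) (fun h => ?_) hu hφ ?_
    · simpa using congrFun h i₀
    · simpa using congrFun h j₀
    · rw [hφu, single_dotProduct, Pi.single_eq_of_ne (Ne.symm hne), mul_zero]

/-- The degrees of the corners which the chosen polynomial avoids. -/
def Avoid (m w : ℕ) : Prop := if m ≤ 7 then (4 < w ∨ (w ≠ m ∧ w + 1 ≠ m)) else m < w + 3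

/-- The polynomials of the recursion. -/
structure GoodTwo (m : ℕ) (p : Z₂[X]) : Prop where
  alt : AltPoly p
  avoid : ∀ w, 3 ≤ w → Avoid m w → IsCoprime p (fam w) ∧ IsCoprime p (fam w).reverse

theorem charpoly_of_aeval {n : ℕ} (hn : 3 ≤ n) (hn' : n ≤ 7) {A : Matrix (Fin n) (Fin n) Z₂}
    (h : aeval A (baseP n) = 0) : A.charpoly = baseP n ∧ Cyc A := by
  have hb := part_baseP hn hn'
  haveI : Nonempty (Fin n) := ⟨⟨0, by omega⟩⟩
  have he := minpoly.eq_of_irreducible_of_monic hb.irr h hb.monic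
  have hd : baseP n ∣ A.charpoly := by rw [he]; exact Matrix.minpoly_dvd_charpoly A
  have hc := eq_of_monic_of_dvd_of_natDegree_le hb.monic (charpoly_monic A) hd
    (by rw [charpoly_natDegree_eq_dim, Fintype.card_fin, hb.deg])
  exact ⟨hc, _, LevCover.cycV_of_krylov (LevCover.cycAt_of_irreducible (c := Pi.single ⟨0, by omega⟩ 1)
    (by rw [hc]; exact hb.irr) (fun e => by simpa using congrFun e ⟨0, by omega⟩))⟩

theorem aeval_of_chainOK {n A A2 A3 A6 : ℕ} (h : chainOK n A A2 A3 A6 = true) :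
    (3 ≤ n ∧ n ≤ 7) ∧ aeval (bitMat n A) (baseP n) = 0 := by
  have hzero : ∀ (k : ℕ) (B : Matrix (Fin k) (Fin k) Z₂), B + B = 0 := fun k B => by
    have : ∀ z : Z₂, z + z = 0 := by decide
    ext i j; exact this _
  unfold chainOK at h
  simp only [Bool.and_eq_true] at h
  obtain ⟨h2, h'⟩ := h
  have e2 := of_mulOK h2
  simp only [Bool.false_eq_true, if_false, add_zero] at e2
  split at h'
  · refine ⟨⟨le_rfl, by omega⟩, ?_⟩
    have e3 := of_mulOK h'
    simp only [if_true] at e3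
    simp only [baseP, ofCoeffs, baseC, Fin.sum_univ_succ, Fin.sum_univ_zero]
    simp [pow_succ, e2, e3]
    rw [add_comm (1 : Matrix _ _ Z₂)]; exact hzero _ _
  · refine ⟨⟨by omega, by omega⟩, ?_⟩
    have e3 := of_mulOK h'
    simp only [if_true] at e3
    simp only [baseP, ofCoeffs, baseC, Fin.sum_univ_succ, Fin.sum_univ_zero]
    simp [pow_succ, e2, Matrix.mul_assoc]
    rw [e3]
    rw [add_comm (1 : Matrix _ _ Z₂)]; exact hzero _ _
  · refine ⟨⟨by omega, by omega⟩, ?_⟩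
    simp only [Bool.and_eq_true] at h'
    have e3 := of_mulOK h'.1
    have e5 := of_mulOK h'.2
    simp only [Bool.false_eq_true, if_false, if_true, add_zero] at e3 e5
    simp only [baseP, ofCoeffs, baseC, Fin.sum_univ_succ, Fin.sum_univ_zero]
    simp [pow_succ, e2, e3, Matrix.mul_assoc]
    rw [e5]
    rw [add_comm (1 : Matrix _ _ Z₂)]; exact hzero _ _
  · refine ⟨⟨by omega, by omega⟩, ?_⟩
    simp only [Bool.and_eq_true] at h'
    have e3 := of_mulOK h'.1
    have e6 := of_mulOK h'.2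
    simp only [Bool.false_eq_true, if_false, if_true, add_zero] at e3 e6
    have hp : bitMat 6 A ^ 6 = bitMat 6 A + 1 := by
      rw [show 6 = 3 + 3 from rfl, pow_add, pow_succ, pow_succ, pow_one, e2, e3, e6]
    simp only [baseP, ofCoeffs, baseC, Fin.sum_univ_succ, Fin.sum_univ_zero]
    simp [hp]
    rw [add_comm (1 : Matrix _ _ Z₂)]; exact hzero _ _
  · refine ⟨⟨by omega, le_rfl⟩, ?_⟩
    simp only [Bool.and_eq_true] at h'
    have e3 := of_mulOK h'.1.1
    have e6 := of_mulOK h'.1.2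
    have e7 := of_mulOK h'.2
    simp only [Bool.false_eq_true, if_false, if_true, add_zero] at e3 e6 e7
    have hp : bitMat 7 A ^ 7 = bitMat 7 A + 1 := by
      rw [show 7 = 3 + 3 + 1 from rfl, pow_add, pow_add, pow_succ, pow_succ, pow_one, e2, e3, e6, e7]
    simp only [baseP, ofCoeffs, baseC, Fin.sum_univ_succ, Fin.sum_univ_zero]
    simp [hp]
    rw [add_comm (1 : Matrix _ _ Z₂)]; exact hzero _ _
  · simp at h'

theorem goodTwo_base {m : ℕ} (hm : 3 ≤ m) (hm' : m ≤ 7) : GoodTwo m (baseP m) := by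
  have hb := part_baseP hm hm'
  refine ⟨⟨hb.eval_ne (by omega) 0, 1, baseP m, one_mul 1, Or.inl rfl, hb.self⟩, fun w hw h => ?_⟩
  rw [Avoid, if_pos hm'] at h
  exact baseP_coprime_fam hm hm' hw (h.imp id And.left)

theorem coprime_X_sub {w : ℕ} (hw : 3 ≤ w) {p : Z₂[X]} (h : Part w p) :
    IsCoprime (X - C 1) p ∧ IsCoprime (X - C 1) p.reverse := by
  refine ⟨OreGL.coprime_linear (h.eval_ne (by omega) 1), ?_⟩
  exact OreGL.coprime_linear fun h0 => h.eval_ne (show 2 ≤ w by omega) 1 (by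
    letI : Invertible (1 : Z₂) := invertibleOne
    have h2 := eval₂_reverse_eq_zero_iff (RingHom.id Z₂) (1 : Z₂) p
    rw [invOf_one] at h2
    exact h2.1 h0)

theorem goodTwo_tv {m : ℕ} (hm : 3 ≤ m) (hm' : m + 1 ≤ 7) : GoodTwo (m + 1) ((X - C 1) * baseP m) := by
  have hb := part_baseP hm (by omega)
  obtain ⟨c1, c2⟩ := coprime_X_sub hm hb
  refine ⟨⟨?_, 1, baseP m, one_mul 1, Or.inr ⟨rfl, hb.eval_ne (by omega) 1⟩, c2.mul_left hb.self⟩,
    fun w hw h => ?_⟩
  · rw [eval_mul]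
    exact mul_ne_zero (by simp) (hb.eval_ne (by omega) 0)
  · rw [Avoid, if_pos hm'] at h
    obtain ⟨a1, a2⟩ := baseP_coprime_fam hm (by omega) hw (h.imp id fun h => by omega)
    obtain ⟨b1, b2⟩ := coprime_X_sub hw (part_fam hw)
    exact ⟨b1.mul_left a1, b2.mul_left a2⟩

/-- The base of the recursion. -/
theorem exists_base_two {m : ℕ} (hm : 3 ≤ m) (hm' : m ≤ 7) (M : Matrix (Fin m) (Fin m) Z₂) (hdet : M.det ≠ 0) :
    (m = 3 ∧ IsTv M) ∨ ∃ p, GoodTwo m p ∧ Pre p M := by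
  obtain ⟨A, hA, hsim⟩ := exists_rep m m M le_rfl hdet
  obtain ⟨c, hc⟩ : ∃ c, certOK m A c = true := by
    rcases (show m = 3 ∨ m = 4 ∨ m = 5 ∨ m = 6 ∨ m = 7 by omega) with rfl | rfl | rfl | rfl | rfl
    · exact exists_cert check3 A hA
    · exact exists_cert check4 A hA
    · exact exists_cert check5 A hA
    · exact exists_cert check6 A hA
    · exact exists_cert check7 A hA
  obtain ⟨Mc, R, S, R2, R3, R6, S2, S3, S6⟩ := c
  rcases Nat.eq_zero_or_pos R with rfl | hR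
  · simp only [certOK, decide_eq_true_eq] at hc
    subst hc
    set v : Fin m → Z₂ := fun i => if i.val < 2 then 1 else 0 with hvdef
    have hv : v ≠ 0 := fun h => by simpa [v] using congrFun h ⟨0, by omega⟩
    have hvv : v ⬝ᵥ v = 0 := by
      rcases (show m = 3 ∨ m = 4 ∨ m = 5 ∨ m = 6 ∨ m = 7 by omega) with rfl | rfl | rfl | rfl | rfl <;> rfl
    obtain ⟨P, P', h1, h2, rfl⟩ := hsim
    have hi : ∀ x : Fin m → Z₂, P *ᵥ x = 0 → x = 0 := fun x hx => by
      have := congrArg (P' *ᵥ ·) hx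
      simpa [mulVec_mulVec, h2] using this
    have hi' : ∀ x : Fin m → Z₂, x ᵥ* P' = 0 → x = 0 := fun x hx => by
      have := congrArg (· ᵥ* P) hx
      simpa [vecMul_vecMul, h2] using this
    have htv : IsTv (P * baseT m * P') := by
      refine ⟨P *ᵥ v, v ᵥ* P', fun h => hv (hi _ h), fun h => hv (hi' _ h), ?_, ?_⟩
      · rw [← dotProduct_mulVec, mulVec_mulVec, h2, one_mulVec, hvv]
      · rw [baseT, ← hvdef, Matrix.mul_add, Matrix.mul_one, Matrix.add_mul, h1, mul_vecMulVec, vecMulVec_mul]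
    rcases Nat.lt_or_ge m 4 with h3 | h4
    · exact Or.inl ⟨by omega, htv⟩
    · obtain ⟨k, rfl⟩ : ∃ k, m = k + 1 := ⟨m - 1, by omega⟩
      have hb := part_baseP (d := k) (by omega) (by omega)
      exact Or.inr ⟨_, goodTwo_tv (by omega) (by omega),
        pre_isTv (by omega) htv hb.monic hb.deg (hb.eval_ne (by omega) 1)⟩
  · obtain ⟨r, rfl⟩ : ∃ r, R = r + 1 := ⟨R - 1, by omega⟩
    simp only [certOK, Bool.and_eq_true, List.all_eq_true, List.mem_finRange, forall_const, beq_iff_eq] at hc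
    obtain ⟨⟨⟨hM, hmul⟩, hcR⟩, hcS⟩ := hc
    have hA : A = bitMat m Mc := Matrix.ext fun i j => ZMod.val_injective 2 (hM i j)
    have hMR := of_mulOK hmul
    simp only [Bool.false_eq_true, if_false, add_zero, ← hA] at hMR
    obtain ⟨hRc, hRy⟩ := charpoly_of_aeval hm hm' (aeval_of_chainOK hcR).2
    obtain ⟨hSc, hSy⟩ := charpoly_of_aeval hm hm' (aeval_of_chainOK hcS).2
    refine Or.inr ⟨baseP m, goodTwo_base hm hm', OreGL.Pre.of_sim (Equiv.refl _) ⟨bitMat m (r + 1), hRc, ?_⟩ hsim⟩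
    rw [hMR]
    exact LevCover.sim_of_cyc hRy hSy (hRc.trans hSc.symm)

end CfsgLib.OreOrth.Two
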