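import Cfsg.Agent.OreOrth.TwoReps

/-!
# Certificates in dimension 3
-/

set_option autoImplicit false

namespace CfsgLib.OreOrth.Two

/-- Certificates in dimension 3. -/
def certs3 : List Cert :=
  [(273, 491, 491, 102, 250, 0, 102, 250, 0),
  (266, 0, 0, 0, 0, 0, 0, 0, 0),
  (282, 478, 491, 172, 207, 0, 102, 250, 0),
  (140, 253, 491, 142, 492, 0, 102, 250, 0),
  (172, 172, 370, 370, 445, 0, 478, 99, 0),
  (396, 157, 106, 247, 396, 0, 157, 379, 0),
  (428, 397, 478, 491, 156, 0, 172, 207, 0)]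

theorem check3 : checkAll 3 (reps 3 3) certs3 = true := by decide +kernel

end CfsgLib.OreOrth.Two
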