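import Cfsg.Agent.OreOrth.Two
import Cfsg.Agent.OreOrth.Three
import Cfsg.Agent.OreOrth.Criterion
import Cfsg.Agent.OreOrth.Recursion
import Cfsg.Agent.OreOrth.Planes

/-!
# Commutators in `Ω⁺` and `Ω⁻` over two elements
-/

set_option autoImplicit false
set_option linter.unusedSectionVars false

namespace CfsgLib.OreOrth.Two

open Matrix Polynomial CfsgLib.Spinor CfsgLib.Forms
open CfsgLib.LevCover (Sim)
open CfsgLib.OreGL (Pre)

local notation "Z₂" => ZMod 2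

theorem exists_fac_z2 {m : ℕ} (hm : 3 ≤ m) (M : (Matrix (Fin m) (Fin m) Z₂)ˣ)
    (h : m = 3 → ¬ IsTv (M : Matrix (Fin m) (Fin m) Z₂)) :
    ∃ R S : (Matrix (Fin m) (Fin m) Z₂)ˣ, GoodAlt (R : Matrix (Fin m) (Fin m) Z₂) ∧ M * R = S * R * S⁻¹ := by
  have hdet : (M : Matrix (Fin m) (Fin m) Z₂).det ≠ 0 := by rw [det_eq_one_unit]; exact one_ne_zero
  obtain ⟨p, hp, R, hR, hsim⟩ : ∃ p, GoodTwo m p ∧ Pre p (M : Matrix (Fin m) (Fin m) Z₂) := by
    rcases Nat.lt_or_ge m 4 with h4 | h4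
    · rcases exists_base_two hm (by omega) _ hdet with ⟨h3, htv⟩ | hgood
      · exact absurd htv (h h3)
      · exact hgood
    · exact exists_good m h4 _ hdet
  have hd : R.det ≠ 0 := fun h0 => hp.alt.1 (by rw [← hR, Matrix.eval_charpoly]; simp [Matrix.det_neg, h0])
  obtain ⟨R', S, rfl, hMR⟩ := exists_units hd hsim
  exact ⟨R', S, goodAlt_of_charpoly hR hp.alt, hMR⟩

theorem not_scalar_or_one {ι : Type} [Fintype ι] [DecidableEq ι] [Nonempty ι] {Q : QuadraticForm Z₂ (ι → Z₂)}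
    (g : ↥(Cfsg.isometryGroup Z₂ ⇑Q)) : (∀ c : Z₂, mat Q g ≠ c • 1) ∨ g = 1 := by
  by_cases h : g = 1
  · exact Or.inr h
  refine Or.inl fun c hc => ?_
  rcases (show ∀ z : Z₂, z = 0 ∨ z = 1 by decide) c with rfl | rfl
  · have h1 := congrArg Matrix.det (show mat Q g * mat Q g⁻¹ = 1 by rw [← mat_mul, mul_inv_cancel, mat_one])
    rw [hc, zero_smul, Matrix.zero_mul, det_zero, det_one] at h1
    exact zero_ne_one h1
  · exact h (mat_ext Q (by rw [hc, one_smul, mat_one]))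

theorem isSquare_z2 (z : Z₂) : IsSquare z := ⟨z, by revert z; decide⟩

/-- Minus type. -/
theorem isOre_minus_aux (Q₀ : QuadraticForm Z₂ (Fin 2 → Z₂)) (hQv : ∀ w, Q₀ w = qb (w 0) (w 1))
    (hQ : (QuadraticMap.polarBilin Q₀).Nondegenerate) {m : ℕ} (hm : 3 ≤ m)
    {g : ↥(Cfsg.isometryGroup Z₂ ⇑(frQ m Q₀))} (hg : g ∈ Cfsg.Omega Z₂ ⇑(frQ m Q₀)) : IsOre (frQ m Q₀) g := by
  have ha : Q₀ ![1, 0] = 1 := by rw [hQv]; rfl
  have hb : Q₀ ![0, 1] = 1 := by rw [hQv]; rfl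
  have ha0 : Q₀ ![1, 0] ≠ 0 := by rw [ha]; exact one_ne_zero
  have hb0 : Q₀ ![0, 1] ≠ 0 := by rw [hb]; exact one_ne_zero
  have hτ : rotTrace Q₀ ![1, 0] ![0, 1] = 1 := by
    have : QuadraticMap.polar (⇑Q₀) ![1, 0] ![0, 1] = 1 := by
      simp only [QuadraticMap.polar, hQv]; rfl
    rw [rotTrace, this, ha, hb, show (2 : Z₂) = 0 from rfl]
    simp
  have hgen : ∀ l ∈ Lo (m := m) Q₀, ∀ u ∈ Up (m := m) Q₀, ∀ M : (Matrix (Fin m) (Fin m) Z₂)ˣ,
      (m = 3 → ¬ IsTv (M : Matrix (Fin m) (Fin m) Z₂)) → IsOre (frQ m Q₀) (l * dg Q₀ M 1 * u) := by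
    intro l hl u hu M hM
    obtain ⟨R, S, hR, hMR⟩ := exists_fac_z2 hm M hM
    exact isComm_of_triangular Q₀ hQ hm (Fintype.card_fin 2) hl hu hMR hR ha0 hb0 ha0 ha0
      (isSquare_z2 _) (isSquare_z2 _) fun lam h => by
        rw [hτ] at h
        exact absurd h (by revert lam; decide)
  obtain ⟨k, rfl⟩ : ∃ k, m = k + 1 := ⟨m - 1, by omega⟩
  haveI : Nonempty (Fr (k + 1) (Fin 2)) := ⟨Sum.inr 0⟩
  obtain ⟨P, M, l, hl, u, hu, -, -, he⟩ := exists_decomposition Q₀ hQ (Fintype.card_fin 2) k g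
    (Adm.of_omega hg) (not_scalar_or_one g)
  refine IsOre.of_conj P ?_
  rw [he]
  by_cases htv : k + 1 = 3 ∧ IsTv (M : Matrix (Fin (k + 1)) (Fin (k + 1)) Z₂)
  · obtain ⟨h3, htv⟩ := htv
    obtain rfl : k = 2 := by omega
    exact isOre_tv hQv hQ (fun l hl u hu M hM => hgen l hl u hu M fun _ => hM) hl hu htv
  · exact hgen l hl u hu M fun h h' => htv ⟨h, h'⟩

/-- Minus type. -/
theorem isOre_minus {m : ℕ} (hm : 3 ≤ m) {g : ↥(Cfsg.isometryGroup Z₂ ⇑(frQ m (binQ (1 : Z₂) 1)))}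
    (hg : g ∈ Cfsg.Omega Z₂ ⇑(frQ m (binQ (1 : Z₂) 1))) : IsOre (frQ m (binQ (1 : Z₂) 1)) g :=
  isOre_minus_aux _ (fun w => by rw [binQ_apply, qb]; ring) (binQ_nondegenerate (by decide)) hm hg

theorem up_middle {F : Type*} [Field F] {m : ℕ} {β : Type} [Fintype β] [DecidableEq β]
    {Q₀ : QuadraticForm F (β → F)} {u : ↥(Cfsg.isometryGroup F ⇑(frQ m Q₀))} (hu : u ∈ Up Q₀) :
    (∀ p, mat (frQ m Q₀) u *ᵥ fv p 0 0 = fv p 0 0) ∧
      ∀ w, ∃ p', mat (frQ m Q₀) u *ᵥ fv 0 0 w = fv p' 0 w := by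
  have hss : swap Q₀ (swap Q₀ u) = u := fr_ext Q₀ fun p q w => by
    obtain ⟨p', q', w', h⟩ := exists_fv (mat (frQ m Q₀) u *ᵥ fv p q w)
    rw [swap_mulVec Q₀ _ p q w (swap_mulVec Q₀ u q p w h), h]
  refine ⟨fun p => ?_, fun w => ?_⟩
  · have := swap_mulVec Q₀ (swap Q₀ u) p 0 0 (hu.1 p)
    rwa [hss] at this
  · obtain ⟨p', hp⟩ := hu.2 w
    have := swap_mulVec Q₀ (swap Q₀ u) 0 0 w hp
    rw [hss] at this
    exact ⟨p', this⟩

/-- Plus type. -/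
theorem isOre_plus {n : ℕ} (hn : 4 ≤ n) {g : ↥(Cfsg.isometryGroup Z₂ ⇑(frQ n (nilQ Z₂)))}
    (hg : g ∈ Cfsg.Omega Z₂ ⇑(frQ n (nilQ Z₂))) : IsOre (frQ n (nilQ Z₂)) g := by
  obtain ⟨k, rfl⟩ : ∃ k, n = k + 1 + 1 := ⟨n - 2, by omega⟩
  set H := hypQ Z₂
  set g₁ := (toPairs (F := Z₂) (k + 1)).symm g
  have hg₁ : g₁ ∈ Cfsg.Omega Z₂ ⇑(frQ (k + 1) H) := map_mem_omega (toPairs (k + 1)).symm.toMonoidHom hg
  haveI : Nonempty (Fr (k + 1) (Fin 2)) := ⟨Sum.inr 0⟩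
  obtain ⟨P, M, l, hl, u, hu, -, -, he⟩ := exists_decomposition H hypQ_nondegenerate (Fintype.card_fin 2) k g₁
    (Adm.of_omega hg₁) (not_scalar_or_one g₁)
  refine IsOre.of_conj (toPairs (k + 1) P) ?_
  have hx : (toPairs (k + 1) P)⁻¹ * g * toPairs (k + 1) P = toPairs (k + 1) (l * dg H M 1 * u) := by
    rw [← he, map_mul, map_mul, map_inv, show toPairs (k + 1) g₁ = g from (toPairs (k + 1)).apply_symm_apply g]
  rw [hx]
  set x := toPairs (F := Z₂) (k + 1) (l * dg H M 1 * u) with hxdef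
  have hinj : ∀ p', bpp (mat (frQ (k + 1 + 1) (nilQ Z₂)) x) *ᵥ p' = 0 → p' = 0 := by
    intro p' h0
    set p := p' ∘ Fin.castSucc
    set s := p' (Fin.last (k + 1))
    obtain ⟨hlp, hlw⟩ := lo_blocks hl
    obtain ⟨hup, huw⟩ := up_middle hu
    obtain ⟨p₁, hp₁⟩ := huw ![s, 0]
    have hcomp : fv p' 0 (0 : Empty → Z₂) ∘ pairEquiv (k + 1) = fv p 0 0 + fv 0 0 ![s, 0] := by
      funext i
      rcases i with (i | i) | i
      · simp [fv, pairEquiv, p]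
      · simp [fv, pairEquiv]
      · fin_cases i <;> simp [fv, pairEquiv, s]
    have hval : mat (frQ (k + 1) H) (l * dg H M 1 * u) *ᵥ (fv p 0 0 + fv 0 0 ![s, 0]) =
        mat (frQ (k + 1) H) l *ᵥ fv ((M : Matrix (Fin (k + 1)) (Fin (k + 1)) Z₂) *ᵥ (p + p₁)) 0 0 +
          mat (frQ (k + 1) H) l *ᵥ fv 0 0 ![s, 0] := by
      rw [mat_mul, mat_mul, ← mulVec_mulVec, ← mulVec_mulVec, mulVec_add (mat (frQ (k + 1) H) u), hup, hp₁,
        ← mulVec_add (mat (frQ (k + 1) H) l)]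
      congr 1
      simp only [fv_add, add_zero, zero_add, dg_mulVec, mulVec_zero, mat_one, one_mulVec]
    rw [hlp, hlw] at hval
    have hA : ∀ i, (mat (frQ (k + 1 + 1) (nilQ Z₂)) x *ᵥ fv p' 0 0) (Sum.inl (Sum.inl i)) = 0 := fun i => by
      rw [mulVec_first]; exact congrFun h0 i
    rw [hxdef, toPairs, reidx_mulVec, hcomp, hval] at hA
    have e1 : (M : Matrix (Fin (k + 1)) (Fin (k + 1)) Z₂) *ᵥ (p + p₁) = 0 := funext fun i => by
      have := hA i.castSucc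
      simpa [pairEquiv, fv] using this
    have e2 : s = 0 := by
      have := hA (Fin.last (k + 1))
      simpa [pairEquiv, fv, e1] using this
    have e3 : p₁ = 0 := by
      have hz : ![s, (0 : Z₂)] = 0 := by ext i; fin_cases i <;> simp [e2]
      rw [hz, fv_zero, mulVec_zero, ← fv_zero, fv_inj] at hp₁
      exact hp₁.1.symm
    have e4 : p = 0 := by
      have := congrArg (fun v => (↑M⁻¹ : Matrix (Fin (k + 1)) (Fin (k + 1)) Z₂) *ᵥ v) e1
      simpa [mulVec_mulVec, e3] using this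
    funext i
    refine Fin.lastCases ?_ (fun i => ?_) i
    · exact e2
    · exact congrFun e4 i
  obtain ⟨A, hA⟩ : IsUnit (bpp (mat (frQ (k + 1 + 1) (nilQ Z₂)) x)) :=
    Matrix.mulVec_injective_iff_isUnit.1 fun v v' h =>
      sub_eq_zero.1 (hinj _ (by rw [mulVec_sub]; exact sub_eq_zero.2 h))
  obtain ⟨l', hl', u', hu', hx'⟩ := exists_big_cell (nilQ Z₂) nilQ_nondegenerate x A hA
    (by ext i; exact i.elim)
  rw [hx']
  obtain ⟨R, S, hR, hMR⟩ := exists_fac_z2 (by omega) A (fun h => by omega)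
  exact isComm_of_quadratic (nilQ Z₂) nilQ_nondegenerate hl' hu' hMR hR (c := 1) (z := 1)
    (dg_mem_of_det _ (by omega) R (det_eq_one_unit R)) (dg_mem_of_det _ (by omega) S (det_eq_one_unit S))
    rfl (τ := 1) (fun x => funext fun e => e.elim) fun lam h => absurd h (by revert lam; decide)

end CfsgLib.OreOrth.Two
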