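import Cfsg.Agent.OreGL.Pairs

/-!
# Irreducible polynomials over the field with two elements for the join recursion

`fam w` has degree `w` and is prime to its reverse; `basePoly` is a second choice in degrees three to six.
-/

set_option autoImplicit false
set_option linter.unusedSectionVars false

namespace CfsgLib.OreOrth.Two

open Polynomial

local notation "Z₂" => ZMod 2

/-- A root of a nonzero constant-term irreducible polynomial and its inverse. -/
theorem coprime_rev_swap {p q : Z₂[X]} (hp : Irreducible p) (hp0 : p.eval 0 ≠ 0)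
    (h : IsCoprime q p.reverse) : IsCoprime p q.reverse := by
  haveI : Fact (Irreducible p) := ⟨hp⟩
  have hx : aeval (AdjoinRoot.root p) p = 0 := by
    rw [AdjoinRoot.aeval_eq, AdjoinRoot.mk_self]
  refine OreGL.coprime_swap hp hx (fun h0 => hp0 ?_) h
  rw [h0, ← coeff_zero_eq_aeval_zero'] at hx
  rw [← coeff_zero_eq_eval_zero]
  exact (map_eq_zero _).1 hx

/-- Admissible irreducible polynomials. -/
structure Part (w : ℕ) (p : Z₂[X]) : Prop where
  monic : p.Monic
  deg : p.natDegree = w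
  irr : Irreducible p
  self : IsCoprime p p.reverse

theorem Part.eval_ne {w : ℕ} {p : Z₂[X]} (h : Part w p) (hw : 2 ≤ w) (c : Z₂) : p.eval c ≠ 0 := fun h0 =>
  h.irr.not_isRoot_of_natDegree_ne_one (by rw [h.deg]; omega) h0

theorem Part.coprime_of_deg {a b : ℕ} {p q : Z₂[X]} (hp : Part a p) (hq : Part b q) (ha : 2 ≤ a) (hb : 2 ≤ b)
    (h : a ≠ b) : IsCoprime p q ∧ IsCoprime p q.reverse := by
  have hr : ∀ {c : ℕ} {r : Z₂[X]}, Part c r → r.reverse ≠ 0 ∧ r.reverse.natDegree ≤ c := fun hc =>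
    ⟨fun h0 => hc.monic.ne_zero (reverse_eq_zero.1 h0), hc.deg ▸ reverse_natDegree_le _⟩
  rcases Nat.lt_or_ge b a with hlt | hge
  · exact ⟨OreGL.coprime_of_deg_lt hp.irr hq.monic.ne_zero (by rw [hp.deg, hq.deg]; omega),
      OreGL.coprime_of_deg_lt hp.irr (hr hq).1 (by rw [hp.deg]; have := (hr hq).2; omega)⟩
  · refine ⟨(OreGL.coprime_of_deg_lt hq.irr hp.monic.ne_zero (by rw [hp.deg, hq.deg]; omega)).symm, ?_⟩
    exact coprime_rev_swap hp.irr (hp.eval_ne ha 0)
      (OreGL.coprime_of_deg_lt hq.irr (hr hp).1 (by rw [hq.deg]; have := (hr hp).2; omega))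

theorem exists_part_aux {F : Type*} [Field F] [Fintype F] [CharP F 2] (hc : Fintype.card F = 2) (w : ℕ) (hw : 3 ≤ w) :
    ∃ p : F[X], p.Monic ∧ p.natDegree = w ∧ Irreducible p ∧ IsCoprime p p.reverse := by
  haveI : NeZero w := ⟨by omega⟩
  let E := FiniteField.Extension F 2 w
  haveI : Fintype E := Fintype.ofFinite E
  obtain ⟨μ, hord, -⟩ := OreGL.exists_generator (F := F) (p := 2) (n := w)
  rw [hc] at hord
  have hint : IsIntegral F (μ : E) := IsIntegral.of_finite F _
  set f := minpoly F (μ : E)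
  have hfi : Irreducible f := minpoly.irreducible hint
  have hfin : Module.finrank F E = w := FiniteField.finrank_extension F 2 w
  have hb : ∀ d, d < w → 2 * 2 ^ d ≤ 2 ^ w := fun d hd => by
    rw [← pow_succ']; exact Nat.pow_le_pow_right (by norm_num) hd
  have h8 : 8 ≤ 2 ^ w := le_trans (by norm_num) (Nat.pow_le_pow_right (show 1 ≤ 2 by norm_num) hw)
  have hd : f.natDegree = w := by
    by_contra hne
    have hle : f.natDegree ≤ w := hfin ▸ minpoly.natDegree_le (μ : E)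
    have h := (Irreducible.natDegree_dvd_iff_dvd_X_pow_card_pow_sub_X hfi).1 (dvd_refl f.natDegree)
    have h' := aeval_eq_zero_of_dvd_aeval_eq_zero h (minpoly.aeval F (μ : E))
    rw [map_sub, map_pow, aeval_X, sub_eq_zero, Nat.card_eq_fintype_card, hc] at h'
    have h1 : 1 ≤ 2 ^ f.natDegree := Nat.one_le_pow _ _ (by norm_num)
    have h2 : μ ^ (2 ^ f.natDegree - 1) = 1 := by
      refine Units.ext (mul_right_cancel₀ μ.ne_zero ?_)
      rw [Units.val_pow_eq_pow_val, ← pow_succ, Nat.sub_add_cancel h1, h', Units.val_one, one_mul]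
    have h3 := orderOf_dvd_of_pow_eq_one h2
    rw [hord] at h3
    have h4 : 0 < f.natDegree := hfi.natDegree_pos
    have h5 : 2 ≤ 2 ^ f.natDegree := le_trans (by norm_num) (Nat.pow_le_pow_right (show 1 ≤ 2 by norm_num) h4)
    have h6 := Nat.le_of_dvd (by omega) h3
    have := hb f.natDegree (by omega)
    omega
  refine ⟨f, minpoly.monic hint, hd, hfi, OreGL.coprime_reverse_of_root hfi (minpoly.aeval F _) μ.ne_zero
    fun h0 => ?_⟩
  have he : minpoly F (μ : E) = minpoly F ((μ : E)⁻¹) :=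
    minpoly.eq_of_irreducible_of_monic hfi h0 (minpoly.monic hint)
  obtain ⟨i, hi, hie⟩ := OreGL.conj_exponent he
  rw [hc] at hie
  have h2 : μ ^ (2 ^ i + 1) = 1 := Units.ext (by
    rw [Units.val_pow_eq_pow_val, pow_succ, ← hie, inv_mul_cancel₀ μ.ne_zero, Units.val_one])
  have h3 := orderOf_dvd_of_pow_eq_one h2
  rw [hord] at h3
  have := hb i hi
  exact absurd (Nat.le_of_dvd (by positivity) h3) (by omega)

theorem exists_part (w : ℕ) (hw : 3 ≤ w) : ∃ p, Part w p :=
  let ⟨p, h1, h2, h3, h4⟩ := exists_part_aux (ZMod.card 2) w hw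
  ⟨p, h1, h2, h3, h4⟩

/-- A polynomial from its lower coefficients. -/
noncomputable def ofCoeffs {d : ℕ} (c : Fin d → Z₂) : Z₂[X] := X ^ d + ∑ i : Fin d, C (c i) * X ^ (i : ℕ)

theorem ofCoeffs_spec {d : ℕ} (c : Fin d → Z₂) :
    (ofCoeffs c).Monic ∧ (ofCoeffs c).natDegree = d := by
  have hdeg : (∑ i : Fin d, C (c i) * X ^ (i : ℕ)).degree < (d : WithBot ℕ) := by
    refine lt_of_le_of_lt (degree_sum_le _ _) ?_
    rw [Finset.sup_lt_iff (show (⊥ : WithBot ℕ) < (d : WithBot ℕ) from WithBot.bot_lt_coe d)]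
    exact fun i _ => lt_of_le_of_lt (degree_C_mul_X_pow_le _ _) (WithBot.coe_lt_coe.2 i.isLt)
  have hm : (ofCoeffs c).Monic := monic_X_pow_add hdeg
  refine ⟨hm, ?_⟩
  rw [ofCoeffs, natDegree_add_eq_left_of_degree_lt (by rw [degree_X_pow]; exact hdeg), natDegree_X_pow]

theorem coeff_ofCoeffs {d : ℕ} (c : Fin d → Z₂) (i : Fin d) : (ofCoeffs c).coeff i = c i := by
  rw [ofCoeffs, coeff_add, coeff_X_pow, if_neg i.isLt.ne, zero_add, finsetSum_coeff]
  rw [Finset.sum_eq_single i]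
  · simp
  · intro j _ hj
    rw [coeff_C_mul, coeff_X_pow, if_neg (fun h => hj (Fin.ext h.symm)), mul_zero]
  · exact fun h => absurd (Finset.mem_univ _) h

theorem eq_ofCoeffs {p : Z₂[X]} (hp : p.Monic) {d : ℕ} (hd : p.natDegree = d) :
    p = ofCoeffs fun i : Fin d => p.coeff i := by
  subst hd
  conv_lhs => rw [hp.as_sum]
  rw [ofCoeffs, Finset.sum_range]


/-- The coefficients of `ofCoeffs c`. -/
def cf {d : ℕ} (c : Fin d → Z₂) (k : ℕ) : Z₂ := if h : k < d then c ⟨k, h⟩ else if k = d then 1 else 0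

theorem coeff_eq_cf {d : ℕ} (c : Fin d → Z₂) (k : ℕ) : (ofCoeffs c).coeff k = cf c k := by
  obtain ⟨hm, hd⟩ := ofCoeffs_spec c
  unfold cf
  split_ifs with h1 h2
  · exact coeff_ofCoeffs c ⟨k, h1⟩
  · subst h2
    conv_lhs => arg 2; rw [← hd]
    exact hm.coeff_natDegree
  · exact coeff_eq_zero_of_natDegree_lt (by omega)

/-- No monic factor of at most half the degree. -/
def NoFactor {d : ℕ} (c : Fin d → Z₂) : Prop :=
  ∀ a : Fin (d / 2), ∀ g : Fin (a.val + 1) → Z₂, ∀ f : Fin (d - (a.val + 1)) → Z₂, ∃ k : Fin d,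
    ∑ x ∈ Finset.HasAntidiagonal.antidiagonal k.val, cf f x.1 * cf g x.2 ≠ c k

instance {d : ℕ} (c : Fin d → Z₂) : Decidable (NoFactor c) := by unfold NoFactor; infer_instance

/-- The coefficients of `c` differ from those of `e` and from those read backwards. -/
def Apart {d : ℕ} (c e : Fin d → Z₂) : Prop :=
  (∃ k : Fin d, c k ≠ e k) ∧ ∃ k : Fin (d + 1), cf c k.val ≠ cf e (d - k.val)

instance {d : ℕ} (c e : Fin d → Z₂) : Decidable (Apart c e) := by unfold Apart; infer_instance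

theorem irreducible_ofCoeffs {d : ℕ} (c : Fin d → Z₂) (hd : 1 ≤ d) (h : NoFactor c) :
    Irreducible (ofCoeffs c) := by
  obtain ⟨hm, hdeg⟩ := ofCoeffs_spec c
  refine (hm.irreducible_iff_natDegree' ).2 ⟨fun h1 => by rw [h1, natDegree_one] at hdeg; omega, ?_⟩
  intro f g hf hg he hmem
  rw [Finset.mem_Ioc, hdeg] at hmem
  have hfd : f.natDegree = d - g.natDegree := by
    rw [← hdeg, ← he, hf.natDegree_mul hg, Nat.add_sub_cancel]
  obtain ⟨a, ha⟩ : ∃ a, g.natDegree = a + 1 := ⟨g.natDegree - 1, by omega⟩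
  obtain ⟨k, hk⟩ := h ⟨a, by omega⟩ (fun i => g.coeff i) (fun i => f.coeff i)
  apply hk
  have e1 := eq_ofCoeffs hg ha
  have e2 := eq_ofCoeffs hf (hfd.trans (by rw [ha]))
  simp only [← coeff_eq_cf, ← e1, ← e2]
  rw [← coeff_mul, he, coeff_ofCoeffs]

theorem not_dvd_reverse {d : ℕ} {p : Z₂[X]} (c : Fin d → Z₂) (hp : p.Monic) (hdeg : p.natDegree = d)
    (h0 : p.coeff 0 = 1) (h : ∃ k : Fin (d + 1), cf c k.val ≠ p.coeff (d - k.val)) :
    ¬ ofCoeffs c ∣ p.reverse := fun hdvd => by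
  obtain ⟨hm, hd⟩ := ofCoeffs_spec c
  have hr : p.reverse.Monic := by
    unfold Monic
    rw [reverse_leadingCoeff, trailingCoeff, natTrailingDegree_eq_zero.2 (Or.inr (by rw [h0]; exact one_ne_zero)), h0]
  have he := eq_of_monic_of_dvd_of_natDegree_le hm hr hdvd (by rw [hd, ← hdeg]; exact reverse_natDegree_le p)
  obtain ⟨k, hk⟩ := h
  apply hk
  rw [← coeff_eq_cf, ← he, coeff_reverse, hdeg, revAt_le (by omega)]

theorem part_ofCoeffs {d : ℕ} (c : Fin d → Z₂) (hd : 1 ≤ d)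
    (h : NoFactor c ∧ cf c 0 = 1 ∧ ∃ k : Fin (d + 1), cf c k.val ≠ cf c (d - k.val)) :
    Part d (ofCoeffs c) := by
  obtain ⟨hm, hdeg⟩ := ofCoeffs_spec c
  refine ⟨hm, hdeg, irreducible_ofCoeffs c hd h.1, ((irreducible_ofCoeffs c hd h.1).coprime_iff_not_dvd).2
    (not_dvd_reverse c hm hdeg (by rw [coeff_eq_cf]; exact h.2.1) ?_)⟩
  simpa only [coeff_eq_cf] using h.2.2

theorem coprime_ofCoeffs {d : ℕ} (c e : Fin d → Z₂) (hp : Part d (ofCoeffs c)) (he : cf e 0 = 1)
    (h : Apart c e) : IsCoprime (ofCoeffs c) (ofCoeffs e) ∧ IsCoprime (ofCoeffs c) (ofCoeffs e).reverse := by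
  obtain ⟨hm, hdeg⟩ := ofCoeffs_spec e
  refine ⟨(hp.irr.coprime_iff_not_dvd).2 fun hdvd => ?_, (hp.irr.coprime_iff_not_dvd).2
    (not_dvd_reverse c hm hdeg (by rw [coeff_eq_cf]; exact he) (by simpa only [coeff_eq_cf] using h.2))⟩
  obtain ⟨k, hk⟩ := h.1
  have e1 := eq_of_monic_of_dvd_of_natDegree_le hp.monic hm hdvd (by rw [hdeg, hp.deg])
  exact hk (by rw [← coeff_ofCoeffs c k, ← coeff_ofCoeffs e k, e1])

/-- Lower coefficients of the first choice in degrees three to seven. -/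
def baseC : (d : ℕ) → Fin d → Z₂
  | 5 => ![1, 0, 1, 0, 0]
  | _ => fun i => if i.val ≤ 1 then 1 else 0

/-- The first choice. -/
noncomputable def baseP (d : ℕ) : Z₂[X] := ofCoeffs (baseC d)

def famC5 : Fin 5 → Z₂ := ![1, 0, 1, 1, 1]

def famC6 : Fin 6 → Z₂ := ![1, 1, 0, 1, 1, 0]

def famC7 : Fin 7 → Z₂ := ![1, 0, 0, 1, 0, 0, 0]

/-- The polynomial of the corner of size `w`. -/
noncomputable def fam (w : ℕ) : Z₂[X] :=
  if w = 5 then ofCoeffs famC5 else if w = 6 then ofCoeffs famC6 else if w = 7 then ofCoeffs famC7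
  else if h : 3 ≤ w then (exists_part w h).choose else 1

theorem part_baseP {d : ℕ} (h : 3 ≤ d) (h' : d ≤ 7) : Part d (baseP d) := by
  refine part_ofCoeffs (baseC d) (by omega) ?_
  rcases (show d = 3 ∨ d = 4 ∨ d = 5 ∨ d = 6 ∨ d = 7 by omega) with rfl | rfl | rfl | rfl | rfl <;>
    decide +kernel

theorem part_fam {w : ℕ} (h : 3 ≤ w) : Part w (fam w) := by
  unfold fam
  split_ifs with h5 h6 h7
  · subst h5; exact part_ofCoeffs _ (by omega) (by decide +kernel)
  · subst h6; exact part_ofCoeffs _ (by omega) (by decide +kernel)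
  · subst h7; exact part_ofCoeffs _ (by omega) (by decide +kernel)
  · exact (exists_part w h).choose_spec

theorem baseP_coprime_fam {d w : ℕ} (hd : 3 ≤ d) (hd' : d ≤ 7) (hw : 3 ≤ w) (h : 4 < w ∨ w ≠ d) :
    IsCoprime (baseP d) (fam w) ∧ IsCoprime (baseP d) (fam w).reverse := by
  by_cases hne : w = d
  · subst hne
    unfold fam
    rcases (show w = 5 ∨ w = 6 ∨ w = 7 by omega) with rfl | rfl | rfl
    · rw [if_pos rfl]; exact coprime_ofCoeffs _ famC5 (part_baseP hd hd') (by decide) (by decide +kernel)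
    · rw [if_neg (by omega), if_pos rfl]
      exact coprime_ofCoeffs _ famC6 (part_baseP hd hd') (by decide) (by decide +kernel)
    · rw [if_neg (by omega), if_neg (by omega), if_pos rfl]
      exact coprime_ofCoeffs _ famC7 (part_baseP hd hd') (by decide) (by decide +kernel)
  · exact (part_baseP hd hd').coprime_of_deg (part_fam hw) (by omega) (by omega) (Ne.symm hne)

end CfsgLib.OreOrth.Two
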