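import Cfsg.Agent.OreOrth.TwoPoly
import Cfsg.Agent.OreGL.Tri
import Cfsg.Agent.LevCover.Ctrl
import Cfsg.Agent.LevCover.Shapes
import Cfsg.Agent.LevCover.Blocks

/-!
# Normal forms in dimension at most seven over the field with two elements

`reps` lists companion block sums up to similarity; `Cert` holds, for each of them, a matrix `R` whose
powers show that `R` and `M * R` are annihilated by the same irreducible polynomial.
-/

set_option autoImplicit false
set_option linter.unusedSectionVars false

namespace CfsgLib.OreOrth.Two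

open Matrix Polynomial
open CfsgLib.LevCover (Sim Cyc)

local notation "Z₂" => ZMod 2

/-- All vectors of a length. -/
def allV : (d : ℕ) → List (Fin d → Z₂)
  | 0 => [Fin.elim0]
  | d + 1 => (allV d).flatMap fun v => [Fin.cons 0 v, Fin.cons 1 v]

theorem mem_allV : ∀ (d : ℕ) (v : Fin d → Z₂), v ∈ allV d
  | 0, v => List.mem_singleton.2 (funext fun i => i.elim0)
  | d + 1, v => by
    rw [allV, List.mem_flatMap]
    refine ⟨Fin.tail v, mem_allV d _, ?_⟩
    have h : ∀ z : Z₂, z = 0 ∨ z = 1 := by decide
    rcases h (v 0) with h0 | h0 <;> simp [← h0, Fin.cons_self_tail]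

/-- A companion matrix. -/
def comp2 {d : ℕ} (c : Fin d → Z₂) : Matrix (Fin d) (Fin d) Z₂ :=
  Matrix.of fun i l => if l.val + 1 = d then c i else if i.val = l.val + 1 then 1 else 0

/-- A block sum. -/
def blk2 {a b n : ℕ} (h : a + b = n) (X : Matrix (Fin a) (Fin a) Z₂) (Z : Matrix (Fin b) (Fin b) Z₂) :
    Matrix (Fin n) (Fin n) Z₂ :=
  Matrix.reindex (finSumFinEquiv.trans (finCongr h)) (finSumFinEquiv.trans (finCongr h)) (fromBlocks X 0 0 Z)

/-- Companion block sums. -/
def reps : ℕ → (n : ℕ) → List (Matrix (Fin n) (Fin n) Z₂)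
  | 0, _ => [1]
  | f + 1, n => 1 :: (List.range (n - 1)).flatMap fun i =>
      if h : i + 2 + (n - (i + 2)) = n then
        (allV (i + 1)).flatMap fun v => (reps f (n - (i + 2))).map (blk2 h (comp2 (Fin.cons 1 v)))
      else []

theorem exists_rep : ∀ (f n : ℕ) (M : Matrix (Fin n) (Fin n) Z₂), n ≤ f → M.det ≠ 0 →
    ∃ A ∈ reps f n, Sim A M := by
  have htwo : ∀ z : Z₂, z ≠ 0 → z = 1 := by decide
  intro f
  induction f with
  | zero =>
    intro n M hn _
    obtain rfl : n = 0 := by omega
    exact ⟨1, List.mem_singleton.2 rfl, 0, 0, by ext i; exact i.elim0, by ext i; exact i.elim0, by ext i; exact i.elim0⟩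
  | succ f ih =>
    intro n M hn hM
    by_cases hs : ∀ t : Z₂, M ≠ t • 1
    · obtain ⟨d, m, X, Z, hd, hdm, hX, hsim, -⟩ := LevCover.exists_summand M hM hs
      obtain ⟨hXd, hZd⟩ := LevCover.det_blocks_ne (hsim.symm.det_ne hM)
      obtain ⟨A, hA, hAZ⟩ := ih m Z (by omega) hZd
      obtain ⟨i, rfl⟩ : ∃ i, d = i + 2 := ⟨d - 2, by omega⟩
      set v : Fin (i + 1) → Z₂ := fun j => X.charpoly.coeff (j.val + 1) with hv
      have hc : comp2 (Fin.cons 1 v) = SLCommutator.comp X.charpoly (i + 1 + 1) := by
        have hneg : ∀ z : Z₂, -z = z := by decide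
        have h0 : X.charpoly.coeff 0 = 1 := by
          refine htwo _ fun h => hXd ?_
          rw [Matrix.det_eq_sign_charpoly_coeff, h, mul_zero]
        ext a b
        simp only [comp2, SLCommutator.comp, Matrix.of_apply, hneg]
        refine Fin.cases ?_ (fun j => ?_) a <;> simp [h0, hv]
      obtain ⟨hχ, hcyc⟩ := OreGL.charpoly_comp_of_monic (charpoly_monic X)
        (by rw [charpoly_natDegree_eq_dim, Fintype.card_fin])
      have hXc : Sim (comp2 (Fin.cons 1 v)) X := by
        rw [hc]; exact LevCover.sim_of_cyc hcyc hX hχ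
      obtain rfl : m = n - (i + 2) := by omega
      refine ⟨blk2 hdm (comp2 (Fin.cons 1 v)) A, ?_, ?_⟩
      · rw [reps, List.mem_cons, List.mem_flatMap]
        refine Or.inr ⟨i, List.mem_range.2 (by omega), ?_⟩
        rw [dif_pos hdm, List.mem_flatMap]
        exact ⟨v, mem_allV _ v, List.mem_map.2 ⟨A, hA, rfl⟩⟩
      · exact ((LevCover.sim_reindex _ _).symm.trans (LevCover.sim_blocks hXc hAZ)).trans hsim
    · push Not at hs
      obtain ⟨t, rfl⟩ := hs
      rcases Nat.eq_zero_or_pos n with rfl | hpos
      · exact ⟨1, by simp [reps], 0, 0, by ext i; exact i.elim0, by ext i; exact i.elim0, by ext i; exact i.elim0⟩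
      · have ht : t = 1 := htwo t fun h => hM (by
          haveI : Nonempty (Fin n) := ⟨⟨0, hpos⟩⟩
          rw [h, zero_smul, det_zero])
        rw [ht, one_smul]
        exact ⟨1, by simp [reps], Sim.refl _⟩

/-- A matrix from a bit code. -/
def bitMat (n code : ℕ) : Matrix (Fin n) (Fin n) Z₂ :=
  Matrix.of fun i j => if Nat.testBit code (n * i.val + j.val) then 1 else 0

/-- An entry of a product of coded matrices. -/
def dotBit (n A B i j : ℕ) : ℕ → Bool
  | 0 => false
  | l + 1 => Bool.xor (dotBit n A B i j l) (Nat.testBit A (n * i + l) && Nat.testBit B (n * l + j))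

/-- A row of a product of coded matrices, with junk above `2 ^ n`. -/
def rowAcc (n A B i : ℕ) : ℕ → ℕ
  | 0 => 0
  | l + 1 => if Nat.testBit A (n * i + l) then rowAcc n A B i l ^^^ (B >>> (n * l)) else rowAcc n A B i l

theorem testBit_rowAcc (n A B i j : ℕ) : ∀ k, Nat.testBit (rowAcc n A B i k) j = dotBit n A B i j k
  | 0 => by simp [rowAcc, dotBit]
  | k + 1 => by
    rw [rowAcc, dotBit, ← testBit_rowAcc n A B i j k]
    cases Nat.testBit A (n * i + k) <;> simp [Nat.testBit_xor, Nat.testBit_shiftRight]

/-- The product of the coded matrices is `C + δ` for the coded `C`, with `δ` one or zero. -/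
def mulOK (n A B C : ℕ) (d : Bool) : Bool :=
  (List.range n).all fun i =>
    rowAcc n A B i n % 2 ^ n == ((C >>> (n * i)) ^^^ (if d then 2 ^ i else 0)) % 2 ^ n

theorem dot_of_mulOK {n A B C : ℕ} {d : Bool} (h : mulOK n A B C d = true) {i j : ℕ} (hi : i < n) (hj : j < n) :
    dotBit n A B i j n = Bool.xor (Nat.testBit C (n * i + j)) (d && i == j) := by
  simp only [mulOK, List.all_eq_true, List.mem_range, beq_iff_eq] at h
  have h1 := congrArg (fun x => Nat.testBit x j) (h i hi)
  simp only [Nat.testBit_mod_two_pow, hj, decide_true, Bool.true_and, testBit_rowAcc, Nat.testBit_xor,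
    Nat.testBit_shiftRight] at h1
  rw [h1]
  congr 1
  cases d <;> simp [Nat.testBit_two_pow, beq_eq_decide]

theorem of_mulOK {n A B C : ℕ} {d : Bool} (h : mulOK n A B C d = true) :
    bitMat n A * bitMat n B = bitMat n C + if d then 1 else 0 := by
  ext i j
  have hx : ∀ x y : Bool, ((if Bool.xor x y then 1 else 0 : Z₂)) = (if x then 1 else 0) + (if y then 1 else 0) := by
    decide
  have hk : ∀ k ≤ n, (if dotBit n A B i.val j.val k then 1 else 0 : Z₂) = ∑ l ∈ Finset.range k,
      (if Nat.testBit A (n * i.val + l) then 1 else 0) * (if Nat.testBit B (n * l + j.val) then 1 else 0) := by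
    intro k
    induction k with
    | zero => simp [dotBit]
    | succ k ih =>
      intro hk
      rw [dotBit, hx, Finset.sum_range_succ, ← ih (by omega)]
      congr 1
      cases Nat.testBit A (n * i.val + k) <;> simp
  have h2 := hk n le_rfl
  rw [dot_of_mulOK h i.isLt j.isLt, hx, Finset.sum_range] at h2
  simp only [Matrix.mul_apply, bitMat, Matrix.of_apply, Matrix.add_apply, ← h2]
  congr 1
  cases d <;> simp [Matrix.one_apply, Fin.ext_iff]

/-- The chain of powers annihilating with the first choice, on codes. -/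
def chainOK (n A A2 A3 A6 : ℕ) : Bool :=
  mulOK n A A A2 false && match n with
    | 3 => mulOK n A2 A A true
    | 4 => mulOK n A2 A2 A true
    | 5 => mulOK n A2 A A3 false && mulOK n A3 A2 A2 true
    | 6 => mulOK n A2 A A3 false && mulOK n A3 A3 A true
    | 7 => mulOK n A2 A A3 false && mulOK n A3 A3 A6 false && mulOK n A6 A A true
    | _ => false

/-- The base transvection. -/
def baseT (n : ℕ) : Matrix (Fin n) (Fin n) Z₂ :=
  1 + vecMulVec (fun i => if i.val < 2 then 1 else 0) (fun i => if i.val < 2 then 1 else 0)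

/-- A certificate: codes for `M`, `R`, `M R` and powers; zero after `M` for the transvection. -/
abbrev Cert : Type := ℕ × ℕ × ℕ × ℕ × ℕ × ℕ × ℕ × ℕ × ℕ

/-- The certificate fits the matrix. -/
def certOK (n : ℕ) (M : Matrix (Fin n) (Fin n) Z₂) : Cert → Bool
  | (_, 0, _) => decide (M = baseT n)
  | (A, R, S, R2, R3, R6, S2, S3, S6) =>
      ((List.finRange n).all fun i => (List.finRange n).all fun j => (M i j).val == (bitMat n A i j).val) && mulOK n A R S false &&
      chainOK n R R2 R3 R6 && chainOK n S S2 S3 S6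

/-- Listwise check. -/
def checkAll (n : ℕ) : List (Matrix (Fin n) (Fin n) Z₂) → List Cert → Bool
  | [], _ => true
  | _ :: _, [] => false
  | A :: As, c :: cs => certOK n A c && checkAll n As cs

theorem exists_cert {n : ℕ} : ∀ {As : List (Matrix (Fin n) (Fin n) Z₂)} {cs : List Cert},
    checkAll n As cs = true → ∀ A ∈ As, ∃ c, certOK n A c = true
  | [], _, _, _, hA => by simp at hA
  | _ :: _, [], h, _, _ => by simp [checkAll] at h
  | A :: As, c :: cs, h, B, hB => by
    simp only [checkAll, Bool.and_eq_true] at h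
    rcases List.mem_cons.1 hB with rfl | hB
    · exact ⟨c, h.1⟩
    · exact exists_cert h.2 B hB

end CfsgLib.OreOrth.Two
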